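import Cfsg.Agent.Lib.Char.SymChar.Symm

/-!
The number of symmetric tuples of given core and weight with all diagonal hooks prime to `p`.
-/

set_option autoImplicit false

namespace Cfsg.Agent.Char.SymChar

open Finset

/-! ### Families of sets of given sizes and excess -/

/-- Remove the largest element, shift up, and add zero. -/
def dropTop (s : Finset ℕ) : Finset ℕ := insert 0 ((s.erase (s.sup id)).image (· + 1))

theorem sup_mem {s : Finset ℕ} (h : s.Nonempty) : s.sup id ∈ s := by
  obtain ⟨x, hx, he⟩ := Finset.exists_mem_eq_sup s h id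
  rwa [he]

theorem dropTop_spec {s : Finset ℕ} (h : s.Nonempty) :
    (dropTop s).card = s.card ∧
      ∑ x ∈ dropTop s, x + (s.sup id + 1) = ∑ x ∈ s, x + s.card ∧
      insert (s.sup id) (((dropTop s).erase 0).image (· - 1)) = s := by
  have hmem := sup_mem h
  have h0 : (0 : ℕ) ∉ (s.erase (s.sup id)).image (· + 1) := by simp
  have hinj : Function.Injective (· + 1 : ℕ → ℕ) := add_left_injective 1
  have hpos := Finset.card_pos.2 h
  refine ⟨?_, ?_, ?_⟩
  · rw [dropTop, Finset.card_insert_of_notMem h0, Finset.card_image_of_injective _ hinj,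
      Finset.card_erase_of_mem hmem]
    omega
  · rw [dropTop, Finset.sum_insert h0, Finset.sum_image hinj.injOn, Finset.sum_add_distrib,
      ← Finset.add_sum_erase s (fun x => x) hmem, Finset.sum_const, Finset.card_erase_of_mem hmem]
    simp only [smul_eq_mul, mul_one]
    omega
  · rw [dropTop, Finset.erase_insert h0, Finset.image_image]
    simp only [Function.comp_def, Nat.add_sub_cancel, Finset.image_id']
    exact Finset.insert_erase hmem

theorem eq_range_of_sum {s : Finset ℕ} {m : ℕ} (hc : s.card = m)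
    (hs : 2 * ∑ x ∈ s, x ≤ m * (m - 1)) : s = range m := by
  obtain ⟨h1, h2⟩ := card_mul_le_two_sum m s hc
  exact Finset.eq_of_subset_of_card_le (fun x hx => Finset.mem_range.2 (h2 (by omega) x hx))
    (by rw [Finset.card_range, hc])

theorem sup_gt {s : Finset ℕ} {m : ℕ} (hc : s.card = m)
    (hs : m * (m - 1) < 2 * ∑ x ∈ s, x) : s.Nonempty ∧ m ≤ s.sup id := by
  have hne : s.Nonempty := by
    rw [Finset.nonempty_iff_ne_empty]
    rintro rfl
    simp at hs
  refine ⟨hne, ?_⟩
  by_contra h
  push Not at h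
  have hsub : s ⊆ range m := fun x hx =>
    Finset.mem_range.2 (lt_of_le_of_lt (Finset.le_sup (f := id) hx) h)
  rw [Finset.eq_of_subset_of_card_le hsub (by rw [Finset.card_range, hc]), mul_comm 2,
    Finset.sum_range_id_mul_two] at hs
  exact lt_irrefl _ hs

theorem count_excess (R : Finset ℕ) (m : ℕ → ℕ) : ∀ (j : ℕ) (A : Finset (ℕ → Finset ℕ)),
    (∀ Q ∈ A, (∀ r ∈ R, (Q r).card = m r) ∧ (∀ r, r ∉ R → Q r = ∅) ∧
      2 * ∑ r ∈ R, ∑ x ∈ Q r, x = ∑ r ∈ R, m r * (m r - 1) + 2 * j) →
    A.card ≤ bd (R.card + 1) j := by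
  classical
  intro j
  induction j using Nat.strong_induction_on with
  | _ j IH =>
    intro A hA
    rcases Nat.eq_zero_or_pos j with rfl | hj
    · have h1 : ∀ Q ∈ A, ∀ r, Q r = if r ∈ R then range (m r) else ∅ := by
        intro Q hQ r
        obtain ⟨hc, h0, hs⟩ := hA Q hQ
        split_ifs with hr
        · refine eq_range_of_sum (hc r hr) (not_lt.1 fun h => ?_)
          have : ∑ r ∈ R, m r * (m r - 1) < ∑ r ∈ R, 2 * ∑ x ∈ Q r, x :=
            Finset.sum_lt_sum (fun t ht => (card_mul_le_two_sum _ _ (hc t ht)).1) ⟨r, hr, h⟩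
          rw [← Finset.mul_sum] at this
          omega
        · exact h0 r hr
      rw [bd, Finset.card_le_one]
      exact fun Q hQ Q' hQ' => funext fun r => (h1 Q hQ r).trans (h1 Q' hQ' r).symm
    have hcover : A ⊆ (range j).biUnion fun k => R.biUnion fun r =>
        A.filter fun Q => (Q r).Nonempty ∧ (Q r).sup id = m r + k := by
      intro Q hQ
      obtain ⟨hc, h0, hs⟩ := hA Q hQ
      obtain ⟨r, hr, hlt⟩ : ∃ r ∈ R, m r * (m r - 1) < 2 * ∑ x ∈ Q r, x := by
        by_contra hno
        push Not at hno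
        have := Finset.sum_le_sum hno
        rw [← Finset.mul_sum] at this
        omega
      obtain ⟨hne, hge⟩ := sup_gt (hc r hr) hlt
      obtain ⟨hd1, hd2, -⟩ := dropTop_spec hne
      have hb := (card_mul_le_two_sum (m r) _ (hd1.trans (hc r hr))).1
      have hrest : ∑ t ∈ R.erase r, m t * (m t - 1) ≤ ∑ t ∈ R.erase r, 2 * ∑ x ∈ Q t, x :=
        Finset.sum_le_sum fun t ht => (card_mul_le_two_sum _ _ (hc t (Finset.mem_of_mem_erase ht))).1
      rw [← Finset.add_sum_erase R (fun t => ∑ x ∈ Q t, x) hr,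
        ← Finset.add_sum_erase R (fun t => m t * (m t - 1)) hr, Nat.mul_add] at hs
      rw [← Finset.mul_sum] at hrest
      rw [hc r hr] at hd2
      refine Finset.mem_biUnion.2 ⟨(Q r).sup id - m r, Finset.mem_range.2 (by omega),
        Finset.mem_biUnion.2 ⟨r, hr, Finset.mem_filter.2 ⟨hQ, hne, by omega⟩⟩⟩
    refine (Finset.card_le_card hcover).trans (Finset.card_biUnion_le.trans
      ((Finset.sum_le_sum fun k hk => Finset.card_biUnion_le.trans
        (Finset.sum_le_sum (g := fun _ => bd (R.card + 1) (j - (k + 1))) fun r hr => ?_)).trans ?_))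
    · set B := A.filter fun Q => (Q r).Nonempty ∧ (Q r).sup id = m r + k with hB
      have hinj : Set.InjOn (fun Q => Function.update Q r (dropTop (Q r))) (B : Set (ℕ → Finset ℕ)) := by
        intro Q hQ Q' hQ' he
        funext t
        rcases eq_or_ne t r with rfl | ht
        · obtain ⟨-, hne, hk1⟩ := Finset.mem_filter.1 hQ
          obtain ⟨-, hne', hk2⟩ := Finset.mem_filter.1 hQ'
          have h1 := congrFun he t
          simp only [Function.update_self] at h1
          rw [← (dropTop_spec hne).2.2, ← (dropTop_spec hne').2.2, hk1, hk2, h1]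
        · simpa [Function.update_of_ne ht] using congrFun he t
      rw [← Finset.card_image_of_injOn hinj]
      refine IH _ (by have := Finset.mem_range.1 hk; omega) _ fun P hP => ?_
      obtain ⟨Q, hQ, rfl⟩ := Finset.mem_image.1 hP
      obtain ⟨hQA, hne, hk1⟩ := Finset.mem_filter.1 hQ
      obtain ⟨hc, h0, hs⟩ := hA Q hQA
      obtain ⟨hd1, hd2, -⟩ := dropTop_spec hne
      refine ⟨fun t ht => ?_, fun t ht => ?_, ?_⟩
      · rcases eq_or_ne t r with rfl | h
        · rw [Function.update_self, hd1, hc t ht]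
        · rw [Function.update_of_ne h, hc t ht]
      · rw [Function.update_of_ne (fun h => ht (by rwa [h])), h0 t ht]
      · rw [hc r hr] at hd2
        rw [← Finset.add_sum_erase R (fun t => ∑ x ∈ Q t, x) hr] at hs
        have hupd : ∑ t ∈ R.erase r, ∑ x ∈ Function.update Q r (dropTop (Q r)) t, x =
            ∑ t ∈ R.erase r, ∑ x ∈ Q t, x := Finset.sum_congr rfl fun t ht => by
          rw [Function.update_of_ne (Finset.ne_of_mem_erase ht)]
        rw [← Finset.add_sum_erase R
          (fun t => ∑ x ∈ Function.update Q r (dropTop (Q r)) t, x) hr, hupd, Function.update_self]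
        have := Finset.mem_range.1 hk
        omega
    · obtain ⟨i, rfl⟩ := Nat.exists_eq_succ_of_ne_zero hj.ne'
      simp only [Finset.sum_const, smul_eq_mul, ← Finset.mul_sum, Nat.succ_eq_add_one, bd,
        Nat.add_sub_cancel]
      refine Nat.mul_le_mul_left _ (le_of_eq ?_)
      rw [← sum_bd R.card.succ_pos i, ← Finset.sum_range_reflect (bd (R.card + 1)) (i + 1)]
      exact Finset.sum_congr rfl fun k _ => by congr 1; omega

/-! ### Runners of a symmetric set -/

/-- The residue paired with `r` by the reflection of `[0, 2N)`. -/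
def pr (N p r : ℕ) : ℕ := ((2 * (N : ℤ) - 1 - r) % p).toNat

theorem pr_lt {N p : ℕ} (hp : 0 < p) (r : ℕ) : pr N p r < p := by
  have h1 := Int.emod_lt_of_pos (2 * (N : ℤ) - 1 - r) (show (0 : ℤ) < p by exact_mod_cast hp)
  have h2 := Int.emod_nonneg (2 * (N : ℤ) - 1 - r) (show (p : ℤ) ≠ 0 by exact_mod_cast hp.ne')
  rw [pr]
  omega

theorem pr_pr {N p r : ℕ} (hp : 0 < p) (hr : r < p) : pr N p (pr N p r) = r := by
  have h2 := Int.emod_nonneg (2 * (N : ℤ) - 1 - r) (show (p : ℤ) ≠ 0 by exact_mod_cast hp.ne')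
  rw [pr, pr, Int.toNat_of_nonneg h2, Int.emod_def (2 * (N : ℤ) - 1 - r),
    show 2 * (N : ℤ) - 1 - (2 * (N : ℤ) - 1 - r - (p : ℤ) * ((2 * (N : ℤ) - 1 - r) / p)) =
      (r : ℤ) + (p : ℤ) * ((2 * (N : ℤ) - 1 - r) / p) by ring,
    Int.add_mul_emod_self_left, Int.emod_eq_of_lt (Int.natCast_nonneg r) (by exact_mod_cast hr),
    Int.toNat_natCast]

theorem pr_mirror {N p x y : ℕ} (h : x + y + 1 = 2 * N) : pr N p (x % p) = y % p := by
  have h1 : 2 * (N : ℤ) - 1 - ((x % p : ℕ) : ℤ) = (y : ℤ) + (p : ℤ) * ((x : ℤ) / p) := by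
    rw [Int.natCast_mod, Int.emod_def]
    omega
  rw [pr, h1, Int.add_mul_emod_self_left, ← Int.natCast_mod, Int.toNat_natCast]

/-- The runner of a set of naturals. -/
def runner (p : ℕ) (S : Finset ℕ) (r : ℕ) : Finset ℕ := (S.filter (· % p = r)).image (· / p)

theorem mem_runner {p : ℕ} {S : Finset ℕ} {r q : ℕ} (hr : r < p) :
    q ∈ runner p S r ↔ p * q + r ∈ S := by
  simp only [runner, Finset.mem_image, Finset.mem_filter]
  constructor
  · rintro ⟨x, ⟨hx, rfl⟩, rfl⟩
    rwa [Nat.div_add_mod]
  · intro h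
    refine ⟨p * q + r, ⟨h, ?_⟩, ?_⟩
    · rw [Nat.mul_add_mod, Nat.mod_eq_of_lt hr]
    · rw [Nat.mul_add_div (by omega), Nat.div_eq_of_lt hr, add_zero]

/-- A symmetric set. -/
def SymSet (N : ℕ) (S : Finset ℕ) : Prop :=
  ∀ x, x ∈ S ↔ x < 2 * N ∧ (2 * N - 1 - x) ∉ S

variable {N p : ℕ} {S : Finset ℕ}

theorem runner_pr (hp : 0 < p) (hS : SymSet N S) {r : ℕ} (hr : r < p) :
    runner p S (pr N p r) =
      (range ((2 * N + p - 1 - r) / p) \ runner p S r).image ((2 * N + p - 1 - r) / p - 1 - ·) := by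
  set L := (2 * N + p - 1 - r) / p with hL
  set r' := pr N p r with hr'
  have hr'p : r' < p := pr_lt hp r
  have hLq : ∀ q q' : ℕ, p * q + r + (p * q' + r') + 1 = 2 * N → L = q + q' + 1 := by
    intro q q' h
    rw [hL, show 2 * N + p - 1 - r = r' + p * (q + q' + 1) by
      rw [mul_add, mul_add, mul_one]; omega, Nat.add_mul_div_left _ _ hp, Nat.div_eq_of_lt hr'p]
    omega
  ext q'
  rw [mem_runner hr'p, Finset.mem_image]
  constructor
  · intro h
    obtain ⟨h1, h2⟩ := (hS _).1 h
    set x := 2 * N - 1 - (p * q' + r') with hx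
    have hxr : x % p = r := by
      rw [← pr_mirror (N := N) (p := p) (x := p * q' + r') (y := x) (by omega), Nat.mul_add_mod,
        Nat.mod_eq_of_lt hr'p, hr', pr_pr hp hr]
    have hd := Nat.div_add_mod x p
    rw [hxr] at hd
    have hl := hLq (x / p) q' (by omega)
    refine ⟨x / p, Finset.mem_sdiff.2 ⟨Finset.mem_range.2 (by omega), ?_⟩, by omega⟩
    rw [mem_runner hr, hd]
    exact h2
  · rintro ⟨q, hq, rfl⟩
    obtain ⟨h1, h2⟩ := Finset.mem_sdiff.1 hq
    rw [mem_runner hr] at h2
    have hlt : p * q + r < 2 * N := by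
      have := (Nat.le_div_iff_mul_le hp).1 (Nat.succ_le_of_lt (Finset.mem_range.1 h1))
      rw [Nat.succ_eq_add_one, add_mul, one_mul, mul_comm q] at this
      omega
    set y := 2 * N - 1 - (p * q + r) with hy
    have hyr : y % p = r' := by
      rw [← pr_mirror (N := N) (p := p) (x := p * q + r) (y := y) (by omega), Nat.mul_add_mod,
        Nat.mod_eq_of_lt hr]
    have hd := Nat.div_add_mod y p
    rw [hyr] at hd
    have hl := hLq q (y / p) (by omega)
    rw [show L - 1 - q = y / p by rw [hl]; generalize y / p = z; omega, hd]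
    refine (hS y).2 ⟨by omega, ?_⟩
    rwa [show 2 * N - 1 - y = p * q + r by omega]

theorem excess_pr (hp : 0 < p) (hS : SymSet N S) {r : ℕ} (hr : r < p) :
    (2 * ∑ x ∈ runner p S (pr N p r), (x : ℤ)) -
        ((runner p S (pr N p r)).card : ℤ) * (((runner p S (pr N p r)).card : ℤ) - 1) =
      (2 * ∑ x ∈ runner p S r, (x : ℤ)) -
        ((runner p S r).card : ℤ) * (((runner p S r).card : ℤ) - 1) := by
  set L := (2 * N + p - 1 - r) / p with hL
  have hsub : runner p S r ⊆ range L := by
    intro q hq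
    rw [mem_runner hr] at hq
    have := ((hS _).1 hq).1
    refine Finset.mem_range.2 (Nat.lt_of_succ_le ((Nat.le_div_iff_mul_le hp).2 ?_))
    rw [Nat.succ_eq_add_one, add_mul, one_mul, mul_comm q]
    omega
  have hinj : Set.InjOn (L - 1 - ·) ((range L \ runner p S r : Finset ℕ) : Set ℕ) := by
    intro x hx y hy h
    have := Finset.mem_range.1 (Finset.mem_sdiff.1 hx).1
    have := Finset.mem_range.1 (Finset.mem_sdiff.1 hy).1
    simp only at h
    omega
  rw [runner_pr hp hS hr, ← hL, Finset.card_image_of_injOn hinj, Finset.sum_image hinj,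
    Finset.card_sdiff_of_subset hsub, Finset.card_range]
  have hle := Finset.card_le_card hsub
  rw [Finset.card_range] at hle
  rw [Nat.cast_sub hle]
  have hsum : ∑ x ∈ range L \ runner p S r, ((L - 1 - x : ℕ) : ℤ) =
      ∑ x ∈ range L \ runner p S r, ((L : ℤ) - 1 - x) := Finset.sum_congr rfl fun x hx => by
    have := Finset.mem_range.1 (Finset.mem_sdiff.1 hx).1
    omega
  rw [hsum, Finset.sum_sub_distrib, Finset.sum_const, Finset.card_sdiff_of_subset hsub,
    Finset.card_range, nsmul_eq_mul, Nat.cast_sub hle]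
  have htot : 2 * ∑ x ∈ range L, (x : ℤ) = (L : ℤ) * ((L : ℤ) - 1) := by
    clear hsum hinj hle hsub hL
    clear_value L
    induction L with
    | zero => simp
    | succ L ih => rw [Finset.sum_range_succ]; push_cast; linarith
  rw [← Finset.sum_sdiff hsub] at htot
  linear_combination (-1 : ℤ) * htot

theorem runner_mid (hp : 0 < p) (hS : SymSet N S)
    (hreg : ∀ x ∈ S, N ≤ x → ¬ p ∣ 2 * (x - N) + 1) {r : ℕ} (hr : r < p) (hfix : pr N p r = r)
    (q : ℕ) : q ∈ runner p S r ↔ p * q + r < N := by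
  have key : ∀ x y, x + y + 1 = 2 * N → x % p = r → N ≤ x → p ∣ 2 * (x - N) + 1 := by
    intro x y hxy hxr hx
    have h1 : y % p = x % p := by rw [← pr_mirror hxy, hxr, hfix]
    rw [show 2 * (x - N) + 1 = x - y by omega]
    exact (Nat.modEq_iff_dvd' (by omega)).1 h1
  have hm : (p * q + r) % p = r := by rw [Nat.mul_add_mod, Nat.mod_eq_of_lt hr]
  rw [mem_runner hr]
  constructor
  · intro h
    by_contra h'
    push Not at h'
    have := ((hS _).1 h).1
    exact hreg _ h h' (key _ (2 * N - 1 - (p * q + r)) (by omega) hm h')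
  · intro h
    refine (hS _).2 ⟨by omega, fun h' => hreg _ h' (by omega) (key _ (p * q + r) (by omega) ?_
      (by omega))⟩
    rw [← pr_mirror (N := N) (x := p * q + r) (y := 2 * N - 1 - (p * q + r)) (by omega), hm, hfix]

theorem excess_mid (hp : 0 < p) (hS : SymSet N S)
    (hreg : ∀ x ∈ S, N ≤ x → ¬ p ∣ 2 * (x - N) + 1) {r : ℕ} (hr : r < p) (hfix : pr N p r = r) :
    (2 * ∑ x ∈ runner p S r, (x : ℤ)) =
        ((runner p S r).card : ℤ) * (((runner p S r).card : ℤ) - 1) := by
  have hdown : ∀ x ∈ runner p S r, ∀ y ≤ x, y ∈ runner p S r := by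
    intro x hx y hy
    rw [runner_mid hp hS hreg hr hfix] at hx ⊢
    have := Nat.mul_le_mul_left p hy
    omega
  have heq : runner p S r = range (runner p S r).card := by
    refine Finset.eq_of_subset_of_card_le (fun x hx => Finset.mem_range.2 ?_) (by rw [Finset.card_range])
    have h1 := Finset.card_le_card (show range (x + 1) ⊆ runner p S r from fun y hy =>
      hdown x hx y (Nat.lt_succ_iff.1 (Finset.mem_range.1 hy)))
    rw [Finset.card_range] at h1
    omega
  conv_lhs => rw [heq]
  generalize (runner p S r).card = L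
  induction L with
  | zero => simp
  | succ L ih => rw [Finset.sum_range_succ]; push_cast; linarith

/-! ### The bound -/

/-- The values of a tuple. -/
def valSet (a : Fin N → ℤ) : Finset ℕ := Finset.univ.image fun i => (a i).toNat

theorem IsSym.symSet {a : Fin N → ℤ} (h : IsSym a) : SymSet N (valSet a) := by
  intro x
  simp only [valSet, Finset.mem_image, Finset.mem_univ, true_and, not_exists]
  constructor
  · rintro ⟨i, rfl⟩
    have := h.2.1 i
    refine ⟨by omega, fun j hj => h.2.2 i j ?_⟩
    have := h.2.1 j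
    omega
  · rintro ⟨hx, hno⟩
    rcases h.mem_or (x := (x : ℤ)) (Int.natCast_nonneg x) (by omega) with ⟨i, hi⟩ | ⟨i, hi⟩
    · exact ⟨i, by omega⟩
    · exact absurd (by omega) (hno i)

theorem IsSym.runner_spec {a : Fin N → ℤ} (h : IsSym a) (p r : ℕ) :
    (runner p (valSet a) r).card = cnt p a r ∧
      ∑ x ∈ runner p (valSet a) r, x = ∑ i with rr p a i = r, qq p a i := by
  have hinj : Set.InjOn (qq p a) (({i | rr p a i = r} : Finset (Fin N)) : Set (Fin N)) :=
    qq_injOn (fun i => (h.2.1 i).1) h.1 r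
  have himg : runner p (valSet a) r = ({i | rr p a i = r} : Finset (Fin N)).image (qq p a) := by
    rw [runner, valSet, Finset.filter_image, Finset.image_image]
    rfl
  rw [himg, Finset.card_image_of_injOn hinj, Finset.sum_image hinj]
  exact ⟨rfl, rfl⟩

/-- The number of symmetric states of given core and weight whose diagonal hooks are all prime to
`p`. -/
theorem card_regular_sym_le {p : ℕ} (hp : 2 ≤ p) {m : ℕ → ℕ} {W : ℕ} {n : ℕ}
    (F : Finset (Fin n → ℤ))
    (hF : ∀ a ∈ F, StrictAnti a ∧ IsSym a ∧ IsW p m W a ∧ ∀ k ∈ hooks a, ¬ p ∣ k) :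
    F.card ≤ bd p (W / 2) ∧ (F.Nonempty → 2 ∣ W) := by
  classical
  have hp0 : 0 < p := by omega
  set R := (range p).filter fun r => r < pr n p r with hR
  have hreg : ∀ a ∈ F, ∀ x ∈ valSet a, n ≤ x → ¬ p ∣ 2 * (x - n) + 1 := by
    intro a ha x hx hnx
    obtain ⟨i, -, rfl⟩ := Finset.mem_image.1 hx
    obtain ⟨-, hs, -, hk⟩ := hF a ha
    have := hk _ (show hook n (a i) ∈ hooks a from
      Finset.mem_image.2 ⟨i, Finset.mem_filter.2 ⟨Finset.mem_univ _, by have := hs.2.1 i; omega⟩, rfl⟩)
    rwa [show 2 * ((a i).toNat - n) + 1 = hook n (a i) by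
      have := hs.2.1 i; simp only [hook]; omega]
  set core : ℕ := ∑ r ∈ R, m r * (m r - 1) with hcore
  have hmain : ∀ a ∈ F,
      2 * (2 * ∑ r ∈ R, ∑ x ∈ runner p (valSet a) r, x) = 2 * core + 2 * W := by
    intro a ha
    obtain ⟨-, hs, hW, -⟩ := hF a ha
    set E : ℕ → ℤ := fun r => 2 * ∑ x ∈ runner p (valSet a) r, (x : ℤ) -
      ((runner p (valSet a) r).card : ℤ) * (((runner p (valSet a) r).card : ℤ) - 1) with hE
    have hcast : ∀ r ∈ range p, E r =
        2 * ((∑ x ∈ runner p (valSet a) r, x : ℕ) : ℤ) - ((m r * (m r - 1) : ℕ) : ℤ) := by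
      intro r hr
      rw [hE]
      simp only
      rw [(hs.runner_spec p r).1, hW.2.1 r hr, Nat.cast_sum]
      rcases Nat.eq_zero_or_pos (m r) with h | h
      · simp [h]
      · rw [Nat.cast_mul, Nat.cast_sub h, Nat.cast_one]
    have htot : ∑ r ∈ range p, E r = 2 * (W : ℤ) := by
      rw [Finset.sum_congr rfl hcast, Finset.sum_sub_distrib, ← Finset.mul_sum, ← Nat.cast_sum,
        ← Nat.cast_sum]
      have h1 : ∑ r ∈ range p, ∑ x ∈ runner p (valSet a) r, x = ∑ i, qq p a i := by
        rw [sum_by_residue hp0]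
        exact Finset.sum_congr rfl fun r _ => (hs.runner_spec p r).2
      have h2 : ∑ r ∈ range p, m r * (m r - 1) = coreTwo p m := rfl
      rw [h1, h2]
      have := hW.2.2
      omega
    rw [← Finset.sum_filter_add_sum_filter_not (range p) (fun r => r < pr n p r)] at htot
    have hother : ∑ r ∈ (range p).filter (fun r => ¬ r < pr n p r), E r = ∑ r ∈ R, E r := by
      rw [← Finset.sum_filter_add_sum_filter_not ((range p).filter fun r => ¬ r < pr n p r)
        (fun r => pr n p r = r), Finset.sum_eq_zero fun r hr => ?_, zero_add, Finset.filter_filter]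
      · refine Finset.sum_nbij' (pr n p) (pr n p) (fun r hr => ?_) (fun r hr => ?_)
          (fun r hr => ?_) (fun r hr => ?_) fun r hr => ?_
        · simp only [Finset.mem_filter, Finset.mem_range, hR] at hr ⊢
          rw [pr_pr hp0 hr.1]
          exact ⟨pr_lt hp0 r, by omega⟩
        · simp only [Finset.mem_filter, Finset.mem_range, hR] at hr ⊢
          rw [pr_pr hp0 hr.1]
          exact ⟨pr_lt hp0 r, by omega, by omega⟩
        · simp only [Finset.mem_filter, Finset.mem_range] at hr
          exact pr_pr hp0 hr.1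
        · simp only [Finset.mem_filter, Finset.mem_range, hR] at hr
          exact pr_pr hp0 hr.1
        · simp only [Finset.mem_filter, Finset.mem_range] at hr
          simp only [hE]
          exact (excess_pr hp0 hs.symSet hr.1).symm
      · simp only [Finset.mem_filter, Finset.mem_range] at hr
        simp only [hE]
        rw [excess_mid hp0 hs.symSet (hreg a ha) hr.1.1 hr.2, sub_self]
    rw [hother, Finset.sum_congr rfl fun r hr => hcast r (Finset.mem_filter.1 hr).1,
      Finset.sum_sub_distrib, ← Finset.mul_sum, ← Nat.cast_sum, ← Nat.cast_sum] at htot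
    rw [hcore, hR]
    omega
  have heven : F.Nonempty → 2 ∣ W := by
    rintro ⟨a, ha⟩
    have := hmain a ha
    have h2 : 2 ∣ core := Finset.dvd_sum fun r _ => even_iff_two_dvd.1 (Nat.even_mul_pred_self _)
    omega
  refine ⟨?_, heven⟩
  rcases F.eq_empty_or_nonempty with rfl | hne
  · simp
  have h2W := heven hne
  set Φ : (Fin n → ℤ) → ℕ → Finset ℕ := fun a r => if r ∈ R then runner p (valSet a) r else ∅
    with hΦ
  have hinj : Set.InjOn Φ (F : Set (Fin n → ℤ)) := by
    intro a ha b hb hab
    obtain ⟨ha1, ha2, -, -⟩ := hF a ha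
    obtain ⟨hb1, hb2, -, -⟩ := hF b hb
    have hsub : ∀ {u v : Fin n → ℤ}, u ∈ F → v ∈ F → Φ u = Φ v → ∀ x ∈ valSet u, x ∈ valSet v := by
      intro u v hu hv huv x hx
      have hsu := (hF u hu).2.1.symSet
      have hsv := (hF v hv).2.1.symSet
      have hrun : ∀ r ∈ R, runner p (valSet u) r = runner p (valSet v) r := fun r hr => by
        have := congrFun huv r
        simpa [hΦ, hr] using this
      obtain ⟨hx2, hxn⟩ := (hsu x).1 hx
      have hrp : x % p < p := Nat.mod_lt _ hp0
      rcases lt_trichotomy (x % p) (pr n p (x % p)) with h | h | h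
      · have hr : x % p ∈ R := Finset.mem_filter.2 ⟨Finset.mem_range.2 hrp, h⟩
        have h1 := (mem_runner (S := valSet u) (q := x / p) hrp).2 (by rwa [Nat.div_add_mod])
        rw [hrun _ hr, mem_runner hrp, Nat.div_add_mod] at h1
        exact h1
      · have h1 := (mem_runner (S := valSet u) (q := x / p) hrp).2 (by rwa [Nat.div_add_mod])
        rw [runner_mid hp0 hsu (hreg u hu) hrp h.symm, ← runner_mid hp0 hsv (hreg v hv) hrp h.symm,
          mem_runner hrp, Nat.div_add_mod] at h1
        exact h1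
      · refine (hsv x).2 ⟨hx2, fun hy => hxn ?_⟩
        set y := 2 * n - 1 - x with hy'
        have hyr : y % p = pr n p (x % p) := (pr_mirror (by omega)).symm
        have hyp : y % p < p := Nat.mod_lt _ hp0
        have hr : y % p ∈ R := Finset.mem_filter.2 ⟨Finset.mem_range.2 hyp, by
          rw [hyr, pr_pr hp0 hrp]; exact h⟩
        have h1 := (mem_runner (S := valSet v) (q := y / p) hyp).2 (by rwa [Nat.div_add_mod])
        rw [← hrun _ hr, mem_runner hyp, Nat.div_add_mod] at h1
        exact h1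
    have hval : ∀ i, ∃ j, b j = a i := by
      intro i
      obtain ⟨j, -, hj⟩ := Finset.mem_image.1 (hsub ha hb hab _
        (Finset.mem_image.2 ⟨i, Finset.mem_univ _, rfl⟩))
      refine ⟨j, ?_⟩
      have := ha2.2.1 i
      have := hb2.2.1 j
      omega
    choose σ hσ using hval
    have hi : Function.Injective σ := fun x y hxy => ha2.1 (by rw [← hσ x, ← hσ y, hxy])
    refine eq_of_match_ne_zero ha1 hb1 ?_
    rw [show a = b ∘ Equiv.ofBijective σ (Finite.injective_iff_bijective.1 hi) from
      funext fun i => (hσ i).symm, match_comp, match_self hb2.1, mul_one]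
    exact Units.ne_zero _
  rw [← Finset.card_image_of_injOn hinj]
  have hlt : R.card < p := by
    refine lt_of_lt_of_eq (Finset.card_lt_card ?_) (Finset.card_range p)
    refine Finset.filter_ssubset.2 ⟨p - 1, Finset.mem_range.2 (by omega), ?_⟩
    have := pr_lt (N := n) hp0 (p - 1)
    omega
  refine (count_excess R m (W / 2) _ fun Q hQ => ?_).trans ?_
  · obtain ⟨a, ha, rfl⟩ := Finset.mem_image.1 hQ
    refine ⟨fun r hr => ?_, fun r hr => by simp [hΦ, hr], ?_⟩
    · simp only [hΦ, if_pos hr]
      rw [((hF a ha).2.1.runner_spec p r).1]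
      exact (hF a ha).2.2.1.2.1 r (Finset.mem_filter.1 hr).1
    · have h1 : ∑ r ∈ R, ∑ x ∈ Φ a r, x = ∑ r ∈ R, ∑ x ∈ runner p (valSet a) r, x :=
        Finset.sum_congr rfl fun r hr => by simp [hΦ, hr]
      have := hmain a ha
      rw [h1]
      omega
  · rcases Nat.eq_zero_or_pos (W / 2) with h | h
    · rw [h]; exact le_rfl
    · obtain ⟨i, hi⟩ := Nat.exists_eq_succ_of_ne_zero h.ne'
      rw [hi]
      exact Nat.mul_le_mul (by omega) (Nat.pow_le_pow_left (by omega) i)

end Cfsg.Agent.Char.SymChar
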