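import Cfsg.Agent.Lib.Char.SymChar.AltRestrict
import Cfsg.Agent.Lib.Char.SymChar.SymmCount
import Cfsg.Agent.Lib.Char.ModP
import Mathlib.LinearAlgebra.Matrix.Block

/-!
The blocks of the alternating groups: a defect class, the bound on the rank of a defect group from
below, and the bound on the rank of a block from above.
-/

set_option autoImplicit false

namespace Cfsg.Agent.Char.SymChar

open Finset
open scoped ComplexConjugate

set_option linter.unusedSectionVars false

variable {n p : ℕ} [Fact p.Prime] {M : Ideal AlgInt}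

/-- A block of the alternating group with a covering block. -/
structure Cover (M : Ideal AlgInt) (b : Set (IrrCharacter (Alt n)))
    (B : Set (IrrCharacter (Equiv.Perm (Fin n)))) : Prop where
  hb : IsPBlock M b
  hB : IsPBlock M B
  meet : ∃ χ ∈ B, ∃ ψ ∈ b, Over χ ψ

theorem exists_cover (hM : IsPModular p M) {b : Set (IrrCharacter (Alt n))} (hb : IsPBlock M b) :
    ∃ B : Set (IrrCharacter (Equiv.Perm (Fin n))), Cover M b B := by
  obtain ⟨ψ, hψ⟩ := Block.pblock_nonempty hM hb
  obtain ⟨χ, hχ⟩ := exists_over' ψ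
  exact ⟨_, hb, Block.isPBlock_blockOf χ, χ, Block.mem_blockOf_self hM χ, ψ, hψ, hχ⟩

theorem Cover.exists_over (hM : IsPModular p M) {b : Set (IrrCharacter (Alt n))}
    {B : Set (IrrCharacter (Equiv.Perm (Fin n)))} (h : Cover M b B) {ψ : IrrCharacter (Alt n)}
    (hψ : ψ ∈ b) : ∃ χ ∈ B, Over χ ψ := by
  obtain ⟨hb, hB, χ₀, hχ₀, ψ₀, hψ₀, h₀⟩ := h
  exact exists_member_over hM hb hB hχ₀ hψ₀ h₀ hψ

theorem Cover.under_eq (hM : IsPModular p M) {b : Set (IrrCharacter (Alt n))}
    {B : Set (IrrCharacter (Equiv.Perm (Fin n)))} (h : Cover M b B) :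
    under B = Block.conjUnion (Alt n) b := by
  obtain ⟨hb, hB, χ₀, hχ₀, ψ₀, hψ₀, h₀⟩ := h
  exact SymChar.under_eq hM hb hB hχ₀ hψ₀ h₀

/-! ### The defect class -/

theorem coeff_saturation_even (B : Set (IrrCharacter (Equiv.Perm (Fin n))))
    (hd : ∀ χ ∈ B, twist χ ∉ B) {g : Equiv.Perm (Fin n)} (hg : g ∈ Alt n) :
    Block.coeffFun (Block.blockInd (saturation B)) g = 2 * Block.coeffFun (Block.blockInd B) g := by
  classical
  haveI := Fintype.ofFinite (IrrCharacter (Equiv.Perm (Fin n)))
  have hsum : Block.blockInd (saturation B) = Block.blockInd B + Block.blockInd (twistSet B) := by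
    funext χ
    rw [Pi.add_apply]
    by_cases h1 : χ ∈ B
    · rw [Block.blockInd_of_mem (show χ ∈ saturation B from Or.inl h1), Block.blockInd_of_mem h1,
        Block.blockInd_of_notMem (show χ ∉ twistSet B from hd χ h1), add_zero]
    · by_cases h2 : χ ∈ twistSet B
      · rw [Block.blockInd_of_mem (show χ ∈ saturation B from Or.inr h2),
          Block.blockInd_of_notMem h1, Block.blockInd_of_mem h2, zero_add]
      · rw [Block.blockInd_of_notMem (fun h : χ ∈ saturation B => h.elim h1 h2),
          Block.blockInd_of_notMem h1, Block.blockInd_of_notMem h2, add_zero]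
  have htw : Block.coeffFun (Block.blockInd (twistSet B)) g =
      Block.coeffFun (Block.blockInd B) g := by
    rw [Block.coeffFun_eq_sum, Block.coeffFun_eq_sum]
    congr 1
    refine Fintype.sum_equiv (twistEquiv n) _ _ fun χ => ?_
    show _ = Block.blockInd B (twist χ) * ((twist χ : IrrCharacter _) : Equiv.Perm (Fin n) → ℂ) 1 *
      ((twist χ : IrrCharacter _) : Equiv.Perm (Fin n) → ℂ) g⁻¹
    rw [show Block.blockInd B (twist χ) = Block.blockInd (twistSet B) χ from rfl, twist_apply,
      twist_apply, Equiv.Perm.sign_one, Equiv.Perm.sign_inv,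
      Equiv.Perm.mem_alternatingGroup.1 hg]
    simp
  rw [hsum, Block.coeffFun_add, htw]
  ring

theorem relIndex_centralizer {g : Equiv.Perm (Fin n)} {τ : Equiv.Perm (Fin n)} (hτ : τ ∉ Alt n)
    (hc : Commute τ g) (hg : g ∈ Alt n) :
    (Subgroup.centralizer ({(⟨g, hg⟩ : Alt n)} : Set (Alt n))).index =
      (Subgroup.centralizer ({g} : Set (Equiv.Perm (Fin n)))).index := by
  classical
  haveI : Nontrivial (Fin n) := by
    by_contra h
    rw [not_nontrivial_iff_subsingleton] at h
    exact hτ (by rw [show τ = 1 from Subsingleton.elim _ _]; exact one_mem _)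
  set C := Subgroup.centralizer ({g} : Set (Equiv.Perm (Fin n))) with hC
  have he : Subgroup.centralizer ({(⟨g, hg⟩ : Alt n)} : Set (Alt n)) = C.subgroupOf (Alt n) := by
    ext x
    simp only [Subgroup.mem_subgroupOf, hC, Subgroup.mem_centralizer_singleton_iff,
      Subtype.ext_iff, Subgroup.coe_mul]
  rw [he]
  show C.relIndex (Alt n) = C.index
  have h2 : (Alt n).index = 2 := alternatingGroup.index_eq_two
  have h3 : (Alt n).relIndex C = 2 := by
    have hd : (Alt n).relIndex C ∣ 2 := h2 ▸ Subgroup.relIndex_dvd_index_of_normal _ _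
    refine ((Nat.dvd_prime Nat.prime_two).1 hd).resolve_left fun h => hτ ?_
    exact Subgroup.relIndex_eq_one.1 h (Subgroup.mem_centralizer_singleton_iff.2 hc.eq)
  have e1 := Subgroup.relIndex_mul_index (inf_le_left : C ⊓ Alt n ≤ C)
  have e2 := Subgroup.relIndex_mul_index (inf_le_right : C ⊓ Alt n ≤ Alt n)
  rw [Subgroup.inf_relIndex_left, h3] at e1
  rw [Subgroup.inf_relIndex_right, h2] at e2
  omega

theorem Cover.isDefectClass (hM : IsPModular p M) {b : Set (IrrCharacter (Alt n))}
    {B : Set (IrrCharacter (Equiv.Perm (Fin n)))} (h : Cover M b B) {g : Equiv.Perm (Fin n)}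
    (hg : g ∈ Alt n) (hcl : IsDefectClass M B g) {τ : Equiv.Perm (Fin n)} (hτ : τ ∉ Alt n)
    (hc : Commute τ g) : IsDefectClass M b ⟨g, hg⟩ := by
  classical
  haveI := Fintype.ofFinite (IrrCharacter (Alt n))
  have hfix : Char.conjEquivN (Alt n) τ ⟨g, hg⟩ = ⟨g, hg⟩ := by
    rw [Char.conjEquivN_apply]
    refine Subtype.ext ?_
    show τ * g * τ⁻¹ = g
    rw [hc.eq, mul_inv_cancel_right]
  have hconj : ∀ θ : IrrCharacter (Alt n),
      ((conjT τ θ : IrrCharacter _) : Alt n → ℂ) ⟨g, hg⟩ = (θ : Alt n → ℂ) ⟨g, hg⟩ := fun θ => by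
    show Char.conjN (Alt n) τ (θ : Alt n → ℂ) _ = _
    rw [Char.conjN_eq_comp]
    exact congrArg _ hfix
  refine ⟨Block.blockCoeff_ring hM h.hb _, fun hbad => ?_, fun θ hθ => ?_⟩
  · -- the coefficient
    set U := Block.conjUnion (Alt n) b with hU
    have hst := Block.conjStable_conjUnion (Alt n) b
    have hcov : Block.covInd (Alt n) U = Block.blockInd (saturation B) := by
      funext χ
      obtain ⟨ψ, hψ⟩ := exists_under χ
      rw [Block.covInd_eq (Alt n) hst χ hψ]
      by_cases hχ : χ ∈ saturation B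
      · rw [Block.blockInd_of_mem hχ, Block.blockInd_of_mem]
        rw [← h.under_eq hM]
        rcases hχ with hχ | hχ
        · exact ⟨χ, hχ, hψ⟩
        · exact ⟨twist χ, hχ, over_twist hψ⟩
      · rw [Block.blockInd_of_notMem hχ, Block.blockInd_of_notMem]
        rw [← h.under_eq hM]
        rintro ⟨χ', hχ', hψ'⟩
        rcases over_unique hτ hψ' hψ with h' | h'
        · exact hχ (Or.inl (h' ▸ hχ'))
        · exact hχ (Or.inr (show twist χ ∈ B by rw [h', twist_twist]; exact hχ'))
    have hcoeff : Block.coeffFun (Block.blockInd (saturation B)) g =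
        Block.coeffFun (Block.blockInd U) (⟨g, hg⟩ : Alt n) := by
      rw [← hcov, show Block.covInd (Alt n) U =
          fun χ => Block.omegaFun χ (Block.covCoeff (Alt n) U) from rfl,
        Block.coeffFun_omegaFun (Block.covCoeff_classFun (Alt n) hst), Block.covCoeff,
        dif_pos hg]
    set b' : Set (IrrCharacter (Alt n)) := {θ | conjT τ θ ∈ b} with hb'
    have hmemU : ∀ θ, θ ∈ U ↔ θ ∈ b ∨ θ ∈ b' := by
      intro θ
      constructor
      · rintro ⟨x, hx⟩
        rcases conjN_cases hτ θ x with h' | h'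
        · exact Or.inl (by rwa [show Block.conjPerm (Alt n) x θ = θ from Subtype.ext h'] at hx)
        · refine Or.inr ?_
          rwa [show Block.conjPerm (Alt n) x θ = conjT τ θ from Subtype.ext h'] at hx
      · rintro (h' | h')
        · exact Block.subset_conjUnion (Alt n) b h'
        · exact ⟨τ, h'⟩
    have hbU : MemLocalIdeal M (Block.coeffFun (Block.blockInd U) (⟨g, hg⟩ : Alt n)) := by
      have hcb' : Block.coeffFun (Block.blockInd b') (⟨g, hg⟩ : Alt n) =
          Block.coeffFun (Block.blockInd b) (⟨g, hg⟩ : Alt n) := by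
        rw [Block.coeffFun_eq_sum, Block.coeffFun_eq_sum]
        congr 1
        refine Fintype.sum_equiv (Block.conjPerm (Alt n) τ) _ _ fun θ => ?_
        have h1 : ((conjT τ θ : IrrCharacter _) : Alt n → ℂ) 1 = (θ : Alt n → ℂ) 1 :=
          congrArg (θ : Alt n → ℂ) (Subtype.ext (by simp))
        have h2 : ((conjT τ θ : IrrCharacter _) : Alt n → ℂ) (⟨g, hg⟩ : Alt n)⁻¹ =
            (θ : Alt n → ℂ) (⟨g, hg⟩ : Alt n)⁻¹ := by
          show Char.conjN (Alt n) τ (θ : Alt n → ℂ) _ = _
          rw [Char.conjN_eq_comp]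
          show (θ : Alt n → ℂ) (Char.conjEquivN (Alt n) τ _) = _
          rw [map_inv, hfix]
        rw [h1, h2]
        rfl
      rw [Block.blockCoeff_eq] at hbad
      by_cases hbb : b' = b
      · rwa [show U = b from Set.ext fun θ => by rw [hmemU, hbb, or_self]]
      · have hdis : ∀ θ ∈ b, θ ∉ b' := by
          intro θ hθ hθ'
          refine hbb (Set.ext fun η => ⟨fun hη => ?_, fun hη => ?_⟩)
          · have h1 := Block.sameBlock_conjPerm (Alt n) τ⁻¹
              (Block.pblock_sameBlock hM h.hb (show conjT τ θ ∈ b from hθ') hη)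
            rw [conjT, Block.conjPerm_mul, mul_inv_cancel, Block.conjPerm_one,
              conjT, Block.conjPerm_mul, mul_inv_cancel, Block.conjPerm_one] at h1
            exact Block.pblock_mem_of_sameBlock hM h.hb hθ h1
          · exact Block.pblock_mem_of_sameBlock hM h.hb (show conjT τ θ ∈ b from hθ')
              (Block.sameBlock_conjPerm (Alt n) τ (Block.pblock_sameBlock hM h.hb hθ hη))
        have hsum : Block.blockInd U = Block.blockInd b + Block.blockInd b' := by
          funext θ
          rw [Pi.add_apply]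
          by_cases h1 : θ ∈ b
          · rw [Block.blockInd_of_mem ((hmemU θ).2 (Or.inl h1)), Block.blockInd_of_mem h1,
              Block.blockInd_of_notMem (hdis θ h1), add_zero]
          · by_cases h2 : θ ∈ b'
            · rw [Block.blockInd_of_mem ((hmemU θ).2 (Or.inr h2)), Block.blockInd_of_notMem h1,
                Block.blockInd_of_mem h2, zero_add]
            · rw [Block.blockInd_of_notMem (fun h' : θ ∈ U => ((hmemU θ).1 h').elim h1 h2),
                Block.blockInd_of_notMem h1, Block.blockInd_of_notMem h2, add_zero]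
        rw [hsum, Block.coeffFun_add, hcb']
        exact Block.ideal_add hM hbad hbad
    rw [← hcoeff] at hbU
    refine hcl.2.1 ?_
    rw [Block.blockCoeff_eq]
    by_cases htw : ∃ χ ∈ B, twist χ ∈ B
    · obtain ⟨χ, hχ, hχ'⟩ := htw
      have hBB : twistSet B = B :=
        (Block.pblock_eq_blockOf hM (isPBlock_twistSet hM h.hB) hχ').trans
          (Block.pblock_eq_blockOf hM h.hB hχ).symm
      rwa [saturation, hBB, Set.union_self] at hbU
    · push Not at htw
      rw [coeff_saturation_even B htw hg] at hbU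
      rcases Block.ideal_or_of_mul hM (by simpa using Block.ring_natCast hM 2)
        (by rw [← Block.blockCoeff_eq]; exact Block.blockCoeff_ring hM h.hB g) hbU with h2 | h2
      · exfalso
        have hp2 : p = 2 := (Nat.prime_dvd_prime_iff_eq Fact.out Nat.prime_two).1
          ((Block.ideal_natCast_iff hM 2).1 (by simpa using h2))
        subst hp2
        obtain ⟨χ, hχ⟩ := Block.pblock_nonempty hM h.hB
        exact htw χ hχ (show χ ∈ twistSet B by rw [twistSet_eq_of_two hM h.hB]; exact hχ)
      · exact h2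
  · -- the central characters
    obtain ⟨χ, hχ, hov⟩ := h.exists_over hM hθ
    have hv : centralChar (θ : Alt n → ℂ) ⟨g, hg⟩ = centralChar (χ : Equiv.Perm (Fin n) → ℂ) g := by
      rw [centralChar, centralChar, relIndex_centralizer hτ hc hg]
      have h1 : ((conjT τ θ : IrrCharacter _) : Alt n → ℂ) 1 = (θ : Alt n → ℂ) 1 :=
        congrArg (θ : Alt n → ℂ) (Subtype.ext (by simp))
      rcases res_cases hτ hov with ⟨-, -, hr⟩ | ⟨-, -, hr⟩
      · rw [← show res' (χ : Equiv.Perm (Fin n) → ℂ) ⟨g, hg⟩ = _ from congrFun hr _,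
          ← show res' (χ : Equiv.Perm (Fin n) → ℂ) 1 = _ from congrFun hr _]
        rfl
      · rw [show (χ : Equiv.Perm (Fin n) → ℂ) g = res' (χ : Equiv.Perm (Fin n) → ℂ) ⟨g, hg⟩ from rfl,
          show (χ : Equiv.Perm (Fin n) → ℂ) 1 = res' (χ : Equiv.Perm (Fin n) → ℂ) 1 from rfl, hr,
          Pi.add_apply, Pi.add_apply, hconj, h1, ← two_mul, ← two_mul, mul_left_comm,
          mul_div_mul_left _ _ two_ne_zero]
    rw [hv]
    exact hcl.2.2 χ hχ

/-! ### The rank of a defect group from below -/

/-- Translations of `K` copies of an additive group. -/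
def shiftV (K : ℕ) (V : Type) [AddCommGroup V] :
    Multiplicative (Fin K → V) →* Equiv.Perm (Fin K × V) where
  toFun f := Equiv.prodCongrRight fun i => Equiv.addLeft (f.toAdd i)
  map_one' := Equiv.ext fun x => Prod.ext rfl (zero_add _)
  map_mul' f g := Equiv.ext fun x => Prod.ext rfl (add_assoc _ _ _)

theorem shiftV_injective (K : ℕ) (V : Type) [AddCommGroup V] :
    Function.Injective (shiftV K V) := by
  intro f g h
  refine Multiplicative.toAdd.injective (funext fun i => ?_)
  have h1 := congrArg Prod.snd (Equiv.congr_fun h (i, 0))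
  simpa [shiftV] using h1

theorem card_pow_le (V : Type) [AddCommGroup V] [Fintype V] [DecidableEq V]
    (hV : ∀ v : V, p • v = 0) (heven : ∀ v : V, Equiv.Perm.sign (Equiv.addLeft v) = 1)
    {b : Set (IrrCharacter (Alt n))} (hM : IsPModular p M) (hb : IsPBlock M b)
    {D : Subgroup (Alt n)} (hD : IsDefectGroup p M b D) {s : ℕ} (hs : SectionalPRankLE p s D)
    {g : Equiv.Perm (Fin n)} (hg : g ∈ Alt n) (hcl : IsDefectClass M b ⟨g, hg⟩) {K : ℕ}
    (hK : K * Fintype.card V ≤ #(Finset.univ.filter fun z => g z = z)) :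
    Fintype.card V ^ K ≤ p ^ s := by
  classical
  have hp : p.Prime := Fact.out
  have hcard : Fintype.card (Fin K × V) ≤ Fintype.card {z // g z = z} := by
    rw [Fintype.card_prod, Fintype.card_fin, Fintype.card_subtype]
    exact hK
  obtain ⟨j⟩ := Function.Embedding.nonempty_of_card_le hcard
  set ι : Fin K × V ↪ Fin n := j.trans (Function.Embedding.subtype _) with hι
  set φ₀ : Multiplicative (Fin K → V) →* Equiv.Perm (Fin n) :=
    (Equiv.Perm.viaEmbeddingHom ι).comp (shiftV K V) with hφ₀
  have hsgn : ∀ f, φ₀ f ∈ Alt n := by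
    intro f
    rw [Equiv.Perm.mem_alternatingGroup, hφ₀, MonoidHom.comp_apply,
      Equiv.Perm.viaEmbeddingHom_apply, Equiv.Perm.viaEmbedding, Equiv.Perm.sign_extendDomain]
    show Equiv.Perm.sign (Equiv.prodCongrRight fun i => Equiv.addLeft (f.toAdd i) :
      Equiv.Perm (Fin K × V)) = 1
    rw [Equiv.Perm.sign_prodCongrRight]
    exact Finset.prod_eq_one fun i _ => heven _
  set φ : Multiplicative (Fin K → V) →* Alt n := φ₀.codRestrict (Alt n) hsgn with hφ
  have hinj : Function.Injective φ := fun a b h =>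
    ((Equiv.Perm.viaEmbeddingHom_injective ι).comp (shiftV_injective K V)) (congrArg Subtype.val h)
  have hpow : ∀ f : Multiplicative (Fin K → V), f ^ p = 1 := fun f =>
    Multiplicative.toAdd.injective (funext fun i => by
      simp only [toAdd_pow, Pi.smul_apply, toAdd_one, Pi.zero_apply, hV])
  have hE : IsPGroup p φ.range := by
    rintro ⟨_, f, rfl⟩
    exact ⟨1, Subtype.ext (by rw [pow_one, Subgroup.coe_pow, ← map_pow, hpow, map_one]; rfl)⟩
  have hEg : (⟨g, hg⟩ : Alt n) ∈ Subgroup.centralizer (φ.range : Set (Alt n)) := by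
    rw [Subgroup.mem_centralizer_iff]
    rintro _ ⟨f, rfl⟩
    refine Subtype.ext ?_
    show φ₀ f * g = g * φ₀ f
    have hfix : ∀ z, g z ≠ z → φ₀ f z = z := by
      intro z hz
      rw [hφ₀, MonoidHom.comp_apply, Equiv.Perm.viaEmbeddingHom_apply]
      refine Equiv.Perm.viaEmbedding_apply_of_notMem _ _ _ ?_
      rintro ⟨w, rfl⟩
      exact hz (j w).2
    refine Equiv.ext fun z => ?_
    rw [Equiv.Perm.mul_apply, Equiv.Perm.mul_apply]
    by_cases hz : g z = z
    · rw [hz]
      by_contra h
      have h1 := (φ₀ f).injective (hfix (φ₀ f z) (Ne.symm h))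
      rw [h1, hz] at h
      exact h rfl
    · rw [hfix z hz, hfix (g z) fun h => hz (g.injective h)]
  have Q : Sylow p (Subgroup.centralizer ({(⟨g, hg⟩ : Alt n)} : Set (Alt n))) :=
    Classical.arbitrary _
  obtain ⟨x, hx⟩ := Block.exists_conj_csyl_le hE (IsConj.refl _) hEg Q
  obtain ⟨y, hy⟩ := Block.defectGroup_conj hM hb (⟨_, hcl, Q, rfl⟩ :
    IsDefectGroup p M b (Block.csyl Q)) hD
  have hle : (φ.range.map (MulAut.conj x).toMonoidHom).map (MulAut.conj y).toMonoidHom ≤ D :=
    hy ▸ Subgroup.map_mono hx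
  set ψ : Multiplicative (Fin K → V) →* Alt n :=
    ((MulAut.conj y).toMonoidHom.comp (MulAut.conj x).toMonoidHom).comp φ with hψ
  have hψinj : Function.Injective ψ :=
    (((MulAut.conj y).injective).comp (MulAut.conj x).injective).comp hinj
  have hψD : ∀ f, ψ f ∈ D := fun f => hle ⟨_, ⟨_, ⟨f, rfl⟩, rfl⟩, rfl⟩
  set ψD : Multiplicative (Fin K → V) →* D := ψ.codRestrict D hψD with hψDdef
  have hψDinj : Function.Injective ψD := fun a b h => hψinj (congrArg Subtype.val h)
  have h1 := hs ψD.range ⊥ ⊤ ?_ ?_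
  · rw [Subgroup.card_top, Nat.card_congr QuotientGroup.quotientBot.toEquiv,
      Nat.card_congr (MonoidHom.ofInjective hψDinj).toEquiv.symm,
      Nat.card_congr Multiplicative.toAdd, Nat.card_fun, Nat.card_eq_fintype_card,
      Nat.card_eq_fintype_card, Fintype.card_fin] at h1
    exact h1
  · refine ⟨⟨fun a b => Subtype.ext ?_⟩⟩
    obtain ⟨⟨_, f, rfl⟩, ha⟩ := QuotientGroup.mk_surjective a.1
    obtain ⟨⟨_, f', rfl⟩, hb'⟩ := QuotientGroup.mk_surjective b.1
    rw [Subgroup.coe_mul, Subgroup.coe_mul, ← ha, ← hb', ← QuotientGroup.mk_mul,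
      ← QuotientGroup.mk_mul]
    refine congrArg _ (Subtype.ext ?_)
    rw [Subgroup.coe_mul, Subgroup.coe_mul, ← map_mul, ← map_mul, mul_comm]
  · intro a _
    obtain ⟨⟨_, f, rfl⟩, rfl⟩ := QuotientGroup.mk_surjective a
    rw [← QuotientGroup.mk_pow]
    refine (QuotientGroup.eq_one_iff _).2 (Subgroup.mem_bot.2 (Subtype.ext ?_))
    rw [Subgroup.coe_pow, Subgroup.coe_one, ← map_pow, hpow, map_one]

/-! ### The split characters -/

theorem state_unique {a a' : Fin n → ℤ} (ha : IsState n a) (ha' : IsState n a')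
    {ξ : IrrCharacter (Equiv.Perm (Fin n))} {e e' : ℤ} (he : e = 1 ∨ e = -1)
    (he' : e' = 1 ∨ e' = -1) (h : chiG n a = (e : ℂ) • (ξ : Equiv.Perm (Fin n) → ℂ))
    (h' : chiG n a' = (e' : ℂ) • (ξ : Equiv.Perm (Fin n) → ℂ)) : a = a' := by
  have h1 := chiG_inner a a' ha.2.1 ha.2.2 (n := n)
  rw [h, h', classInner_smul_left, classInner_smul_right, classInner_self_irr ξ.2, map_intCast,
    mul_one, ← Int.cast_mul, Int.cast_inj] at h1
  refine eq_of_match_ne_zero ha.1 ha'.1 ?_
  rcases he with rfl | rfl <;> rcases he' with rfl | rfl <;> omega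

theorem exists_perm_parts {ν : Multiset ℕ} (hs : ν.sum = n) (hp : ∀ i ∈ ν, 0 < i) :
    ∃ g : Equiv.Perm (Fin n), parts g = ν := by
  classical
  have hne : ({g : Equiv.Perm (Fin n) | parts g = ν} : Finset (Equiv.Perm (Fin n))).Nonempty := by
    rw [← Finset.card_pos]
    rcases Nat.eq_zero_or_pos #({g : Equiv.Perm (Fin n) | parts g = ν} : Finset (Equiv.Perm (Fin n)))
      with h | h
    · have := count_perm_mul ν hs hp
      rw [h, zero_mul] at this
      exact absurd this.symm (Nat.factorial_ne_zero n)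
    · exact h
  obtain ⟨g, hg⟩ := hne
  exact ⟨g, (Finset.mem_filter.1 hg).2⟩

/-- The members fixed by the twist, by their states. -/
abbrev Split (B : Set (IrrCharacter (Equiv.Perm (Fin n)))) : Type :=
  {a : Fin n → ℤ // IsState n a ∧ ∃ ξ ∈ B, twist ξ = ξ ∧ ∃ e : ℤ, (e = 1 ∨ e = -1) ∧
    chiG n a = (e : ℂ) • (ξ : Equiv.Perm (Fin n) → ℂ)}

instance finite_split (B : Set (IrrCharacter (Equiv.Perm (Fin n)))) : Finite (Split B) :=
  Finite.of_injective (fun a => (⟨a.1, a.2.1⟩ : {a : Fin n → ℤ // IsState n a}))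
    fun _ _ h => Subtype.ext (congrArg (fun x : {a : Fin n → ℤ // IsState n a} => x.1) h)

theorem Split.isSym {B : Set (IrrCharacter (Equiv.Perm (Fin n)))} (a : Split B) : IsSym a.1 := by
  obtain ⟨ha, ξ, -, hξ, e, -, hea⟩ := a.2
  refine isSym_of_sign ha fun g => ?_
  have h := congrFun (congrArg Subtype.val hξ) g
  rw [twist_apply] at h
  rw [hea, Pi.smul_apply, smul_eq_mul, mul_left_comm, h]

theorem det_ne_zero_of_cong {ι : Type} [Fintype ι] [DecidableEq ι] (ord : ι → ℕ)
    (hord : Function.Injective ord) (K : Matrix ι ι ℤ) (hK : ∀ i j, K i j ≠ 0 → ord j ≤ ord i)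
    (hd : ∀ i, K i i = 1 ∨ K i i = -1) (A : Matrix ι ι ℂ) (hA : ∀ i j, IsIntegral ℤ (A i j))
    (hcong : ∀ i j, ∃ z : ℂ, IsIntegral ℤ z ∧ A i j - (K i j : ℂ) = 2 * z) : A.det ≠ 0 := by
  classical
  letI : LinearOrder ι := LinearOrder.lift' ord hord
  obtain ⟨N, hN⟩ := Cfsg.Agent.Char.exists_isPModular 2 Nat.prime_two
  haveI := hN.2.1
  set A' : Matrix ι ι AlgInt := fun i j => ⟨A i j, hA i j⟩ with hA'
  have hmap : A'.map (Ideal.Quotient.mk N) = K.map (Int.castRingHom (AlgInt ⧸ N)) := by
    ext i j
    obtain ⟨z, hz, he⟩ := hcong i j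
    rw [Matrix.map_apply, Matrix.map_apply, eq_intCast,
      ← map_intCast (Ideal.Quotient.mk N), Ideal.Quotient.eq]
    have h1 : A' i j - (K i j : AlgInt) = ((2 : ℕ) : AlgInt) * ⟨z, hz⟩ := by
      refine Subtype.ext ?_
      push_cast [hA']
      exact_mod_cast he
    rw [h1]
    exact N.mul_mem_right _ hN.2.2
  have htri : K.BlockTriangular OrderDual.toDual := fun i j hij => by
    by_contra hne
    exact absurd (hK i j hne) (not_le.2 (show ord i < ord j from hij))
  have hdet : IsUnit K.det := by
    rw [Matrix.det_of_lowerTriangular K htri, IsUnit.prod_univ_iff]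
    intro i
    rcases hd i with h | h <;> rw [h]
    · exact isUnit_one
    · exact isUnit_one.neg
  have h1 : IsUnit (Ideal.Quotient.mk N A'.det) := by
    rw [RingHom.map_det, RingHom.mapMatrix_apply, hmap, ← RingHom.mapMatrix_apply,
      ← RingHom.map_det]
    exact hdet.map _
  intro h0
  have h2 : A'.det = 0 := by
    refine Subtype.ext ?_
    rw [ZeroMemClass.coe_zero, ← h0]
    exact (RingHom.map_det (Subalgebra.val AlgInt).toRingHom A')
  rw [h2, map_zero] at h1
  exact not_isUnit_zero h1

/-- The difference of the two constituents. -/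
noncomputable def diff' (τ : Equiv.Perm (Fin n)) (ψ : IrrCharacter (Alt n)) : Alt n → ℂ :=
  (ψ : Alt n → ℂ) - ((conjT τ ψ : IrrCharacter _) : Alt n → ℂ)

theorem orderOf_conjEquiv (τ : Equiv.Perm (Fin n)) (x : Alt n) :
    orderOf (Char.conjEquivN (Alt n) τ x) = orderOf x :=
  (Char.conjEquivN (Alt n) τ).orderOf_eq x

set_option maxHeartbeats 800000 in
theorem Cover.rank_le (hM : IsPModular p M) {b : Set (IrrCharacter (Alt n))}
    {B : Set (IrrCharacter (Equiv.Perm (Fin n)))} (h : Cover M b B) {m : ℕ → ℕ} {W : ℕ}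
    (hm : ∀ ξ ∈ B, ∃ a : Fin n → ℤ, IsState n a ∧ IsW p m W a ∧
      ∃ e : ℤ, (e = 1 ∨ e = -1) ∧ chiG n a = (e : ℂ) • (ξ : Equiv.Perm (Fin n) → ℂ))
    {τ : Equiv.Perm (Fin n)} (hτ : τ ∉ Alt n) (hτ2 : τ * τ = 1) :
    ∃ c f : ℕ, blockRank p b ≤ c + f ∧ c ≤ bd p W ∧ (p = 2 → 3 ≤ W → c + 1 ≤ bd p W) ∧
      f ≤ bd p (W / 2) ∧ (f ≠ 0 → 2 ∣ W) := by
  classical
  have hp : p.Prime := Fact.out
  haveI := Fintype.ofFinite (Split B)
  haveI := Fintype.ofFinite (IrrCharacter (Alt n))
  obtain ⟨s, hs1, hs2, hsp⟩ := exists_span hm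
  choose ξ hξB hξtw e he hea using fun a : Split B => a.2.2
  choose ψ hψ using fun a : Split B => exists_under (ξ a)
  have hcase : ∀ a, conjT τ (ψ a) ≠ ψ a ∧ res' (ξ a : Equiv.Perm (Fin n) → ℂ) =
      (ψ a : Alt n → ℂ) + ((conjT τ (ψ a) : IrrCharacter _) : Alt n → ℂ) := fun a => by
    rcases res_cases hτ (hψ a) with ⟨h1, -⟩ | ⟨-, h2, h3⟩
    · exact absurd (hξtw a) h1
    · exact ⟨h2, h3⟩
  have hTT : ∀ θ : IrrCharacter (Alt n), conjT τ (conjT τ θ) = θ := fun θ => by
    rw [conjT, conjT, Block.conjPerm_mul, hτ2, Block.conjPerm_one]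
  have hW : ∀ a : Split B, IsW p m W a.1 := by
    intro a
    obtain ⟨a', ha', hW', e', he', hea'⟩ := hm _ (hξB a)
    rwa [state_unique a.2.1 ha' (he a) he' (hea a) hea']
  have hsum : ∀ a : Split B, (hooks a.1).val.sum = n := by
    intro a
    have h1 := (a.isSym).sum_hooks
    rw [a.2.1.2.2] at h1
    have h2 : ((∑ k ∈ hooks a.1, k : ℕ) : ℤ) = n := by linarith
    rw [← Int.ofNat_inj, ← h2]
    congr 1
    exact Finset.sum_val _
  have hpos : ∀ a : Split B, ∀ k ∈ (hooks a.1).val, 0 < k := fun a k hk => by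
    have := IsSym.hooks_odd (a := a.1) hk
    omega
  choose g₀ hg₀ using fun a : Split B => exists_perm_parts (hsum a) (hpos a)
  have hg₀A : ∀ a, g₀ a ∈ Alt n := fun a => by
    rw [Equiv.Perm.mem_alternatingGroup]
    refine Units.ext ?_
    rw [sign_eq_pow, hg₀, Units.val_one]
    refine Even.neg_one_pow ?_
    rw [Nat.even_iff]
    have h1 : (∑ k ∈ hooks a.1, k) % 2 = (hooks a.1).card % 2 := by
      rw [Finset.sum_nat_mod, Finset.sum_congr rfl fun k hk => IsSym.hooks_odd hk]
      simp
    have h2 : ∑ k ∈ hooks a.1, k = n := (Finset.sum_val _).symm.trans (hsum a)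
    rw [h2] at h1
    show (n + (hooks a.1).card) % 2 = 0
    omega
  set y : Split B → Alt n := fun a => ⟨g₀ a, hg₀A a⟩ with hy
  set Sing := (Finset.univ : Finset (Split B)).filter fun a => ∃ k ∈ hooks a.1, p ∣ k with hSing
  have hysing : ∀ a ∈ Sing, p ∣ orderOf (y a) := by
    intro a ha
    obtain ⟨k, hk, hpk⟩ := (Finset.mem_filter.1 ha).2
    rw [← Subgroup.orderOf_coe]
    by_contra hno
    have h1 := (regular_iff hp (g₀ a)).1 hno
    rw [hg₀, mp, Multiset.sum_eq_zero_iff] at h1
    exact (hpos a k hk).ne' (h1 k (Multiset.mem_filter.2 ⟨hk, hpk⟩))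
  -- the orthogonality
  set U := Block.conjUnion (Alt n) b with hU
  have hUB : U = under B := (h.under_eq hM).symm
  set Dd : Split B → Alt n → ℂ := fun a => diff' τ (ψ a) with hDd
  have horth : ∀ x z : Alt n, ¬ p ∣ orderOf x → p ∣ orderOf z →
      ∑ a, Dd a x * conj (Dd a z) = 0 := by
    intro x z hx hz
    have h1 := weak_orth_union hM (U := U) (Block.conjUnion_closed (Alt n) hM h.hb) hx hz
    have h2 := weak_orth_union hM (U := U) (Block.conjUnion_closed (Alt n) hM h.hb) hx
      (show p ∣ orderOf (Char.conjEquivN (Alt n) τ z) by rwa [orderOf_conjEquiv])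
    have h3 : ∑ θ ∈ Finset.univ.filter (· ∈ U), (θ : Alt n → ℂ) x * conj (diff' τ θ z) = 0 := by
      have hv : ∀ θ : IrrCharacter (Alt n), ((conjT τ θ : IrrCharacter _) : Alt n → ℂ) z =
          (θ : Alt n → ℂ) (Char.conjEquivN (Alt n) τ z) := fun θ => by
        show Char.conjN (Alt n) τ (θ : Alt n → ℂ) z = _
        rw [Char.conjN_eq_comp]
      simp only [diff', Pi.sub_apply, map_sub, mul_sub, Finset.sum_sub_distrib, hv, h1, h2, sub_zero]
    set F : Split B × Bool → IrrCharacter (Alt n) := fun q =>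
      bif q.2 then conjT τ (ψ q.1) else ψ q.1 with hF
    have hFover : ∀ q, Over (ξ q.1) (F q) := by
      rintro ⟨a, _ | _⟩
      · exact hψ a
      · exact Block.constituent_of_conj (Alt n) τ (hψ a)
    have hFinj : Function.Injective F := by
      intro q q' hqq
      have hξ : ξ q.1 = ξ q'.1 := by
        rcases over_unique hτ (hqq ▸ hFover q') (hFover q) with h4 | h4
        · exact h4
        · rw [h4, hξtw]
      have ha : q.1 = q'.1 := Subtype.ext
        (state_unique q.1.2.1 q'.1.2.1 (he _) (he _) (hea q.1) (hξ ▸ hea q'.1))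
      obtain ⟨a, x⟩ := q
      obtain ⟨a', x'⟩ := q'
      simp only at ha
      subst ha
      cases x <;> cases x' <;> simp only [hF, cond_true, cond_false] at hqq
      · rfl
      · exact absurd hqq.symm (hcase a).1
      · exact absurd hqq (hcase a).1
      · rfl
    rw [← h3]
    rw [← Finset.sum_subset (s₁ := Finset.univ.image F)
      (fun θ hθ => by
        obtain ⟨q, -, rfl⟩ := Finset.mem_image.1 hθ
        refine Finset.mem_filter.2 ⟨Finset.mem_univ _, ?_⟩
        rw [hUB]
        exact ⟨ξ q.1, hξB _, hFover q⟩)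
      (fun θ hθ hθ' => by
        obtain ⟨-, hθU⟩ := Finset.mem_filter.1 hθ
        rw [hUB] at hθU
        obtain ⟨χ, hχ, hov⟩ := hθU
        suffices hd : conjT τ θ = θ by simp [diff', hd]
        rcases res_cases hτ hov with ⟨-, h4, -⟩ | ⟨htw, -, hres⟩
        · exact h4
        · exfalso
          obtain ⟨a, ha, -, e', he', hea'⟩ := hm χ hχ
          set A : Split B := ⟨a, ha, χ, hχ, htw, e', he', hea'⟩ with hA
          have hξA : ξ A = χ := by
            refine Subtype.ext (funext fun w => ?_)
            have h5 := congrFun ((hea A).symm.trans hea') w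
            simp only [Pi.smul_apply, smul_eq_mul] at h5
            rcases he A with h6 | h6 <;> rcases he' with h7 | h7 <;> rw [h6, h7] at h5 <;>
              simp only [Int.cast_one, Int.cast_neg, one_mul, neg_mul, neg_inj] at h5
            · exact h5
            · exfalso
              obtain ⟨u, hu⟩ : ∃ u, (χ : Equiv.Perm (Fin n) → ℂ) u ≠ 0 :=
                ⟨1, Block.irr_one_ne_zero χ⟩
              have h8 := congrFun ((hea A).symm.trans hea') 1
              simp only [Pi.smul_apply, smul_eq_mul, h6, h7, Int.cast_one, Int.cast_neg, one_mul,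
                neg_mul] at h8
              rw [Block.charDeg_spec', Block.charDeg_spec'] at h8
              have h9 : ((charDegree (ξ A : Equiv.Perm (Fin n) → ℂ) +
                  charDegree (χ : Equiv.Perm (Fin n) → ℂ) : ℕ) : ℂ) = 0 := by
                push_cast; linear_combination h8
              rw [Nat.cast_eq_zero] at h9
              have := Block.charDeg_pos χ
              omega
            · exfalso
              have h8 := congrFun ((hea A).symm.trans hea') 1
              simp only [Pi.smul_apply, smul_eq_mul, h6, h7, Int.cast_one, Int.cast_neg, one_mul,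
                neg_mul] at h8
              rw [Block.charDeg_spec', Block.charDeg_spec'] at h8
              have h9 : ((charDegree (ξ A : Equiv.Perm (Fin n) → ℂ) +
                  charDegree (χ : Equiv.Perm (Fin n) → ℂ) : ℕ) : ℂ) = 0 := by
                push_cast; linear_combination -h8
              rw [Nat.cast_eq_zero] at h9
              have := Block.charDeg_pos χ
              omega
            · exact h5
          refine hθ' (Finset.mem_image.2 ?_)
          by_contra hno
          push Not at hno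
          have hA1 := hno (A, false) (Finset.mem_univ _)
          have hA2 := hno (A, true) (Finset.mem_univ _)
          simp only [hF, cond_true, cond_false] at hA1 hA2
          have h10 : classInner (res' (χ : Equiv.Perm (Fin n) → ℂ)) (θ : Alt n → ℂ) = 0 := by
            rw [← hξA, (hcase A).2, classInner_add_left,
              classInner_irr_ne (ψ A).2 θ.2 (fun hh => hA1 (Subtype.ext hh)),
              classInner_irr_ne (conjT τ (ψ A)).2 θ.2 (fun hh => hA2 (Subtype.ext hh)), add_zero]
          exact hov h10)]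
    rw [Finset.sum_image hFinj.injOn, Fintype.sum_prod_type]
    refine Finset.sum_congr rfl fun a _ => ?_
    rw [Fintype.sum_bool]
    simp only [hF, cond_true, cond_false, hDd, diff', Pi.sub_apply, hTT, map_sub]
    ring
  -- the linear map
  set L : (Split B → ℂ) →ₗ[ℂ] (Alt n → ℂ) :=
    { toFun := fun c x => if p ∣ orderOf x then 0 else ∑ a, c a * Dd a x
      map_add' := fun c d => funext fun x => by
        simp only [Pi.add_apply, add_mul, Finset.sum_add_distrib]
        split_ifs <;> simp
      map_smul' := fun r c => funext fun x => by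
        simp only [Pi.smul_apply, smul_eq_mul, RingHom.id_apply, mul_assoc, ← Finset.mul_sum]
        split_ifs <;> simp } with hL
  set w : {a // a ∈ Sing} → (Split B → ℂ) := fun z a => conj (Dd a (y z.1)) with hw
  have hker : ∀ z, w z ∈ LinearMap.ker L := by
    intro z
    rw [LinearMap.mem_ker]
    funext x
    show (if p ∣ orderOf x then 0 else ∑ a, w z a * Dd a x) = 0
    split_ifs with hx
    · rfl
    · rw [← horth x (y z.1) hx (hysing z.1 z.2)]
      exact Finset.sum_congr rfl fun a _ => mul_comm _ _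
  set Am : Matrix {a // a ∈ Sing} {a // a ∈ Sing} ℂ := fun a z => Dd a.1 (y z.1) with hAm
  have hdet : Am.det ≠ 0 := by
    refine det_ne_zero_of_cong (fun a => key (hooks a.1.1)) ?_
      (fun a z => e a.1 * chiM (hooks z.1.1).val a.1.1) ?_ ?_ Am ?_ ?_
    · intro a z hh
      exact Subtype.ext (Subtype.ext (IsSym.eq_of_hooks a.1.isSym z.1.isSym a.1.2.1.1 z.1.2.1.1
        (key_injective hh)))
    · intro a z hne
      exact key_le_of_chiM_ne_zero _ (hpos z.1) _ a.1.isSym (right_ne_zero_of_mul hne)
    · intro a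
      rcases he a.1 with h1 | h1 <;>
        rcases chiM_hooks _ _ a.1.isSym rfl with h2 | h2 <;> rw [h1, h2] <;> norm_num
    · intro a z
      exact (Block.irr_isIntegral _ _).sub (Block.irr_isIntegral _ _)
    · intro a z
      refine ⟨-((conjT τ (ψ a.1) : IrrCharacter _) : Alt n → ℂ) (y z.1),
        (Block.irr_isIntegral _ _).neg, ?_⟩
      have hr := congrFun (hcase a.1).2 (y z.1)
      have hchi : chiG n a.1.1 (g₀ z.1) = (chiM (hooks z.1.1).val a.1.1 : ℂ) := by
        rw [chiG, hg₀]
      have hev := congrFun (hea a.1) (g₀ z.1)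
      rw [hchi, Pi.smul_apply, smul_eq_mul] at hev
      have hee : (e a.1 : ℂ) * (e a.1 : ℂ) = 1 := by
        rcases he a.1 with h1 | h1 <;> simp [h1]
      simp only [res', Pi.add_apply] at hr
      simp only [hAm, hDd, diff', Pi.sub_apply]
      push_cast
      rw [hev, ← mul_assoc, hee, one_mul, show (g₀ z.1) = ((y z.1 : Alt n) : Equiv.Perm (Fin n))
        from rfl, hr]
      ring
  have hli : LinearIndependent ℂ w := by
    set Aw : Matrix {a // a ∈ Sing} {a // a ∈ Sing} ℂ := fun z a => w z a.1 with hAw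
    have hAwdet : Aw.det ≠ 0 := by
      have : Aw = (Am.map (starRingEnd ℂ)).transpose := by ext z a; rfl
      rw [this, Matrix.det_transpose, ← RingHom.mapMatrix_apply, ← RingHom.map_det]
      exact (map_ne_zero _).2 hdet
    have h1 : LinearIndependent ℂ Aw.row := Matrix.linearIndependent_rows_of_det_ne_zero hAwdet
    exact LinearIndependent.of_comp
      ({ toFun := fun c a => c a.1, map_add' := fun _ _ => rfl, map_smul' := fun _ _ => rfl } :
        (Split B → ℂ) →ₗ[ℂ] ({a // a ∈ Sing} → ℂ)) h1
  have hrange : Module.finrank ℂ (LinearMap.range L) ≤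
      ((Finset.univ : Finset (Split B)).filter fun a => ¬ ∃ k ∈ hooks a.1, p ∣ k).card := by
    have h1 : Fintype.card {a // a ∈ Sing} ≤ Module.finrank ℂ (LinearMap.ker L) := by
      have h2 : LinearIndependent ℂ (fun z => (⟨w z, hker z⟩ : LinearMap.ker L)) :=
        LinearIndependent.of_comp (LinearMap.ker L).subtype hli
      exact h2.fintype_card_le_finrank
    rw [Fintype.card_coe] at h1
    have h2 := LinearMap.finrank_range_add_finrank_ker L
    rw [Module.finrank_pi] at h2
    have h3 := Finset.card_filter_add_card_filter_not (s := (Finset.univ : Finset (Split B)))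
      (fun a => ∃ k ∈ hooks a.1, p ∣ k)
    rw [Finset.card_univ] at h3
    rw [hSing] at h1
    omega
  -- the restriction
  set R : (Equiv.Perm (Fin n) → ℂ) →ₗ[ℂ] (Alt n → ℂ) :=
    LinearMap.funLeft ℂ ℂ (fun x : Alt n => (x : Equiv.Perm (Fin n))) with hR
  have hregR : ∀ φ : Equiv.Perm (Fin n) → ℂ, R (pRegularPart p φ) = pRegularPart p (res' φ) := by
    intro φ
    funext x
    show pRegularPart p φ (x : Equiv.Perm (Fin n)) = _
    unfold pRegularPart IsPRegular
    rw [Subgroup.orderOf_coe]
    by_cases h1 : p ∣ orderOf x <;> simp [h1, res']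
  set S₁ := Submodule.span ℂ ((s.image R : Finset (Alt n → ℂ)) : Set (Alt n → ℂ)) with hS₁
  have hspan : ∀ θ ∈ b, pRegularPart p (θ : Alt n → ℂ) ∈ S₁ ⊔ LinearMap.range L := by
    intro θ hθ
    obtain ⟨χ, hχ, hov⟩ := h.exists_over hM hθ
    have hres1 : pRegularPart p (res' (χ : Equiv.Perm (Fin n) → ℂ)) ∈ S₁ := by
      rw [← hregR, hS₁, Finset.coe_image, ← Submodule.map_span]
      exact Submodule.mem_map_of_mem (hsp χ hχ)
    rcases res_cases hτ hov with ⟨-, -, hr⟩ | ⟨htw, -, hr⟩
    · rw [← hr]
      exact Submodule.mem_sup_left hres1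
    · obtain ⟨a, ha, -, e', he', hea'⟩ := hm χ hχ
      set A : Split B := ⟨a, ha, χ, hχ, htw, e', he', hea'⟩ with hA
      have hover : Over (ξ A) θ := by
        have h5 : ∀ w, ((e A : ℤ) : ℂ) * (ξ A : Equiv.Perm (Fin n) → ℂ) w =
            (e' : ℂ) * (χ : Equiv.Perm (Fin n) → ℂ) w := fun w => by
          simpa [Pi.smul_apply] using congrFun ((hea A).symm.trans hea') w
        have h6 : res' (ξ A : Equiv.Perm (Fin n) → ℂ) =
            (((e A * e' : ℤ) : ℂ)) • res' (χ : Equiv.Perm (Fin n) → ℂ) := by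
          funext w
          have hee : (e A : ℂ) * (e A : ℂ) = 1 := by rcases he A with h7 | h7 <;> simp [h7]
          simp only [res', Pi.smul_apply, smul_eq_mul, Int.cast_mul]
          rw [mul_assoc, ← h5, ← mul_assoc, hee, one_mul]
        show classInner _ _ ≠ 0
        rw [h6, classInner_smul_left]
        refine mul_ne_zero ?_ hov
        rcases he A with h7 | h7 <;> rcases he' with h8 | h8 <;> simp [h7, h8]
      have hξA : ξ A = χ := by
        rcases over_unique hτ hov hover with h1 | h1
        · exact h1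
        · rw [h1, htw]
      have hin : ∀ c : Split B → ℂ,
          pRegularPart p (fun x => ∑ a, c a * Dd a x) = L c := fun c => by
        funext x
        show pRegularPart p _ x = if p ∣ orderOf x then 0 else _
        unfold pRegularPart IsPRegular
        by_cases h1 : p ∣ orderOf x <;> simp [h1]
      have hθ2 : θ = ψ A ∨ θ = conjT τ (ψ A) := by
        by_contra hno
        push Not at hno
        refine hov ?_
        rw [← hξA, (hcase A).2, classInner_add_left,
          classInner_irr_ne (ψ A).2 θ.2 (fun hh => hno.1 (Subtype.ext hh.symm)),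
          classInner_irr_ne (conjT τ (ψ A)).2 θ.2 (fun hh => hno.2 (Subtype.ext hh.symm)), add_zero]
      obtain ⟨σ, hσ⟩ : ∃ σ : ℂ, ∀ x, (θ : Alt n → ℂ) x =
          (1 / 2 : ℂ) * res' (χ : Equiv.Perm (Fin n) → ℂ) x + σ * Dd A x := by
        rcases hθ2 with rfl | rfl
        · refine ⟨1 / 2, fun x => ?_⟩
          rw [← hξA, (hcase A).2]
          simp only [hDd, diff', Pi.add_apply, Pi.sub_apply]
          ring
        · refine ⟨-1 / 2, fun x => ?_⟩
          rw [← hξA, (hcase A).2]
          simp only [hDd, diff', Pi.add_apply, Pi.sub_apply]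
          ring
      have heq : pRegularPart p (θ : Alt n → ℂ) =
          (1 / 2 : ℂ) • pRegularPart p (res' (χ : Equiv.Perm (Fin n) → ℂ)) + L (Pi.single A σ) := by
        rw [← hin]
        funext x
        simp only [Pi.add_apply, Pi.smul_apply, smul_eq_mul]
        unfold pRegularPart IsPRegular
        by_cases h1 : p ∣ orderOf x
        · simp [h1]
        · simp only [h1, not_false_eq_true, if_true]
          rw [hσ x, Finset.sum_eq_single A (fun a _ ha' => by rw [Pi.single_eq_of_ne ha', zero_mul])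
            (fun hh => absurd (Finset.mem_univ A) hh), Pi.single_eq_same]
      rw [heq]
      exact Submodule.add_mem_sup (Submodule.smul_mem _ _ hres1) (LinearMap.mem_range_self L _)
  set F := (((Finset.univ : Finset (Split B)).filter fun a => ¬ ∃ k ∈ hooks a.1, p ∣ k).image
    fun a => a.1) with hFdef
  have hF := card_regular_sym_le hp.two_le (m := m) (W := W) F (fun a ha => by
    obtain ⟨A, hA, rfl⟩ := Finset.mem_image.1 ha
    exact ⟨A.2.1.1, A.isSym, hW A, fun k hk hpk => (Finset.mem_filter.1 hA).2 ⟨k, hk, hpk⟩⟩)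
  refine ⟨s.card, F.card, ?_, hs1, hs2, hF.1, fun hne => hF.2 (Finset.card_pos.1 (by omega))⟩
  rw [hFdef, Finset.card_image_of_injective _ Subtype.val_injective]
  refine le_trans (le_trans (Submodule.finrank_mono (show
    Submodule.span ℂ ((fun θ : IrrCharacter (Alt n) => pRegularPart p (θ : Alt n → ℂ)) '' b) ≤
      S₁ ⊔ LinearMap.range L by
      rw [Submodule.span_le]
      rintro _ ⟨θ, hθ, rfl⟩
      exact hspan θ hθ)) (Submodule.finrank_add_le_finrank_add_finrank _ _)) ?_
  exact Nat.add_le_add ((finrank_span_finset_le_card _).trans Finset.card_image_le) hrange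

/-- A block of weight zero covers only blocks of trivial defect. -/
theorem Cover.defect_zero (hM : IsPModular p M) {b : Set (IrrCharacter (Alt n))}
    {B : Set (IrrCharacter (Equiv.Perm (Fin n)))} (h : Cover M b B) {m : ℕ → ℕ}
    (hm : ∀ ξ ∈ B, ∃ a : Fin n → ℤ, IsState n a ∧ IsW p m 0 a ∧
      ∃ e : ℤ, (e = 1 ∨ e = -1) ∧ chiG n a = (e : ℂ) • (ξ : Equiv.Perm (Fin n) → ℂ))
    [Nontrivial (Fin n)] {D : Subgroup (Alt n)} (hD : IsDefectGroup p M b D) : D = ⊥ := by
  classical
  have hp : p.Prime := Fact.out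
  obtain ⟨a₁, a₂, hne⟩ := exists_pair_ne (Fin n)
  set τ := Equiv.swap a₁ a₂ with hτdef
  have hτ : τ ∉ Alt n := fun hh => by
    rw [Equiv.Perm.mem_alternatingGroup, hτdef, Equiv.Perm.sign_swap hne] at hh
    exact absurd hh (by decide)
  have hcard : Nat.card (Equiv.Perm (Fin n)) = 2 * Nat.card (Alt n) := by
    rw [← (Alt n).index_mul_card, alternatingGroup.index_eq_two]
  obtain ⟨θ, hθ, hθ0⟩ := Block.exists_height_zero hM h.hb
  obtain ⟨χ, hχ, hov⟩ := h.exists_over hM hθ
  obtain ⟨a, ha, hW, e, he, hea⟩ := hm χ hχ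
  have hfull := Block.degree_full_of_vanish (p := p) χ fun g hg => by
    have h1 := vanish_of_weight_zero hW ha.1.injective (g := g) (by rw [hg])
    rw [hea, Pi.smul_apply, smul_eq_mul, mul_eq_zero] at h1
    exact h1.resolve_left (by rcases he with rfl | rfl <;> simp)
  have hdeg : (charDegree (θ : Alt n → ℂ)).factorization p =
      (Nat.card (Alt n)).factorization p := by
    have h1 : charDegree (χ : Equiv.Perm (Fin n) → ℂ) = charDegree (θ : Alt n → ℂ) ∨
        charDegree (χ : Equiv.Perm (Fin n) → ℂ) = 2 * charDegree (θ : Alt n → ℂ) := by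
      have h2 : ((conjT τ θ : IrrCharacter _) : Alt n → ℂ) 1 = (θ : Alt n → ℂ) 1 :=
        congrArg (θ : Alt n → ℂ) (Subtype.ext (by simp))
      rcases res_cases hτ hov with ⟨-, -, hr⟩ | ⟨-, -, hr⟩
      · left
        have h3 := congrFun hr 1
        simp only [res', OneMemClass.coe_one] at h3
        rw [Block.charDeg_spec', Block.charDeg_spec', Nat.cast_inj] at h3
        exact h3
      · right
        have h3 := congrFun hr 1
        simp only [res', OneMemClass.coe_one, Pi.add_apply, h2] at h3
        rw [Block.charDeg_spec', Block.charDeg_spec', ← Nat.cast_add, Nat.cast_inj] at h3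
        omega
    have h2 := (Nat.factorization_le_iff_dvd (Block.charDeg_pos θ).ne' Nat.card_pos.ne').2
      (Block.charDeg_dvd θ) p
    rw [hcard, Nat.factorization_mul two_ne_zero Nat.card_pos.ne', Finsupp.add_apply] at hfull
    rcases h1 with h1 | h1 <;> rw [h1] at hfull
    · omega
    · rw [Nat.factorization_mul two_ne_zero (Block.charDeg_pos θ).ne', Finsupp.add_apply] at hfull
      omega
  have hd : blockDefect p b = 0 := by
    have := (Block.blockHeight_zero_iff hM h.hb hθ).1 hθ0
    omega
  have hc := Block.card_defectGroup hM h.hb hD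
  rw [hd, pow_zero] at hc
  exact Subgroup.eq_bot_of_card_eq D hc

end Cfsg.Agent.Char.SymChar
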