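import Cfsg.Agent.Lib.Char.Quotient
import Cfsg.Agent.Lib.Char.Constituent
import Cfsg.Agent.Lib.Char.Induce
import Cfsg.Agent.Lib.Block.HeightLocal
import Mathlib.GroupTheory.Perm.ViaEmbedding
import Mathlib.Analysis.SpecialFunctions.Complex.CircleAddChar

/-!
Sylow subgroups of the symmetric and alternating groups on `p * W` points, and their characters of
degree `p`.
-/

set_option autoImplicit false

namespace Cfsg.Agent.Char.SymChar

open Finset

set_option linter.unusedSectionVars false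

variable {p W : ℕ} [Fact p.Prime]

/-- A linear character of a subgroup of index `p` moved by conjugation gives a character of degree
`p` of a `p`-group. -/
theorem exists_irr_degree_prime {P : Type} [Group P] [Finite P] (hP : IsPGroup p P) (H : Subgroup P)
    [H.Normal] (hi : H.index = p) (l : H →* ℂˣ) (t : P) (h : H)
    (hne : l ⟨t * h * t⁻¹, Subgroup.Normal.conj_mem inferInstance _ h.2 t⟩ ≠ l h) :
    ∃ φ : IrrCharacter P, charDegree (φ : P → ℂ) = p := by
  classical
  cases nonempty_fintype P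
  cases nonempty_fintype H
  have hp : p.Prime := Fact.out
  set θ : H → ℂ := fun x => (l x : ℂ) with hθ
  have hθi : IsIrrCharacter H θ := isIrr_linear l
  have hI := isCharacter_indFun H (IsIrr.isCharacter hθi)
  have hI1 : indFun H θ 1 = (p : ℂ) := by rw [indFun_one_eq, hi]; simp [hθ]
  obtain ⟨φ, hφ⟩ := IsChar.exists_constituent' hI (by
    rw [hI1]; exact Nat.cast_ne_zero.2 hp.ne_zero)
  refine ⟨φ, ?_⟩
  set d := charDegree (φ : P → ℂ) with hd
  have hd1 : (φ : P → ℂ) 1 = (d : ℂ) := Block.charDeg_spec' φ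
  have hle : d ≤ p := degree_le_of_constituent hI φ.2 hφ hI1 hd1
  obtain ⟨e, he⟩ := IsPGroup.iff_card.1 hP
  obtain ⟨j, -, hj⟩ := (Nat.dvd_prime_pow hp).1 (he ▸ Block.charDeg_dvd φ)
  rcases Nat.eq_zero_or_pos j with rfl | hj0
  swap
  · refine le_antisymm hle ?_
    rw [hd, hj]
    exact Nat.le_self_pow hj0.ne' p
  exfalso
  rw [pow_zero] at hj
  have hres : IsIrrCharacter H (fun x : H => (φ : P → ℂ) x) := by
    obtain ⟨f, hf⟩ := linearHom_of_isCharacter (IsIrr.isCharacter φ.2)
      (by rw [hd1, hd, hj, Nat.cast_one])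
    convert isIrr_linear (f.comp H.subtype) using 1
    funext x
    exact congrFun hf x
  have heq : (fun x : H => (φ : P → ℂ) x) = θ := by
    by_contra hh
    refine hφ ?_
    rw [classInner_indFun H θ (IsIrr.classFun φ.2), classInner_irr_ne hθi hres (Ne.symm hh)]
  refine hne (Units.ext ?_)
  have h1 := congrFun heq ⟨t * h * t⁻¹, Subgroup.Normal.conj_mem inferInstance _ h.2 t⟩
  have h2 := congrFun heq h
  simp only [hθ] at h1 h2
  rw [← h1, ← h2, IsIrr.classFun φ.2 (h : P) t]

theorem sign_addLeft_two : Equiv.Perm.sign (Equiv.addLeft (1 : ZMod 2)) = -1 := by decide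

/-- The wreath product of the integers modulo `p` with a group of permutations. -/
def wr (p : ℕ) (T : Subgroup (Equiv.Perm (Fin W))) : Subgroup (Equiv.Perm (Fin W × ZMod p)) where
  carrier := {π | ∃ t ∈ T, ∃ f : Fin W → ZMod p, ∀ i a, π (i, a) = (t i, f i + a)}
  one_mem' := ⟨1, one_mem T, 0, fun i a => by simp⟩
  mul_mem' := by
    rintro π σ ⟨t, ht, f, hf⟩ ⟨s, hs, g, hg⟩
    refine ⟨t * s, mul_mem ht hs, fun i => f (s i) + g i, fun i a => ?_⟩
    rw [Equiv.Perm.mul_apply, hg, hf, Equiv.Perm.mul_apply, add_assoc]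
  inv_mem' := by
    rintro π ⟨t, ht, f, hf⟩
    refine ⟨t⁻¹, inv_mem ht, fun i => - f (t⁻¹ i), fun i a => ?_⟩
    rw [Equiv.Perm.inv_eq_iff_eq, hf, Equiv.Perm.coe_inv, Equiv.apply_symm_apply,
      add_neg_cancel_left]

variable {T : Subgroup (Equiv.Perm (Fin W))}

theorem wr_spec (π : wr p T) : ∃ t : T, ∀ i a, (π : Equiv.Perm (Fin W × ZMod p)) (i, a) =
    ((t : Equiv.Perm (Fin W)) i, ((π : Equiv.Perm (Fin W × ZMod p)) (i, 0)).2 + a) := by
  obtain ⟨t, ht, f, hf⟩ := π.2
  exact ⟨⟨t, ht⟩, fun i a => by rw [hf, hf]; simp⟩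

/-- The permutation of the copies. -/
noncomputable def base (π : wr p T) : T := (wr_spec π).choose

/-- The translation on a copy. -/
def shift (π : wr p T) (i : Fin W) : ZMod p := ((π : Equiv.Perm (Fin W × ZMod p)) (i, 0)).2

theorem wr_apply (π : wr p T) (i : Fin W) (a : ZMod p) :
    (π : Equiv.Perm (Fin W × ZMod p)) (i, a) = ((base π : Equiv.Perm (Fin W)) i, shift π i + a) :=
  (wr_spec π).choose_spec i a

theorem base_mul (π σ : wr p T) : base (π * σ) = base π * base σ := by
  refine Subtype.ext (Equiv.ext fun i => ?_)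
  have h := wr_apply (π * σ) i 0
  rw [Subgroup.coe_mul, Equiv.Perm.mul_apply, wr_apply σ, wr_apply π] at h
  rw [Subgroup.coe_mul, Equiv.Perm.mul_apply]
  exact (congrArg Prod.fst h).symm

theorem shift_mul (π σ : wr p T) (i : Fin W) :
    shift (π * σ) i = shift π ((base σ : Equiv.Perm (Fin W)) i) + shift σ i := by
  have h := wr_apply (π * σ) i 0
  rw [Subgroup.coe_mul, Equiv.Perm.mul_apply, wr_apply σ, wr_apply π] at h
  simpa using (congrArg Prod.snd h).symm

/-- The element with given base and translations. -/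
def mkWr (t : T) (f : Fin W → ZMod p) : wr p T :=
  ⟨{ toFun := fun x => ((t : Equiv.Perm (Fin W)) x.1, f x.1 + x.2)
     invFun := fun x => ((t : Equiv.Perm (Fin W))⁻¹ x.1, - f ((t : Equiv.Perm (Fin W))⁻¹ x.1) + x.2)
     left_inv := fun x => by simp
     right_inv := fun x => by simp }, t, t.2, f, fun _ _ => rfl⟩

theorem mkWr_spec (t : T) (f : Fin W → ZMod p) :
    base (mkWr t f) = t ∧ shift (mkWr t f) = f := by
  refine ⟨Subtype.ext (Equiv.ext fun i => ?_), funext fun i => ?_⟩
  · exact (congrArg Prod.fst (wr_apply (mkWr t f) i 0)).symm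
  · show f i + 0 = f i
    rw [add_zero]

theorem wr_ext {π σ : wr p T} (h1 : base π = base σ) (h2 : shift π = shift σ) : π = σ := by
  refine Subtype.ext (Equiv.ext fun x => ?_)
  obtain ⟨i, a⟩ := x
  rw [wr_apply, wr_apply, h1, h2]

theorem card_wr : Nat.card (wr p T) = p ^ W * Nat.card T := by
  haveI : NeZero p := ⟨(Fact.out : p.Prime).ne_zero⟩
  let e : wr p T ≃ (Fin W → ZMod p) × T :=
    { toFun := fun π => (shift π, base π)
      invFun := fun x => mkWr x.2 x.1
      left_inv := fun π => wr_ext (mkWr_spec _ _).1 (mkWr_spec _ _).2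
      right_inv := fun x => Prod.ext (mkWr_spec x.2 x.1).2 (mkWr_spec x.2 x.1).1 }
  rw [Nat.card_congr e, Nat.card_prod, Nat.card_fun, Nat.card_zmod, Nat.card_fin]

theorem wr_isPGroup (hT : IsPGroup p T) : IsPGroup p (wr p T) := by
  obtain ⟨k, hk⟩ := IsPGroup.iff_card.1 hT
  exact IsPGroup.of_card (n := W + k) (by rw [card_wr, hk, pow_add])

theorem sign_mkWr_one (f : Fin W → ZMod p) [NeZero p] :
    Equiv.Perm.sign ((mkWr (1 : T) f : wr p T) : Equiv.Perm (Fin W × ZMod p)) =
      ∏ i, Equiv.Perm.sign (Equiv.addLeft (f i)) := by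
  rw [← Equiv.Perm.sign_prodCongrRight]
  congr 1

theorem sign_mkWr_zero (t : T) [NeZero p] :
    Equiv.Perm.sign ((mkWr t (0 : Fin W → ZMod p) : wr p T) : Equiv.Perm (Fin W × ZMod p)) =
      Equiv.Perm.sign (t : Equiv.Perm (Fin W)) ^ p := by
  have h : ((mkWr t (0 : Fin W → ZMod p) : wr p T) : Equiv.Perm (Fin W × ZMod p)) =
      Equiv.prodCongrLeft fun _ : ZMod p => (t : Equiv.Perm (Fin W)) := by
    refine Equiv.ext fun x => ?_
    show ((t : Equiv.Perm (Fin W)) x.1, (0 : Fin W → ZMod p) x.1 + x.2) = _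
    simp [Equiv.prodCongrLeft]
  rw [h, Equiv.Perm.sign_prodCongrLeft, Finset.prod_const, Finset.card_univ, ZMod.card]

/-- The even part of the wreath product. -/
def wrA (p : ℕ) [NeZero p] (T : Subgroup (Equiv.Perm (Fin W))) : Subgroup (wr p T) :=
  (alternatingGroup (Fin W × ZMod p)).subgroupOf (wr p T)

variable [NeZero p]

theorem mem_wrA {π : wr p T} :
    π ∈ wrA p T ↔ Equiv.Perm.sign (π : Equiv.Perm (Fin W × ZMod p)) = 1 := by
  rw [wrA, Subgroup.mem_subgroupOf, Equiv.Perm.mem_alternatingGroup]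

theorem sign_of_odd_order {V : Type} [Fintype V] [DecidableEq V] (hp2 : p ≠ 2)
    {g : Equiv.Perm V} (hg : ∃ k, orderOf g = p ^ k) : Equiv.Perm.sign g = 1 := by
  obtain ⟨k, hk⟩ := hg
  rcases Int.units_eq_one_or (Equiv.Perm.sign g) with h | h
  · exact h
  exfalso
  have h1 := orderOf_map_dvd (Equiv.Perm.sign : Equiv.Perm V →* ℤˣ) g
  rw [h, show orderOf (-1 : ℤˣ) = 2 from orderOf_eq_prime (by norm_num) (by decide), hk] at h1
  exact hp2 ((Nat.prime_dvd_prime_iff_eq Nat.prime_two Fact.out).1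
    (Nat.Prime.dvd_of_dvd_pow Nat.prime_two h1)).symm

theorem wrA_eq_top (hp2 : p ≠ 2) (hT : IsPGroup p T) : wrA p T = ⊤ := by
  rw [eq_top_iff]
  intro π _
  obtain ⟨k, hk⟩ := IsPGroup.iff_orderOf.1 (wr_isPGroup (p := p) hT) π
  exact mem_wrA.2 (sign_of_odd_order hp2 ⟨k, by rw [Subgroup.orderOf_coe, hk]⟩)

theorem card_wrA (hW : 0 < W) (hT : IsPGroup p T) :
    Nat.card (wrA p T) * (if p = 2 then 2 else 1) = Nat.card (wr p T) := by
  classical
  by_cases hp2 : p = 2
  · subst hp2
    rw [if_pos rfl, ← Subgroup.card_mul_index (wrA 2 T)]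
    congr 1
    set f : wr 2 T →* ℤˣ := Equiv.Perm.sign.comp (wr 2 T).subtype with hf
    have hker : wrA 2 T = f.ker := by ext π; exact mem_wrA
    have hsur : Function.Surjective f := by
      intro u
      rcases Int.units_eq_one_or u with rfl | rfl
      · exact ⟨1, map_one f⟩
      · refine ⟨mkWr 1 (Pi.single ⟨0, hW⟩ 1), ?_⟩
        show Equiv.Perm.sign ((mkWr (1 : T) (Pi.single ⟨0, hW⟩ 1) : wr 2 T) : Equiv.Perm (Fin W × ZMod 2)) = _
        rw [sign_mkWr_one, Finset.prod_eq_single (⟨0, hW⟩ : Fin W) (fun i _ h => by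
          rw [Pi.single_eq_of_ne h, show (Equiv.addLeft (0 : ZMod 2)) = 1 from
            Equiv.ext fun x => zero_add x, map_one]) (fun h => absurd (Finset.mem_univ _) h),
          Pi.single_eq_same]
        exact sign_addLeft_two
    rw [hker, Subgroup.index_ker, MonoidHom.range_eq_top.2 hsur, Subgroup.card_top]
    simp
  · rw [if_neg hp2, mul_one, wrA_eq_top hp2 hT, Subgroup.card_top]

theorem mkWr_zero_mem (hT : IsPGroup p T) (t : T) : mkWr t (0 : Fin W → ZMod p) ∈ wrA p T := by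
  by_cases hp2 : p = 2
  · subst hp2
    rw [mem_wrA, sign_mkWr_zero, Int.units_sq]
  · rw [wrA_eq_top hp2 hT]
    exact Subgroup.mem_top _

/-- A block `Y` moved by `t` and a translation separating `Y` from its image give a character of
degree `p`. -/
theorem exists_degree_sub (hT : IsPGroup p T) (P : Subgroup (wr p T))
    (hP : ∀ t : T, mkWr t (0 : Fin W → ZMod p) ∈ P) (N : Subgroup T) [N.Normal] (hi : N.index = p)
    (Y : Finset (Fin W)) (hY : ∀ s ∈ N, ∀ i, (s : Equiv.Perm (Fin W)) i ∈ Y ↔ i ∈ Y) (t : T)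
    (f : Fin W → ZMod p) (hf : mkWr (1 : T) f ∈ P)
    (hne : ∑ i ∈ Y, f ((t : Equiv.Perm (Fin W))⁻¹ i) ≠ ∑ i ∈ Y, f i) :
    ∃ φ : IrrCharacter (P), charDegree (φ : P → ℂ) = p := by
  classical
  set b : P →* T :=
    { toFun := fun π => base (π : wr p T)
      map_one' := by
        have h : base ((1 : P) : wr p T) * base ((1 : P) : wr p T) =
            base ((1 : P) : wr p T) := by rw [← base_mul]; simp
        exact mul_left_cancel (h.trans (mul_one _).symm)
      map_mul' := fun x y => base_mul _ _ } with hb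
  have hsur : Function.Surjective b := fun s => ⟨⟨mkWr s 0, hP s⟩, (mkWr_spec s 0).1⟩
  set H := N.comap b with hH
  have hHi : H.index = p := by rw [hH, Subgroup.index_comap_of_surjective _ hsur, hi]
  have hmul : ∀ x y : H, ∑ i ∈ Y, shift ((x * y : H) : wr p T) i =
      ∑ i ∈ Y, shift ((x : P) : wr p T) i + ∑ i ∈ Y, shift ((y : P) : wr p T) i := by
    intro x y
    rw [show ((x * y : H) : wr p T) = ((x : P) : wr p T) * ((y : P) : wr p T) from rfl,
      Finset.sum_congr rfl fun i _ => shift_mul _ _ i, Finset.sum_add_distrib]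
    congr 1
    refine Finset.sum_equiv (base ((y : P) : wr p T) : Equiv.Perm (Fin W))
      (fun i => (hY _ y.2 i).symm) fun i _ => rfl
  set L : H →* Multiplicative (ZMod p) :=
    MonoidHom.mk' (fun x => Multiplicative.ofAdd (∑ i ∈ Y, shift ((x : P) : wr p T) i))
      (fun x y => congrArg Multiplicative.ofAdd (hmul x y)) with hL
  set l : H →* ℂˣ := ((ZMod.stdAddChar : AddChar (ZMod p) ℂ).toMonoidHom.comp L).toHomUnits with hl
  set π₁ : P := ⟨mkWr 1 f, hf⟩ with hπ₁
  have h1H : π₁ ∈ H := by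
    show base (mkWr (1 : T) f) ∈ N
    rw [(mkWr_spec _ _).1]
    exact one_mem N
  refine exists_irr_degree_prime ((wr_isPGroup hT).to_subgroup P) H hHi l
    ⟨mkWr t 0, hP t⟩ ⟨π₁, h1H⟩ ?_
  intro heq
  refine hne ?_
  have h1 := congrArg (fun u : ℂˣ => (u : ℂ)) heq
  simp only [hl, MonoidHom.coe_toHomUnits, MonoidHom.comp_apply, AddChar.toMonoidHom_apply] at h1
  have h2 := ZMod.injective_stdAddChar h1
  simp only [hL, MonoidHom.mk'_apply, toAdd_ofAdd, hπ₁] at h2
  rw [(mkWr_spec (1 : T) f).2] at h2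
  rw [← h2]
  refine Finset.sum_congr rfl fun i _ => ?_
  have hconj : (mkWr t (0 : Fin W → ZMod p)) * mkWr 1 f * (mkWr t (0 : Fin W → ZMod p))⁻¹ =
      mkWr 1 fun j => f ((t : Equiv.Perm (Fin W))⁻¹ j) := by
    rw [mul_inv_eq_iff_eq_mul]
    refine wr_ext ?_ (funext fun j => ?_)
    · simp only [base_mul, (mkWr_spec _ _).1, one_mul, mul_one]
    · simp only [shift_mul, (mkWr_spec _ _).1, (mkWr_spec _ _).2]
      simp
  show _ = shift (mkWr t (0 : Fin W → ZMod p) * mkWr 1 f * (mkWr t 0)⁻¹) i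
  rw [hconj, (mkWr_spec _ _).2]

/-- An index `p` subgroup over a point stabilizer. -/
theorem exists_normal_over_stab (hT : IsPGroup p T) (h : ∃ t : T, ∃ i, (t : Equiv.Perm (Fin W)) i ≠ i) :
    ∃ (α : Fin W) (N : Subgroup T), N.Normal ∧ N.index = p ∧
      ∀ t : T, (t : Equiv.Perm (Fin W)) α = α → t ∈ N := by
  classical
  obtain ⟨t, α, hα⟩ := h
  set S : Subgroup T :=
    { carrier := {s | (s : Equiv.Perm (Fin W)) α = α}
      one_mem' := rfl
      mul_mem' := fun {a b} ha hb => by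
        show (a : Equiv.Perm (Fin W)) ((b : Equiv.Perm (Fin W)) α) = α
        rw [show (b : Equiv.Perm (Fin W)) α = α from hb, show (a : Equiv.Perm (Fin W)) α = α from ha]
      inv_mem' := fun {a} ha => by
        show (a : Equiv.Perm (Fin W))⁻¹ α = α
        exact Equiv.Perm.inv_eq_iff_eq.2 (show (a : Equiv.Perm (Fin W)) α = α from ha).symm } with hS
  obtain ⟨N, hN, hle⟩ := (IsCoatomic.eq_top_or_exists_le_coatom S).resolve_left fun h =>
    hα (show t ∈ S from h ▸ Subgroup.mem_top t)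
  have hp : p.Prime := Fact.out
  obtain ⟨k, hk⟩ := IsPGroup.iff_card.1 (hT.to_subgroup N)
  obtain ⟨K, hK⟩ := IsPGroup.iff_card.1 hT
  have hlt : k < K := by
    by_contra hge
    refine hN.1 (Subgroup.eq_top_of_le_card N ?_)
    rw [hk, hK]
    exact Nat.pow_le_pow_right hp.pos (not_lt.1 hge)
  obtain ⟨N', hN', hNN'⟩ := Sylow.exists_subgroup_card_pow_succ
    (hK ▸ Nat.pow_dvd_pow p hlt) hk
  have htop : N' = ⊤ := hN.2 N' (lt_of_le_of_ne hNN' fun he => by
    rw [← he, hk] at hN'
    exact absurd (Nat.pow_right_injective hp.two_le hN') (by omega))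
  have hidx : N.index = p := by
    have h2 := N.card_mul_index
    rw [htop, Subgroup.card_top] at hN'
    rw [hk, hN', pow_succ] at h2
    exact Nat.eq_of_mul_eq_mul_left (pow_pos hp.pos k) h2
  refine ⟨α, N, ?_, hidx, fun s hs => hle hs⟩
  refine Subgroup.normal_of_index_eq_minFac_card ?_
  rw [hidx, hK]
  exact (hp.pow_minFac (by omega)).symm

theorem mul_le_factorial_val (W : ℕ) (hW : p ≤ W) : 1 ≤ W.factorial.factorization p :=
  (Fact.out : p.Prime).factorization_pos_of_dvd (Nat.factorial_ne_zero _)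
    ((Nat.Prime.dvd_factorial Fact.out).2 hW)

theorem sylow_moves (hW : p ≤ W) (T : Sylow p (Equiv.Perm (Fin W))) :
    ∃ t : (T : Subgroup (Equiv.Perm (Fin W))), ∃ i, (t : Equiv.Perm (Fin W)) i ≠ i := by
  by_contra h
  push Not at h
  have hbot : (T : Subgroup (Equiv.Perm (Fin W))) = ⊥ := by
    rw [Subgroup.eq_bot_iff_forall]
    exact fun t ht => Equiv.ext fun i => h ⟨t, ht⟩ i
  have h1 := T.card_eq_multiplicity
  rw [hbot, Subgroup.card_bot, Nat.card_perm, Nat.card_fin] at h1
  have := mul_le_factorial_val (p := p) W hW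
  have h2 : p ^ 1 ≤ p ^ W.factorial.factorization p :=
    Nat.pow_le_pow_right (Fact.out : p.Prime).pos this
  rw [← h1, pow_one] at h2
  exact absurd h2 (not_le.2 (Fact.out : p.Prime).one_lt)

/-- The translations by `Y` and its image. -/
theorem exists_block (hW : p ≤ W) (T : Sylow p (Equiv.Perm (Fin W))) :
    ∃ (N : Subgroup (T : Subgroup (Equiv.Perm (Fin W)))) (Y : Finset (Fin W))
      (t : (T : Subgroup (Equiv.Perm (Fin W)))) (α : Fin W), N.Normal ∧ N.index = p ∧
      (∀ s ∈ N, ∀ i, (s : Equiv.Perm (Fin W)) i ∈ Y ↔ i ∈ Y) ∧ α ∈ Y ∧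
      (t : Equiv.Perm (Fin W))⁻¹ α ∉ Y ∧
      (∀ i ∈ Y, ∃ s ∈ N, (s : Equiv.Perm (Fin W)) α = i) := by
  classical
  obtain ⟨α, N, hN, hi, hstab⟩ := exists_normal_over_stab T.isPGroup' (sylow_moves hW T)
  obtain ⟨t, ht⟩ : ∃ t, t ∉ N := by
    by_contra h
    push Not at h
    rw [(Subgroup.eq_top_iff' N).2 h, Subgroup.index_top] at hi
    exact (Fact.out : p.Prime).ne_one hi.symm
  refine ⟨N, Finset.univ.filter fun i => ∃ s ∈ N, (s : Equiv.Perm (Fin W)) α = i, t, α, hN, hi,
    fun s hs i => ?_, ?_, ?_, fun i hi' => (Finset.mem_filter.1 hi').2⟩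
  · simp only [Finset.mem_filter, Finset.mem_univ, true_and]
    constructor
    · rintro ⟨u, hu, hi'⟩
      refine ⟨s⁻¹ * u, mul_mem (inv_mem hs) hu, ?_⟩
      rw [Subgroup.coe_mul, Equiv.Perm.mul_apply, hi', Subgroup.coe_inv, Equiv.Perm.coe_inv,
        Equiv.symm_apply_apply]
    · rintro ⟨u, hu, rfl⟩
      exact ⟨s * u, mul_mem hs hu, rfl⟩
  · exact Finset.mem_filter.2 ⟨Finset.mem_univ _, 1, one_mem N, rfl⟩
  · simp only [Finset.mem_filter, Finset.mem_univ, true_and]
    rintro ⟨s, hs, he⟩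
    refine ht ?_
    have h1 : t * s ∈ N := hstab _ (by
      rw [Subgroup.coe_mul, Equiv.Perm.mul_apply, he, Equiv.Perm.coe_inv, Equiv.apply_symm_apply])
    exact (Subgroup.mul_mem_cancel_right N hs).1 h1

theorem single_sum_ne {T : Subgroup (Equiv.Perm (Fin W))} (Y : Finset (Fin W)) (t : T) {α : Fin W}
    (hα : α ∈ Y) (htα : (t : Equiv.Perm (Fin W))⁻¹ α ∉ Y) :
    ∑ i ∈ Y, (Pi.single ((t : Equiv.Perm (Fin W))⁻¹ α) 1 : Fin W → ZMod p)
        ((t : Equiv.Perm (Fin W))⁻¹ i) ≠
      ∑ i ∈ Y, (Pi.single ((t : Equiv.Perm (Fin W))⁻¹ α) 1 : Fin W → ZMod p) i := by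
  rw [Finset.sum_eq_single α (fun i _ hne => Pi.single_eq_of_ne
      (fun h => hne ((t : Equiv.Perm (Fin W))⁻¹.injective h)) _) (fun h => absurd hα h),
    Pi.single_eq_same, Finset.sum_eq_zero fun i hi' => Pi.single_eq_of_ne
      (fun h => htα (by rw [h] at hi'; exact hi')) _]
  exact one_ne_zero

/-- From `p` blocks on, the even part of the wreath product with a Sylow subgroup has a character
of degree `p`, unless `p = 2` and there are at least four blocks. -/
theorem exists_degree_wrA_small (hW : p ≤ W) (h2 : p = 2 → W = 3)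
    (T : Sylow p (Equiv.Perm (Fin W))) :
    ∃ φ : IrrCharacter (wrA p (T : Subgroup (Equiv.Perm (Fin W)))),
      charDegree (φ : wrA p (T : Subgroup (Equiv.Perm (Fin W))) → ℂ) = p := by
  classical
  obtain ⟨N, Y, t, α, hN, hi, hY, hα, htα, hcov⟩ := exists_block hW T
  haveI := hN
  by_cases hp2 : p = 2
  · subst hp2
    obtain rfl := h2 rfl
    have hNbot : ∀ s ∈ N, (s : Equiv.Perm (Fin 3)) = 1 := by
      intro s hs
      have h1 := Subgroup.card_mul_index N
      rw [hi, T.card_eq_multiplicity, Nat.card_perm, Nat.card_fin] at h1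
      have h3 : (Nat.factorial 3).factorization 2 = 1 := by
        rw [show Nat.factorial 3 = 2 * 3 from rfl, Nat.factorization_mul two_ne_zero (by norm_num),
          Finsupp.add_apply, Nat.prime_two.factorization_self,
          Nat.factorization_eq_zero_of_not_dvd (by norm_num)]
      rw [h3] at h1
      have h4 : N = ⊥ := Subgroup.eq_bot_of_card_eq N (by omega)
      rw [h4, Subgroup.mem_bot] at hs
      rw [hs]; rfl
    have hYs : Y = {α} := by
      refine Finset.eq_singleton_iff_unique_mem.2 ⟨hα, fun i hi' => ?_⟩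
      obtain ⟨s, hs, rfl⟩ := hcov i hi'
      rw [hNbot s hs, Equiv.Perm.one_apply]
    set β := (t : Equiv.Perm (Fin 3))⁻¹ α with hβ
    have hαβ : α ≠ β := fun h => htα (h ▸ hα)
    obtain ⟨j, hj⟩ : ∃ j : Fin 3, j ∉ ({α, β} : Finset (Fin 3)) := by
      by_contra h
      push Not at h
      have := Finset.card_le_card (show (Finset.univ : Finset (Fin 3)) ⊆ {α, β} from fun j _ => h j)
      rw [Finset.card_univ, Fintype.card_fin] at this
      have := Finset.card_le_two (a := α) (b := β)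
      omega
    simp only [Finset.mem_insert, Finset.mem_singleton, not_or] at hj
    set f : Fin 3 → ZMod 2 := fun i => if i = α ∨ i = j then 1 else 0 with hf
    refine exists_degree_sub T.isPGroup' _ (mkWr_zero_mem T.isPGroup') N hi Y hY t f ?_ ?_
    · rw [mem_wrA, sign_mkWr_one]
      rw [Finset.prod_congr rfl fun i _ => show Equiv.Perm.sign (Equiv.addLeft (f i)) =
        if i = α ∨ i = j then -1 else 1 by
        simp only [hf]
        split_ifs
        · exact sign_addLeft_two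
        · rw [show (Equiv.addLeft (0 : ZMod 2)) = 1 from Equiv.ext fun x => zero_add x, map_one]]
      rw [← Finset.prod_filter, Finset.prod_const,
        show (Finset.univ.filter fun i => i = α ∨ i = j) = {α, j} by ext i; simp,
        Finset.card_pair (Ne.symm hj.1)]
      rfl
    · rw [hYs, Finset.sum_singleton, Finset.sum_singleton, ← hβ]
      simp [hf, hαβ.symm, Ne.symm hj.2]
  · exact exists_degree_sub T.isPGroup' _ (mkWr_zero_mem T.isPGroup') N hi Y hY t _
      (by rw [wrA_eq_top hp2 T.isPGroup']; exact Subgroup.mem_top _) (single_sum_ne Y t hα htα)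

omit [NeZero p] in
theorem wr_degree (hW : p ≤ W) (T : Sylow p (Equiv.Perm (Fin W))) :
    ∃ φ : IrrCharacter (wr p (T : Subgroup (Equiv.Perm (Fin W)))),
      charDegree (φ : wr p (T : Subgroup (Equiv.Perm (Fin W))) → ℂ) = p := by
  classical
  haveI : NeZero p := ⟨(Fact.out : p.Prime).ne_zero⟩
  obtain ⟨N, Y, t, α, hN, hi, hY, hα, htα, -⟩ := exists_block hW T
  haveI := hN
  obtain ⟨φ, hφ⟩ := exists_degree_sub T.isPGroup' ⊤ (fun _ => Subgroup.mem_top _) N hi Y hY t _
    (Subgroup.mem_top _) (single_sum_ne Y t hα htα)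
  set e : wr p (T : Subgroup (Equiv.Perm (Fin W))) ≃*
    (⊤ : Subgroup (wr p (T : Subgroup (Equiv.Perm (Fin W))))) := Subgroup.topEquiv.symm
  refine ⟨⟨_, IsIrr.comp_surjective e.toMonoidHom e.surjective φ.2⟩, ?_⟩
  refine Eq.trans ?_ hφ
  rw [charDegree, charDegree]
  simp

end Cfsg.Agent.Char.SymChar
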