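import Cfsg.Agent.Lib.Char.SymChar.SymHeight
import Cfsg.Agent.Lib.Char.SymChar.WreathChar

/-!
The defect groups and the heights of the blocks of the alternating groups.
-/

set_option autoImplicit false

namespace Cfsg.Agent.Char.SymChar

open Finset

set_option linter.unusedSectionVars false

variable {n p : ℕ} [Fact p.Prime] {M : Ideal AlgInt}

theorem iso_of_card {G : Type} [Group G] [Finite G] (P Q : Subgroup G)
    (hP : Nat.card P = p ^ (Nat.card G).factorization p)
    (hQ : Nat.card Q = p ^ (Nat.card G).factorization p) : Nonempty (P ≃* Q) :=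
  ⟨Sylow.equiv (Sylow.ofCard P hP) (Sylow.ofCard Q hQ)⟩

theorem degree_transfer {P Q : Type} [Group P] [Group Q] [Finite P] (f : P →* Q)
    (hf : Function.Surjective f) {d : ℕ} (h : ∃ φ : IrrCharacter Q, charDegree (φ : Q → ℂ) = d) :
    ∃ φ : IrrCharacter P, charDegree (φ : P → ℂ) = d := by
  obtain ⟨φ, hφ⟩ := h
  refine ⟨⟨_, IsIrr.comp_surjective f hf φ.2⟩, ?_⟩
  refine Eq.trans ?_ hφ
  rw [charDegree, charDegree]
  simp

/-- A Sylow subgroup of a symmetric group on at least `p ^ 2` points has a character of degree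
`p`. -/
theorem sylow_degree {V : Type} [Fintype V] [DecidableEq V] (hV : p * p ≤ Fintype.card V)
    (P : Sylow p (Equiv.Perm V)) :
    ∃ φ : IrrCharacter (P : Subgroup (Equiv.Perm V)),
      charDegree (φ : ↥(P : Subgroup (Equiv.Perm V)) → ℂ) = p := by
  classical
  have hp : p.Prime := Fact.out
  haveI : NeZero p := ⟨hp.ne_zero⟩
  set W := Fintype.card V / p with hW
  have hpW : p ≤ W := (Nat.le_div_iff_mul_le hp.pos).2 hV
  obtain ⟨T⟩ : Nonempty (Sylow p (Equiv.Perm (Fin W))) := inferInstance
  have hcard : Fintype.card (Fin W × ZMod p) ≤ Fintype.card V := by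
    rw [Fintype.card_prod, Fintype.card_fin, ZMod.card]
    exact Nat.div_mul_le_self _ _
  obtain ⟨ι⟩ := Function.Embedding.nonempty_of_card_le hcard
  set φ : wr p (T : Subgroup (Equiv.Perm (Fin W))) →* Equiv.Perm V :=
    (Equiv.Perm.viaEmbeddingHom ι).comp (wr p (T : Subgroup (Equiv.Perm (Fin W)))).subtype with hφ
  have hinj : Function.Injective φ :=
    (Equiv.Perm.viaEmbeddingHom_injective ι).comp (Subgroup.subtype_injective _)
  have hc : Nat.card φ.range = p ^ (Nat.card (Equiv.Perm V)).factorization p := by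
    rw [Nat.card_congr (MonoidHom.ofInjective hinj).toEquiv.symm, card_wr, T.card_eq_multiplicity,
      ← pow_add, Nat.card_perm, Nat.card_perm, Nat.card_fin, Nat.card_eq_fintype_card]
    congr 1
    rw [← Nat.div_add_mod (Fintype.card V) p, factorial_val_add hp _ _ (Nat.mod_lt _ hp.pos), ← hW]
  obtain ⟨e⟩ := iso_of_card (p := p) (P : Subgroup (Equiv.Perm V)) φ.range P.card_eq_multiplicity hc
  exact degree_transfer ((MonoidHom.ofInjective hinj).symm.toMonoidHom.comp e.toMonoidHom)
    ((MonoidHom.ofInjective hinj).symm.surjective.comp e.surjective) (wr_degree hpW T)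

/-- The facts about a block of positive weight. -/
theorem Cover.positive (hM : IsPModular p M) [NeZero p] {b : Set (IrrCharacter (Alt n))}
    {B : Set (IrrCharacter (Equiv.Perm (Fin n)))} (h : Cover M b B) {m : ℕ → ℕ} {W : ℕ}
    (hm : HasCore p B m W) (hW : 0 < W) {D : Subgroup (Alt n)} (hD : IsDefectGroup p M b D)
    (T : Sylow p (Equiv.Perm (Fin W))) :
    Nonempty (D ≃* wrA p (T : Subgroup (Equiv.Perm (Fin W)))) ∧
      ∀ ψ ∈ b, ∀ χ ∈ B, Over χ ψ →
        (twist χ ≠ χ → blockHeight p b (ψ : Alt n → ℂ) = blockHeight p B (χ : Equiv.Perm (Fin n) → ℂ)) ∧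
        (twist χ = χ → blockHeight p b (ψ : Alt n → ℂ) =
          blockHeight p B (χ : Equiv.Perm (Fin n) → ℂ) - if p = 2 then 1 else 0) := by
  classical
  have hp : p.Prime := Fact.out
  obtain ⟨g, hg, hcl⟩ := exists_even_defectClass hM h.hB
  -- enough fixed points
  obtain ⟨QS⟩ : Nonempty (Sylow p (Subgroup.centralizer ({g} : Set (Equiv.Perm (Fin n))))) :=
    inferInstance
  obtain ⟨u, hu, huW⟩ := exists_moved hM h.hB hm
    (D := Block.csyl QS) ⟨g, hcl, QS, rfl⟩
  have hfix : p * W ≤ Fintype.card {z // g z = z} := by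
    rw [Fintype.card_subtype]
    exact huW.trans (Finset.card_le_card (support_subset_fixed hM h.hB hcl QS hu))
  have hcard : Fintype.card (Fin W × ZMod p) ≤ Fintype.card {z // g z = z} := by
    rw [Fintype.card_prod, Fintype.card_fin, ZMod.card, mul_comm]
    exact hfix
  obtain ⟨a₁, a₂, hne⟩ : ∃ a₁ a₂ : {z // g z = z}, a₁ ≠ a₂ := by
    have h2 : 2 ≤ p * W := le_trans hp.two_le (Nat.le_mul_of_pos_right p hW)
    exact Fintype.exists_pair_of_one_lt_card (by omega)
  set τ := Equiv.swap (a₁ : Fin n) (a₂ : Fin n) with hτdef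
  have hne' : (a₁ : Fin n) ≠ a₂ := fun he => hne (Subtype.ext he)
  have hτ : τ ∉ Alt n := fun hh => by
    rw [Equiv.Perm.mem_alternatingGroup, hτdef, Equiv.Perm.sign_swap hne'] at hh
    exact absurd hh (by decide)
  have hτg : Commute τ g := by
    show τ * g = g * τ
    rw [hτdef, Equiv.mul_swap_eq_swap_mul, a₁.2, a₂.2]
  haveI : Nontrivial (Fin n) := ⟨⟨_, _, hne'⟩⟩
  have hclb := h.isDefectClass hM hg hcl hτ hτg
  -- the orders
  set CA := Subgroup.centralizer ({(⟨g, hg⟩ : Alt n)} : Set (Alt n)) with hCA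
  have hS : Nat.card (Equiv.Perm (Fin n)) = 2 * Nat.card (Alt n) := by
    rw [← (Alt n).index_mul_card, alternatingGroup.index_eq_two]
  have hC : Nat.card (Subgroup.centralizer ({g} : Set (Equiv.Perm (Fin n)))) = 2 * Nat.card CA := by
    have h1 := CA.card_mul_index
    have h2 := (Subgroup.centralizer ({g} : Set (Equiv.Perm (Fin n)))).card_mul_index
    rw [hS, ← h1, ← mul_assoc, ← relIndex_centralizer hτ hτg hg, ← hCA] at h2
    exact Nat.eq_of_mul_eq_mul_right (Nat.pos_of_ne_zero Subgroup.index_ne_zero_of_finite) h2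
  set v2 : ℕ := if p = 2 then 1 else 0 with hv2
  have hv2' : (2 : ℕ).factorization p = v2 := by
    rw [hv2]
    split_ifs with h2
    · subst h2; exact Nat.prime_two.factorization_self
    · exact Nat.factorization_eq_zero_of_not_dvd fun hd =>
        h2 ((Nat.prime_dvd_prime_iff_eq hp Nat.prime_two).1 hd)
  have hd : blockDefect p b + v2 = blockDefect p B := by
    rw [Block.blockDefect_eq hM h.hb hclb, Block.blockDefect_eq hM h.hB hcl, hC,
      Nat.factorization_mul two_ne_zero Nat.card_pos.ne', Finsupp.add_apply, hv2', ← hCA]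
    omega
  have hA : (Nat.card (Alt n)).factorization p + v2 = (Nat.card (Equiv.Perm (Fin n))).factorization p := by
    rw [hS, Nat.factorization_mul two_ne_zero Nat.card_pos.ne', Finsupp.add_apply, hv2']
    omega
  refine ⟨?_, ?_⟩
  · -- the defect group
    obtain ⟨j⟩ := Function.Embedding.nonempty_of_card_le hcard
    set ι : Fin W × ZMod p ↪ Fin n := j.trans (Function.Embedding.subtype _) with hι
    set P := wrA p (T : Subgroup (Equiv.Perm (Fin W))) with hP
    set φ₀ : P →* Equiv.Perm (Fin n) := (Equiv.Perm.viaEmbeddingHom ι).comp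
      ((wr p (T : Subgroup (Equiv.Perm (Fin W)))).subtype.comp P.subtype) with hφ₀
    have hsgn : ∀ x, φ₀ x ∈ Alt n := by
      intro x
      rw [Equiv.Perm.mem_alternatingGroup, hφ₀, MonoidHom.comp_apply,
        Equiv.Perm.viaEmbeddingHom_apply, Equiv.Perm.viaEmbedding, Equiv.Perm.sign_extendDomain]
      exact mem_wrA.1 x.2
    have hcent : ∀ x, (φ₀.codRestrict (Alt n) hsgn x) ∈ CA := by
      intro x
      rw [hCA, Subgroup.mem_centralizer_singleton_iff]
      refine Subtype.ext ?_
      show φ₀ x * g = g * φ₀ x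
      have hfix : ∀ z, g z ≠ z → φ₀ x z = z := by
        intro z hz
        rw [hφ₀, MonoidHom.comp_apply, Equiv.Perm.viaEmbeddingHom_apply]
        refine Equiv.Perm.viaEmbedding_apply_of_notMem _ _ _ ?_
        rintro ⟨w, rfl⟩
        exact hz (j w).2
      refine Equiv.ext fun z => ?_
      rw [Equiv.Perm.mul_apply, Equiv.Perm.mul_apply]
      by_cases hz : g z = z
      · rw [hz]
        by_contra hh
        have h1 := (φ₀ x).injective (hfix (φ₀ x z) (Ne.symm hh))
        rw [h1, hz] at hh
        exact hh rfl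
      · rw [hfix z hz, hfix (g z) fun hh => hz (g.injective hh)]
    set φ : P →* CA := (φ₀.codRestrict (Alt n) hsgn).codRestrict CA hcent with hφ
    have hinj : Function.Injective φ := fun x y hxy =>
      Subtype.ext (Subtype.ext (Equiv.Perm.viaEmbeddingHom_injective ι
        (congrArg (fun w : CA => ((w : Alt n) : Equiv.Perm (Fin n))) hxy)))
    have hPc : Nat.card φ.range = p ^ (Nat.card CA).factorization p := by
      rw [Nat.card_congr (MonoidHom.ofInjective hinj).toEquiv.symm]
      have h1 := card_wrA (p := p) hW T.isPGroup'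
      rw [card_wr, T.card_eq_multiplicity, ← pow_add, Nat.card_perm, Nat.card_fin,
        show (if p = 2 then 2 else 1) = p ^ v2 by rw [hv2]; split_ifs with h2 <;> simp [h2],
        ← hm.defect_eq hM h.hB, ← hd, Block.blockDefect_eq hM h.hb hclb, ← hCA, pow_add] at h1
      exact Nat.eq_of_mul_eq_mul_right (pow_pos hp.pos v2) h1
    obtain ⟨Q⟩ : Nonempty (Sylow p CA) := inferInstance
    obtain ⟨e⟩ := iso_of_card (p := p) (Q : Subgroup CA) φ.range Q.card_eq_multiplicity hPc
    obtain ⟨y, hy⟩ := Block.defectGroup_conj hM h.hb (⟨_, hclb, Q, rfl⟩ :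
      IsDefectGroup p M b (Block.csyl Q)) hD
    rw [← hy]
    exact ⟨((((Q : Subgroup CA).equivMapOfInjective CA.subtype CA.subtype_injective).trans
      ((Block.csyl Q).equivMapOfInjective (MulAut.conj y).toMonoidHom (MulAut.conj y).injective)).symm.trans
        e).trans (MonoidHom.ofInjective hinj).symm⟩
  · -- the heights
    intro ψ hψ χ hχ hov
    have h1 := Block.blockHeight_eq hM h.hb hψ
    have h2 := Block.blockHeight_eq hM h.hB hχ
    have h3 := Block.le_defect_add hM h.hB hχ
    have hψ1 : ((conjT τ ψ : IrrCharacter _) : Alt n → ℂ) 1 = (ψ : Alt n → ℂ) 1 :=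
      congrArg (ψ : Alt n → ℂ) (Subtype.ext (by simp))
    rcases res_cases hτ hov with ⟨htw, -, hr⟩ | ⟨htw, -, hr⟩
    · have hdeg : charDegree (χ : Equiv.Perm (Fin n) → ℂ) = charDegree (ψ : Alt n → ℂ) := by
        have h4 := congrFun hr 1
        simp only [res', OneMemClass.coe_one] at h4
        rw [Block.charDeg_spec', Block.charDeg_spec', Nat.cast_inj] at h4
        exact h4
      rw [hdeg] at h2
      exact ⟨fun _ => by omega, fun he => absurd he htw⟩
    · have hdeg : charDegree (χ : Equiv.Perm (Fin n) → ℂ) = 2 * charDegree (ψ : Alt n → ℂ) := by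
        have h4 := congrFun hr 1
        simp only [res', OneMemClass.coe_one, Pi.add_apply, hψ1] at h4
        rw [Block.charDeg_spec', Block.charDeg_spec', ← Nat.cast_add, Nat.cast_inj] at h4
        omega
      rw [hdeg, Nat.factorization_mul two_ne_zero (Block.charDeg_pos ψ).ne', Finsupp.add_apply,
        hv2'] at h2
      have h5 := Block.le_defect_add hM h.hb hψ
      exact ⟨fun he => absurd htw he, fun _ => by omega⟩

end Cfsg.Agent.Char.SymChar
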