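import Cfsg.Agent.Lib.Char.SymChar.Block
import Cfsg.Agent.Lib.Block.CoveringBasic
import Cfsg.Agent.Lib.Block.HeightLocal

/-!
Restriction of the characters and of the blocks of a symmetric group to the alternating group.
-/

set_option autoImplicit false

namespace Cfsg.Agent.Char.SymChar

open Finset
open scoped ComplexConjugate

set_option linter.unusedSectionVars false

variable {n p : ℕ}

/-- The alternating group. -/
abbrev Alt (n : ℕ) : Subgroup (Equiv.Perm (Fin n)) := alternatingGroup (Fin n)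

/-- The sign as a linear character. -/
noncomputable def sgnHom (n : ℕ) : Equiv.Perm (Fin n) →* ℂˣ :=
  (Units.map (Int.castRingHom ℂ : ℤ →* ℂ)).comp Equiv.Perm.sign

theorem sgnHom_apply (g : Equiv.Perm (Fin n)) :
    (sgnHom n g : ℂ) = ((Equiv.Perm.sign g : ℤ) : ℂ) := rfl

/-- Multiplication of a character by the sign. -/
noncomputable def twist (χ : IrrCharacter (Equiv.Perm (Fin n))) :
    IrrCharacter (Equiv.Perm (Fin n)) :=
  ⟨fun g => (sgnHom n g : ℂ) * (χ : Equiv.Perm (Fin n) → ℂ) g, IsIrr.mul_linear χ.2 (sgnHom n)⟩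

theorem twist_apply (χ : IrrCharacter (Equiv.Perm (Fin n))) (g : Equiv.Perm (Fin n)) :
    ((twist χ : IrrCharacter _) : Equiv.Perm (Fin n) → ℂ) g =
      ((Equiv.Perm.sign g : ℤ) : ℂ) * (χ : Equiv.Perm (Fin n) → ℂ) g := rfl

theorem twist_twist (χ : IrrCharacter (Equiv.Perm (Fin n))) : twist (twist χ) = χ := by
  refine Subtype.ext (funext fun g => ?_)
  rw [twist_apply, twist_apply, ← mul_assoc, ← Int.cast_mul]
  rcases Int.units_eq_one_or (Equiv.Perm.sign g) with h | h <;> simp [h]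

/-- The twist as a permutation of the characters. -/
noncomputable def twistEquiv (n : ℕ) :
    IrrCharacter (Equiv.Perm (Fin n)) ≃ IrrCharacter (Equiv.Perm (Fin n)) :=
  ⟨twist, twist, twist_twist, twist_twist⟩

theorem sign_coe (x : Alt n) : Equiv.Perm.sign (x : Equiv.Perm (Fin n)) = 1 :=
  Equiv.Perm.mem_alternatingGroup.1 x.2

theorem sign_of_notMem {g : Equiv.Perm (Fin n)} (hg : g ∉ Alt n) : Equiv.Perm.sign g = -1 :=
  (Int.units_eq_one_or _).resolve_left fun h => hg (Equiv.Perm.mem_alternatingGroup.2 h)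

theorem twist_res (χ : IrrCharacter (Equiv.Perm (Fin n))) (x : Alt n) :
    ((twist χ : IrrCharacter _) : Equiv.Perm (Fin n) → ℂ) x =
      (χ : Equiv.Perm (Fin n) → ℂ) x := by
  rw [twist_apply, sign_coe]; simp

/-- The restriction of a function. -/
def res' (f : Equiv.Perm (Fin n) → ℂ) : Alt n → ℂ := fun x => f x

theorem res_inner (χ φ : IrrCharacter (Equiv.Perm (Fin n))) (h2 : ∃ t : Equiv.Perm (Fin n), t ∉ Alt n) :
    classInner (res' (χ : Equiv.Perm (Fin n) → ℂ)) (res' (φ : Equiv.Perm (Fin n) → ℂ)) =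
      classInner (χ : Equiv.Perm (Fin n) → ℂ) (φ : Equiv.Perm (Fin n) → ℂ) +
        classInner ((twist χ : IrrCharacter _) : Equiv.Perm (Fin n) → ℂ)
          (φ : Equiv.Perm (Fin n) → ℂ) := by
  classical
  obtain ⟨t, ht⟩ := h2
  have hnt : Nontrivial (Fin n) := by
    by_contra h
    rw [not_nontrivial_iff_subsingleton] at h
    exact ht (by rw [show t = 1 from Subsingleton.elim _ _]; exact one_mem _)
  have hcard : (Nat.card (Equiv.Perm (Fin n)) : ℂ) = 2 * (Nat.card (Alt n) : ℂ) := by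
    have h := two_mul_card_alternatingGroup (α := Fin n)
    rw [Nat.card_eq_fintype_card, Nat.card_eq_fintype_card]
    exact_mod_cast h.symm
  have hA : (Nat.card (Alt n) : ℂ) ≠ 0 := Nat.cast_ne_zero.2 Nat.card_pos.ne'
  rw [classInner, classInner, classInner, ← mul_add, ← Finset.sum_add_distrib, hcard,
    mul_inv, mul_assoc, mul_left_comm]
  refine congrArg _ ?_
  have hsplit : ∀ g : Equiv.Perm (Fin n),
      (χ : Equiv.Perm (Fin n) → ℂ) g * conj ((φ : Equiv.Perm (Fin n) → ℂ) g) +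
        ((twist χ : IrrCharacter _) : Equiv.Perm (Fin n) → ℂ) g *
          conj ((φ : Equiv.Perm (Fin n) → ℂ) g) =
      if g ∈ Alt n then
        2 * ((χ : Equiv.Perm (Fin n) → ℂ) g * conj ((φ : Equiv.Perm (Fin n) → ℂ) g))
      else 0 := by
    intro g
    rw [twist_apply]
    split_ifs with h
    · rw [Equiv.Perm.mem_alternatingGroup.1 h]; push_cast; ring
    · rw [sign_of_notMem h]; push_cast; ring
  rw [Finset.sum_congr rfl fun g _ => hsplit g, ← Finset.sum_filter,
    Finset.sum_subtype (Finset.univ.filter (· ∈ Alt n)) (p := (· ∈ Alt n)) (fun g => by simp),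
    ← Finset.mul_sum, ← mul_assoc, inv_mul_cancel₀ (two_ne_zero' ℂ), one_mul]
  rfl

/-- The conjugate of a character of the alternating group. -/
noncomputable abbrev conjT (τ : Equiv.Perm (Fin n)) (ψ : IrrCharacter (Alt n)) :
    IrrCharacter (Alt n) := Block.conjPerm (Alt n) τ ψ

/-- Being a constituent of the restriction. -/
def Over (χ : IrrCharacter (Equiv.Perm (Fin n))) (ψ : IrrCharacter (Alt n)) : Prop :=
  classInner (res' (χ : Equiv.Perm (Fin n) → ℂ)) (ψ : Alt n → ℂ) ≠ 0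

theorem conjN_cases {τ : Equiv.Perm (Fin n)} (hτ : τ ∉ Alt n) (ψ : IrrCharacter (Alt n))
    (g : Equiv.Perm (Fin n)) :
    Char.conjN (Alt n) g (ψ : Alt n → ℂ) = (ψ : Alt n → ℂ) ∨
      Char.conjN (Alt n) g (ψ : Alt n → ℂ) = ((conjT τ ψ : IrrCharacter _) : Alt n → ℂ) := by
  by_cases hg : g ∈ Alt n
  · exact Or.inl (Char.conjN_mem (Alt n) (Block.irr_classFun ψ) hg)
  · refine Or.inr ?_
    have hm : τ⁻¹ * g ∈ Alt n := by
      rw [Equiv.Perm.mem_alternatingGroup, map_mul, map_inv, sign_of_notMem hg, sign_of_notMem hτ]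
      rfl
    conv_lhs => rw [show g = τ * (τ⁻¹ * g) by group, Char.conjN_mul]
    exact Char.conjN_mem (Alt n) (IsChar.classFun (IsIrr.isCharacter (conjT τ ψ).2)) hm

theorem res_cases {τ : Equiv.Perm (Fin n)} (hτ : τ ∉ Alt n)
    {χ : IrrCharacter (Equiv.Perm (Fin n))} {ψ : IrrCharacter (Alt n)} (h : Over χ ψ) :
    (twist χ ≠ χ ∧ conjT τ ψ = ψ ∧
        res' (χ : Equiv.Perm (Fin n) → ℂ) = (ψ : Alt n → ℂ)) ∨
      (twist χ = χ ∧ conjT τ ψ ≠ ψ ∧
        res' (χ : Equiv.Perm (Fin n) → ℂ) =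
          (ψ : Alt n → ℂ) + ((conjT τ ψ : IrrCharacter _) : Alt n → ℂ)) := by
  classical
  set O := Char.conjOrbit (Alt n) (ψ : Alt n → ℂ) with hO
  have hc : classInner (fun x : Alt n => (χ : Equiv.Perm (Fin n) → ℂ) x) (ψ : Alt n → ℂ) ≠ 0 := h
  have hcl := Char.clifford (Alt n) χ.2 ψ.2 hc
  obtain ⟨e, he⟩ := IsChar.classInner_nat (IsChar.res (IsIrr.isCharacter χ.2) (Alt n))
    (IsIrr.isCharacter ψ.2)
  rw [he] at hcl hc
  have hmemO : ∀ φ ∈ O, φ = (ψ : Alt n → ℂ) ∨ φ = ((conjT τ ψ : IrrCharacter _) : Alt n → ℂ) := by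
    intro φ hφ
    obtain ⟨g, rfl⟩ := (Char.mem_conjOrbit (Alt n)).1 hφ
    exact conjN_cases hτ ψ g
  have hsub : O = {(ψ : Alt n → ℂ), ((conjT τ ψ : IrrCharacter _) : Alt n → ℂ)} := by
    ext φ
    simp only [Finset.mem_insert, Finset.mem_singleton]
    refine ⟨hmemO φ, ?_⟩
    rintro (rfl | rfl)
    · exact (Char.mem_conjOrbit (Alt n)).2 ⟨1, Char.conjN_one (Alt n) _⟩
    · exact (Char.mem_conjOrbit (Alt n)).2 ⟨τ, rfl⟩
  have hirr : ∀ φ ∈ O, IsIrrCharacter (Alt n) φ := by
    intro φ hφ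
    obtain ⟨g, rfl⟩ := (Char.mem_conjOrbit (Alt n)).1 hφ
    exact IsIrr.conjN (Alt n) ψ.2 g
  have hnorm := res_inner χ χ ⟨τ, hτ⟩
  rw [classInner_self_irr χ.2, classInner_irr_eq_ite (twist χ).2 χ.2] at hnorm
  have hres : res' (χ : Equiv.Perm (Fin n) → ℂ) = (e : ℂ) • ∑ φ ∈ O, φ := hcl
  have hval : classInner (res' (χ : Equiv.Perm (Fin n) → ℂ)) (res' (χ : Equiv.Perm (Fin n) → ℂ)) =
      ((e * e * O.card : ℕ) : ℂ) := by
    rw [hres, classInner_smul_left, classInner_smul_right, classInner_sum_left]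
    have hinner : ∀ φ ∈ O, classInner φ (∑ φ' ∈ O, φ') = 1 := by
      intro φ hφ
      rw [classInner_sum_right, Finset.sum_eq_single φ
        (fun φ' hφ' hne => classInner_irr_ne (hirr φ hφ) (hirr φ' hφ') hne.symm)
        (fun h => absurd hφ h)]
      exact classInner_self_irr (hirr φ hφ)
    rw [Finset.sum_congr rfl hinner, Finset.sum_const, nsmul_eq_mul, mul_one, map_natCast]
    push_cast
    ring
  rw [hval] at hnorm
  have he0 : 0 < e := Nat.pos_of_ne_zero fun h => hc (by rw [h, Nat.cast_zero])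
  by_cases htw : twist χ = χ
  · rw [if_pos (congrArg Subtype.val htw), show (1 : ℂ) + 1 = ((2 : ℕ) : ℂ) by norm_num,
      Nat.cast_inj] at hnorm
    have he1 : e = 1 := by
      have h1 : e * e ∣ 2 := Dvd.intro _ hnorm
      have h2 := Nat.le_of_dvd two_pos h1
      nlinarith
    subst he1
    have hne : conjT τ ψ ≠ ψ := by
      intro hh
      rw [hsub, hh, Finset.pair_eq_singleton, Finset.card_singleton] at hnorm
      omega
    refine Or.inr ⟨htw, hne, ?_⟩
    rw [hres, hsub, Finset.sum_pair (fun hh => hne (Subtype.ext hh.symm)), Nat.cast_one, one_smul]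
  · rw [if_neg fun hh => htw (Subtype.ext hh), add_zero, ← Nat.cast_one, Nat.cast_inj] at hnorm
    obtain ⟨h1, h2⟩ := mul_eq_one.1 hnorm
    obtain rfl : e = 1 := (mul_eq_one.1 h1).1
    have heq : conjT τ ψ = ψ := by
      by_contra hne
      rw [hsub, Finset.card_pair (fun hh => hne (Subtype.ext hh.symm))] at h2
      omega
    refine Or.inl ⟨htw, heq, ?_⟩
    rw [hres, hsub, heq, Finset.pair_eq_singleton, Finset.sum_singleton, Nat.cast_one, one_smul]

theorem res_eq_of_over {τ : Equiv.Perm (Fin n)} (hτ : τ ∉ Alt n)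
    {χ φ : IrrCharacter (Equiv.Perm (Fin n))} {ψ : IrrCharacter (Alt n)} (h : Over χ ψ)
    (h' : Over φ ψ) : res' (φ : Equiv.Perm (Fin n) → ℂ) = res' (χ : Equiv.Perm (Fin n) → ℂ) := by
  rcases res_cases hτ h with ⟨-, h1, h2⟩ | ⟨-, h1, h2⟩ <;>
    rcases res_cases hτ h' with ⟨-, h3, h4⟩ | ⟨-, h3, h4⟩
  · rw [h2, h4]
  · exact absurd h1 h3
  · exact absurd h3 h1
  · rw [h2, h4]

theorem over_unique {τ : Equiv.Perm (Fin n)} (hτ : τ ∉ Alt n)
    {χ φ : IrrCharacter (Equiv.Perm (Fin n))} {ψ : IrrCharacter (Alt n)} (h : Over χ ψ)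
    (h' : Over φ ψ) : φ = χ ∨ φ = twist χ := by
  classical
  by_contra hno
  push Not at hno
  have h1 := res_inner χ φ ⟨τ, hτ⟩
  rw [res_eq_of_over hτ h h', classInner_irr_ne χ.2 φ.2 (fun hh => hno.1 (Subtype.ext hh.symm)),
    classInner_irr_ne (twist χ).2 φ.2 (fun hh => hno.2 (Subtype.ext hh.symm)), add_zero,
    res_inner χ χ ⟨τ, hτ⟩, classInner_self_irr χ.2,
    classInner_irr_eq_ite (twist χ).2 χ.2] at h1
  split_ifs at h1 <;> norm_num at h1

theorem over_twist {χ : IrrCharacter (Equiv.Perm (Fin n))} {ψ : IrrCharacter (Alt n)}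
    (h : Over χ ψ) : Over (twist χ) ψ := by
  unfold Over at h ⊢
  rwa [show res' ((twist χ : IrrCharacter _) : Equiv.Perm (Fin n) → ℂ) =
    res' (χ : Equiv.Perm (Fin n) → ℂ) from funext (twist_res χ)]

theorem exists_over' (ψ : IrrCharacter (Alt n)) : ∃ χ, Over χ ψ :=
  Block.exists_over (Alt n) ψ

theorem exists_under (χ : IrrCharacter (Equiv.Perm (Fin n))) : ∃ ψ, Over χ ψ :=
  Block.exists_constituent_res (Alt n) χ

/-! ### Blocks -/

variable [Fact p.Prime] {M : Ideal AlgInt}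

/-- The image of a set of characters under the twist. -/
def twistSet (B : Set (IrrCharacter (Equiv.Perm (Fin n)))) :
    Set (IrrCharacter (Equiv.Perm (Fin n))) :=
  {χ | twist χ ∈ B}

theorem centralChar_twist (χ : IrrCharacter (Equiv.Perm (Fin n))) (g : Equiv.Perm (Fin n)) :
    centralChar ((twist χ : IrrCharacter _) : Equiv.Perm (Fin n) → ℂ) g =
      ((Equiv.Perm.sign g : ℤ) : ℂ) * centralChar (χ : Equiv.Perm (Fin n) → ℂ) g := by
  rw [centralChar, centralChar, twist_apply, twist_apply, Equiv.Perm.sign_one]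
  push_cast
  ring

theorem sameBlock_twist (hM : IsPModular p M) {χ φ : IrrCharacter (Equiv.Perm (Fin n))}
    (h : SameBlock M (χ : Equiv.Perm (Fin n) → ℂ) (φ : Equiv.Perm (Fin n) → ℂ)) :
    SameBlock M ((twist χ : IrrCharacter _) : Equiv.Perm (Fin n) → ℂ)
      ((twist φ : IrrCharacter _) : Equiv.Perm (Fin n) → ℂ) := fun g => by
  rw [centralChar_twist, centralChar_twist, ← mul_sub]
  exact Block.ideal_mul_left hM (Block.ring_intCast hM _) (h g)

theorem isPBlock_twistSet (hM : IsPModular p M) {B : Set (IrrCharacter (Equiv.Perm (Fin n)))}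
    (hB : IsPBlock M B) : IsPBlock M (twistSet B) := by
  obtain ⟨χ₀, rfl⟩ := hB
  refine ⟨twist χ₀, Set.ext fun φ => ⟨fun h => ?_, fun h => ?_⟩⟩
  · have h1 := sameBlock_twist hM (χ := χ₀) (φ := twist φ) h
    rwa [twist_twist] at h1
  · have h1 := sameBlock_twist hM (χ := twist χ₀) (φ := φ) h
    rwa [twist_twist] at h1

theorem twistSet_eq_of_two (hM : IsPModular 2 M) {B : Set (IrrCharacter (Equiv.Perm (Fin n)))}
    (hB : IsPBlock M B) : twistSet B = B := by
  haveI : Fact (Nat.Prime 2) := ⟨Nat.prime_two⟩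
  have key : ∀ χ, twist χ ∈ B → χ ∈ B := by
    intro χ h
    refine Block.pblock_mem_of_sameBlock hM hB h fun g => ?_
    rw [centralChar_twist]
    rcases Int.units_eq_one_or (Equiv.Perm.sign g) with h1 | h1
    · rw [h1]; simp [Block.ideal_zero hM]
    · rw [h1]
      push_cast
      rw [show (-1 : ℂ) * centralChar (χ : Equiv.Perm (Fin n) → ℂ) g -
          centralChar (χ : Equiv.Perm (Fin n) → ℂ) g =
        -(((2 : ℕ) : ℂ) * centralChar (χ : Equiv.Perm (Fin n) → ℂ) g) by push_cast; ring]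
      exact Block.ideal_neg (Block.ideal_mul_right hM ((Block.ideal_natCast_iff hM 2).2 dvd_rfl)
        (Block.centralChar_ring hM _ _))
  exact Set.ext fun χ => ⟨key χ, fun h => key (twist χ) (by rwa [twist_twist])⟩

/-- The characters over the blocks covered. -/
def saturation (B : Set (IrrCharacter (Equiv.Perm (Fin n)))) :
    Set (IrrCharacter (Equiv.Perm (Fin n))) := B ∪ twistSet B

theorem saturation_closed (hM : IsPModular p M) {B : Set (IrrCharacter (Equiv.Perm (Fin n)))}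
    (hB : IsPBlock M B) : ∀ χ ∈ saturation B, ∀ φ : IrrCharacter (Equiv.Perm (Fin n)),
      SameBlock M (χ : Equiv.Perm (Fin n) → ℂ) (φ : Equiv.Perm (Fin n) → ℂ) → φ ∈ saturation B := by
  rintro χ (h | h) φ hs
  · exact Or.inl (Block.pblock_mem_of_sameBlock hM hB h hs)
  · exact Or.inr (Block.pblock_mem_of_sameBlock hM (isPBlock_twistSet hM hB) h hs)

theorem coeff_saturation_odd (B : Set (IrrCharacter (Equiv.Perm (Fin n)))) {g : Equiv.Perm (Fin n)}
    (hg : g ∉ Alt n) : Block.coeffFun (Block.blockInd (saturation B)) g = 0 := by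
  classical
  haveI := Fintype.ofFinite (IrrCharacter (Equiv.Perm (Fin n)))
  set S := saturation B with hS
  set f : IrrCharacter (Equiv.Perm (Fin n)) → ℂ := fun χ => Block.blockInd S χ *
    (χ : Equiv.Perm (Fin n) → ℂ) 1 * (χ : Equiv.Perm (Fin n) → ℂ) g⁻¹ with hf
  have h : ∀ χ, f (twistEquiv n χ) = - f χ := by
    intro χ
    have hmem : twist χ ∈ S ↔ χ ∈ S := by
      simp only [hS, saturation, Set.mem_union, twistSet, Set.mem_setOf_eq, twist_twist]
      exact or_comm
    have hind : Block.blockInd S (twist χ) = Block.blockInd S χ := by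
      by_cases hχ : χ ∈ S
      · rw [Block.blockInd_of_mem hχ, Block.blockInd_of_mem (hmem.2 hχ)]
      · rw [Block.blockInd_of_notMem hχ, Block.blockInd_of_notMem fun hh => hχ (hmem.1 hh)]
    show Block.blockInd S (twist χ) * ((twist χ : IrrCharacter _) : Equiv.Perm (Fin n) → ℂ) 1 *
      ((twist χ : IrrCharacter _) : Equiv.Perm (Fin n) → ℂ) g⁻¹ = _
    rw [hind, twist_apply, twist_apply, Equiv.Perm.sign_one, Equiv.Perm.sign_inv, sign_of_notMem hg]
    simp only [hf]
    push_cast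
    ring
  have h2 : ∑ χ, f χ = - ∑ χ, f χ := by
    conv_lhs => rw [← Equiv.sum_comp (twistEquiv n) f]
    rw [Finset.sum_congr rfl fun χ _ => h χ, Finset.sum_neg_distrib]
  rw [Block.coeffFun_eq_sum, show ∑ χ, f χ = 0 by linear_combination (1 / 2 : ℂ) * h2, mul_zero]

/-- Every character of a covered block lies under a member. -/
theorem exists_member_over (hM : IsPModular p M) {b : Set (IrrCharacter (Alt n))}
    (hb : IsPBlock M b) {B : Set (IrrCharacter (Equiv.Perm (Fin n)))} (hB : IsPBlock M B)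
    {χ₀ : IrrCharacter (Equiv.Perm (Fin n))} (hχ₀ : χ₀ ∈ B) {ψ₀ : IrrCharacter (Alt n)}
    (hψ₀ : ψ₀ ∈ b) (h₀ : Over χ₀ ψ₀) {ψ : IrrCharacter (Alt n)} (hψ : ψ ∈ b) :
    ∃ χ ∈ B, Over χ ψ := by
  classical
  set S := saturation B with hS
  have hcls := Block.coeffFun_classFun (Block.blockInd S)
  have key : ∀ ξ η, Over ξ η → Block.blockInd S ξ =
      Block.omegaFun η (fun x : Alt n => Block.coeffFun (Block.blockInd S) x) := fun ξ η h => by
    rw [← Block.omegaFun_cover (Alt n) hcls (fun g hg => coeff_saturation_odd B hg) ξ h,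
      Block.omegaFun_coeffFun]
  have hf : Block.CenInt M (fun η : IrrCharacter (Alt n) =>
      Block.omegaFun η (fun x : Alt n => Block.coeffFun (Block.blockInd S) x)) := fun x => by
    rw [Block.coeffFun_omegaFun (a := fun x : Alt n => Block.coeffFun (Block.blockInd S) x)
      fun m t => hcls (m : Equiv.Perm (Fin n)) (t : Equiv.Perm (Fin n))]
    exact Block.cenInt_union hM (saturation_closed hM hB) _
  have hd := hf.congr_block hM (Block.pblock_sameBlock hM hb hψ₀ hψ)
  obtain ⟨χ, hχ⟩ := exists_over' ψ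
  simp only [← key χ₀ ψ₀ h₀, ← key χ ψ hχ] at hd
  have hmem : χ ∈ S := by
    by_contra hno
    rw [Block.blockInd_of_mem (show χ₀ ∈ S from Or.inl hχ₀), Block.blockInd_of_notMem hno,
      sub_zero] at hd
    exact Block.ideal_one hM hd
  rcases hmem with h | h
  · exact ⟨χ, h, hχ⟩
  · exact ⟨twist χ, h, over_twist hχ⟩

/-- The characters under a set. -/
def under (B : Set (IrrCharacter (Equiv.Perm (Fin n)))) : Set (IrrCharacter (Alt n)) :=
  {ψ | ∃ χ ∈ B, Over χ ψ}

theorem under_eq (hM : IsPModular p M) {b : Set (IrrCharacter (Alt n))}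
    (hb : IsPBlock M b) {B : Set (IrrCharacter (Equiv.Perm (Fin n)))} (hB : IsPBlock M B)
    {χ₀ : IrrCharacter (Equiv.Perm (Fin n))} (hχ₀ : χ₀ ∈ B) {ψ₀ : IrrCharacter (Alt n)}
    (hψ₀ : ψ₀ ∈ b) (h₀ : Over χ₀ ψ₀) : under B = Block.conjUnion (Alt n) b := by
  ext ψ
  constructor
  · rintro ⟨χ, hχ, h⟩
    obtain ⟨g, θ, hθ, he⟩ := Block.constituents_in_conjugates (Alt n) hM hB hb hχ₀ hψ₀ h₀ hχ h
    have h1 : ψ = Block.conjPerm (Alt n) g θ := Subtype.ext (funext he)
    exact ⟨g⁻¹, by rw [h1, Block.conjPerm_mul, mul_inv_cancel, Block.conjPerm_one]; exact hθ⟩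
  · rintro ⟨g, hg⟩
    obtain ⟨χ, hχ, h⟩ := exists_member_over hM hb hB hχ₀ hψ₀ h₀ hg
    refine ⟨χ, hχ, ?_⟩
    have h1 := Block.constituent_of_conj (Alt n) g⁻¹ h
    rwa [Block.conjPerm_mul, mul_inv_cancel, Block.conjPerm_one] at h1

theorem weak_orth_union {G : Type} [Group G] [Finite G] (hM : IsPModular p M)
    [Fintype (IrrCharacter G)] {U : Set (IrrCharacter G)} [DecidablePred (· ∈ U)]
    (hU : ∀ χ ∈ U, ∀ φ : IrrCharacter G, SameBlock M (χ : G → ℂ) (φ : G → ℂ) → φ ∈ U)
    {x y : G} (hx : ¬ p ∣ orderOf x) (hy : p ∣ orderOf y) :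
    ∑ χ ∈ Finset.univ.filter (· ∈ U), (χ : G → ℂ) x * conj ((χ : G → ℂ) y) = 0 := by
  classical
  rw [← Finset.sum_fiberwise_of_maps_to
    (t := (Finset.univ.filter (· ∈ U)).image fun χ : IrrCharacter G => blockOf M (χ : G → ℂ))
    (g := fun χ : IrrCharacter G => blockOf M (χ : G → ℂ))
    (fun χ hχ => Finset.mem_image_of_mem _ hχ)]
  refine Finset.sum_eq_zero fun B hB => ?_
  obtain ⟨χ₀, hχ₀, rfl⟩ := Finset.mem_image.1 hB
  have hfib : ((Finset.univ.filter (· ∈ U)).filter fun χ : IrrCharacter G =>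
      blockOf M (χ : G → ℂ) = blockOf M (χ₀ : G → ℂ)) =
      Finset.univ.filter fun χ : IrrCharacter G => χ ∈ blockOf M (χ₀ : G → ℂ) := by
    ext χ
    simp only [Finset.mem_filter, Finset.mem_univ, true_and]
    refine ⟨fun h => h.2 ▸ Block.mem_blockOf_self hM χ, fun h => ⟨?_,
      (Block.pblock_eq_blockOf hM (Block.isPBlock_blockOf χ₀) h).symm⟩⟩
    exact hU χ₀ (Finset.mem_filter.1 hχ₀).2 χ h
  rw [hfib, ← Block.finsum_mem_block]
  exact Block.weak_orth hM (Block.isPBlock_blockOf χ₀) hx hy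

/-! ### A defect class -/

theorem exists_even_defectClass (hM : IsPModular p M)
    {B : Set (IrrCharacter (Equiv.Perm (Fin n)))} (hB : IsPBlock M B) :
    ∃ g ∈ Alt n, IsDefectClass M B g := by
  classical
  cases nonempty_fintype (ConjClasses (Equiv.Perm (Fin n)))
  have hp : p.Prime := Fact.out
  obtain ⟨χ, hχ⟩ := Block.pblock_nonempty hM hB
  set ω : Equiv.Perm (Fin n) → ℂ := fun g => centralChar (χ : Equiv.Perm (Fin n) → ℂ) g with hω
  set c : Equiv.Perm (Fin n) → ℂ := Block.coeffFun (Block.blockInd B) with hc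
  have h1 : ∑ C : ConjClasses (Equiv.Perm (Fin n)), c C.out * ω C.out = 1 := by
    rw [← Block.omegaFun_eq_sum_classes χ (Block.coeffFun_classFun _), Block.omegaFun_coeffFun,
      Block.blockInd_of_mem hχ]
  by_contra hno
  push Not at hno
  have hbad : ∀ g ∈ Alt n, MemLocalIdeal M (c g * ω g) := by
    intro g hg
    by_contra hne
    refine hno g hg ⟨Block.blockCoeff_ring hM hB g, fun h => hne ?_, fun φ hφ h => hne ?_⟩
    · rw [hc, ← Block.blockCoeff_eq]
      exact Block.ideal_mul_right hM h (Block.centralChar_ring hM _ _)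
    · refine Block.ideal_mul_left hM ?_ ((Block.ideal_congr hM
        (Block.pblock_sameBlock hM hB hχ hφ g)).2 h)
      rw [hc, ← Block.blockCoeff_eq]
      exact Block.blockCoeff_ring hM hB g
  by_cases hp2 : p = 2
  · refine Block.ideal_one hM (h1 ▸ Block.ideal_sum hM fun C _ => ?_)
    by_cases hC : C.out ∈ Alt n
    · exact hbad _ hC
    · rw [hc, ← Block.blockCoeff_eq, Block.blockCoeff_singular hM hB ?_, zero_mul]
      · exact Block.ideal_zero hM
      · rw [hp2]
        by_contra hodd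
        refine hC (Equiv.Perm.mem_alternatingGroup.2 ?_)
        rcases Int.units_eq_one_or (Equiv.Perm.sign C.out) with h | h
        · exact h
        · exfalso
          have h2 := orderOf_map_dvd (Equiv.Perm.sign : Equiv.Perm (Fin n) →* ℤˣ) C.out
          rw [h, show orderOf (-1 : ℤˣ) = 2 from orderOf_eq_prime (by norm_num) (by decide)] at h2
          exact hodd h2
  · set δ := Block.blockInd B (twist χ) with hδ
    have h2 : ∑ C : ConjClasses (Equiv.Perm (Fin n)),
        c C.out * (((Equiv.Perm.sign C.out : ℤ) : ℂ) * ω C.out) = δ := by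
      rw [hδ, ← Block.omegaFun_coeffFun (Block.blockInd B) (twist χ),
        Block.omegaFun_eq_sum_classes _ (Block.coeffFun_classFun _)]
      exact Finset.sum_congr rfl fun C _ => by rw [centralChar_twist]
    have h3 : MemLocalIdeal M (1 + δ) := by
      rw [← h1, ← h2, ← Finset.sum_add_distrib]
      refine Block.ideal_sum hM fun C _ => ?_
      by_cases hC : C.out ∈ Alt n
      · rw [Equiv.Perm.mem_alternatingGroup.1 hC,
          show c C.out * ω C.out + c C.out * (((1 : ℤˣ) : ℤ) * ω C.out) =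
            ((2 : ℕ) : ℂ) * (c C.out * ω C.out) by push_cast; ring]
        exact Block.ideal_mul_left hM (Block.ring_natCast hM 2) (hbad _ hC)
      · rw [sign_of_notMem hC,
          show c C.out * ω C.out + c C.out * (((-1 : ℤˣ) : ℤ) * ω C.out) = 0 by push_cast; ring]
        exact Block.ideal_zero hM
    by_cases ht : twist χ ∈ B
    · rw [hδ, Block.blockInd_of_mem ht, show (1 : ℂ) + 1 = ((2 : ℕ) : ℂ) by norm_num,
        Block.ideal_natCast_iff hM] at h3
      exact hp2 ((Nat.prime_dvd_prime_iff_eq hp Nat.prime_two).1 h3)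
    · rw [hδ, Block.blockInd_of_notMem ht, add_zero] at h3
      exact Block.ideal_one hM h3

end Cfsg.Agent.Char.SymChar
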