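import Cfsg.Agent.Lib.Char.SymChar.Basic

/-!
Averages over a symmetric group of functions of the cycle lengths, and their recursion.
-/

set_option autoImplicit false

namespace Cfsg.Agent.Char.SymChar

open Finset
open scoped Nat

/-- The order of the centralizer of a permutation with the given cycle lengths. -/
def zfac (μ : Multiset ℕ) : ℕ := μ.prod * ∏ k ∈ μ.toFinset, (μ.count k)!

theorem zfac_eq (μ : Multiset ℕ) (s : Finset ℕ) (hs : μ.toFinset ⊆ s) :
    zfac μ = μ.prod * ∏ k ∈ s, (μ.count k)! := by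
  rw [zfac, Finset.prod_subset hs fun k _ hk => by
    rw [Multiset.count_eq_zero.2 (fun h => hk (Multiset.mem_toFinset.2 h)), Nat.factorial_zero]]

theorem zfac_cons (k : ℕ) (ν : Multiset ℕ) :
    zfac (k ::ₘ ν) = k * (ν.count k + 1) * zfac ν := by
  set s := insert k ν.toFinset with hs
  rw [zfac_eq (k ::ₘ ν) s (by rw [Multiset.toFinset_cons]),
    zfac_eq ν s (Finset.subset_insert _ _), Multiset.prod_cons,
    ← Finset.mul_prod_erase s _ (Finset.mem_insert_self k _),
    ← Finset.mul_prod_erase s _ (Finset.mem_insert_self k _),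
    Multiset.count_cons_self, Nat.factorial_succ,
    Finset.prod_congr rfl fun j (hj : j ∈ s.erase k) => by
      rw [Multiset.count_cons_of_ne (Finset.ne_of_mem_erase hj)]]
  ring

theorem zfac_ne_zero {μ : Multiset ℕ} (h : ∀ i ∈ μ, 0 < i) : zfac μ ≠ 0 := by
  have : 0 < μ.prod := Multiset.prod_pos h
  have : 0 < ∏ k ∈ μ.toFinset, (μ.count k)! := Finset.prod_pos fun k _ => Nat.factorial_pos _
  exact Nat.ne_of_gt (Nat.mul_pos ‹0 < μ.prod› this)

/-- The average over the partitions of `n`. -/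
noncomputable def avg (n : ℕ) (f : Multiset ℕ → ℂ) : ℂ :=
  ∑ μ : n.Partition, f μ.parts / (zfac μ.parts : ℂ)

theorem avg_congr {n : ℕ} {f g : Multiset ℕ → ℂ}
    (h : ∀ μ : Multiset ℕ, μ.sum = n → (∀ i ∈ μ, 0 < i) → f μ = g μ) : avg n f = avg n g :=
  Finset.sum_congr rfl fun μ _ => by rw [h μ.parts μ.parts_sum fun i hi => μ.parts_pos hi]

theorem avg_add (n : ℕ) (f g : Multiset ℕ → ℂ) :
    avg n (fun μ => f μ + g μ) = avg n f + avg n g := by
  simp only [avg, add_div, Finset.sum_add_distrib]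

theorem avg_sum {ι : Type*} (n : ℕ) (s : Finset ι) (f : ι → Multiset ℕ → ℂ) :
    avg n (fun μ => ∑ i ∈ s, f i μ) = ∑ i ∈ s, avg n (f i) := by
  simp only [avg, Finset.sum_div]
  exact Finset.sum_comm

theorem avg_smul (n : ℕ) (c : ℂ) (f : Multiset ℕ → ℂ) :
    avg n (fun μ => c * f μ) = c * avg n f := by
  simp only [avg, Finset.mul_sum, mul_div_assoc]

theorem avg_zero (f : Multiset ℕ → ℂ) : avg 0 f = f 0 := by
  rw [avg, Fintype.sum_unique]
  have : (default : Nat.Partition 0).parts = 0 := by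
    refine Multiset.eq_zero_of_forall_notMem fun i hi => ?_
    have h1 := (default : Nat.Partition 0).le_of_mem_parts hi
    have h2 := (default : Nat.Partition 0).parts_pos hi
    omega
  rw [this]
  simp [zfac]

/-- Splitting off one cycle of each length, with weights. -/
theorem avg_weight (n : ℕ) (w : ℕ → ℂ) (f : Multiset ℕ → ℂ) :
    avg n (fun μ => (∑ k ∈ Icc 1 n, w k * ((k * μ.count k : ℕ) : ℂ)) * f μ) =
      ∑ k ∈ Icc 1 n, w k * avg (n - k) (fun ν => f (k ::ₘ ν)) := by
  simp only [Finset.sum_mul]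
  rw [avg_sum]
  refine Finset.sum_congr rfl fun k hk => ?_
  rw [Finset.mem_Icc] at hk
  simp only [mul_assoc]
  rw [avg_smul]
  congr 1
  rw [avg, avg, ← Finset.sum_subset (Finset.subset_univ ({μ | k ∈ μ.parts} : Finset n.Partition))
    fun μ _ hμ => by
      simp only [Finset.mem_filter, Finset.mem_univ, true_and] at hμ
      rw [Multiset.count_eq_zero.2 hμ]
      simp]
  refine Finset.sum_bij'
    (fun μ hμ => ⟨μ.parts.erase k, fun hi => μ.parts_pos (Multiset.mem_of_mem_erase hi), by
      have h := congrArg Multiset.sum (Multiset.cons_erase (Finset.mem_filter.1 hμ).2)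
      rw [Multiset.sum_cons, μ.parts_sum] at h
      omega⟩)
    (fun ν _ => ⟨k ::ₘ ν.parts, fun hi => by
      rcases Multiset.mem_cons.1 hi with rfl | h
      · omega
      · exact ν.parts_pos h, by rw [Multiset.sum_cons, ν.parts_sum]; omega⟩)
    (fun _ _ => Finset.mem_univ _) (fun ν _ => by simp)
    (fun μ hμ => Nat.Partition.ext (Multiset.cons_erase (Finset.mem_filter.1 hμ).2))
    (fun ν _ => Nat.Partition.ext (Multiset.erase_cons_head _ _)) ?_
  intro μ hμ
  have hmem := (Finset.mem_filter.1 hμ).2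
  set ν := μ.parts.erase k with hν
  have e : μ.parts = k ::ₘ ν := (Multiset.cons_erase hmem).symm
  have hz : (zfac ν : ℂ) ≠ 0 := Nat.cast_ne_zero.2
    (zfac_ne_zero fun i hi => μ.parts_pos (Multiset.mem_of_mem_erase hi))
  show _ = f (k ::ₘ ν) / (zfac ν : ℂ)
  rw [e, zfac_cons, Multiset.count_cons_self]
  have hk0 : (k : ℂ) ≠ 0 := Nat.cast_ne_zero.2 (by omega)
  have hc : ((ν.count k : ℂ) + 1) ≠ 0 := by exact_mod_cast Nat.succ_ne_zero (ν.count k)
  push_cast
  field_simp

theorem sum_count_eq {n : ℕ} {μ : Multiset ℕ} (hs : μ.sum = n) (hp : ∀ i ∈ μ, 0 < i) :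
    ∑ k ∈ Icc 1 n, k * μ.count k = n := by
  have h : ∑ k ∈ μ.toFinset, μ.count k * k = μ.sum := by
    conv_rhs => rw [Finset.sum_multiset_count]
    simp
  refine ((Finset.sum_subset (s₁ := μ.toFinset) (s₂ := Icc 1 n)
    (f := fun k => k * μ.count k) (fun k hk => ?_) fun k _ hk => ?_).symm.trans ?_).trans hs
  · have hk' := Multiset.mem_toFinset.1 hk
    exact Finset.mem_Icc.2 ⟨hp k hk', hs ▸ Multiset.le_sum_of_mem hk'⟩
  · rw [Multiset.count_eq_zero.2 (fun h' => hk (Multiset.mem_toFinset.2 h')), mul_zero]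
  · exact (Finset.sum_congr rfl fun k _ => mul_comm _ _).trans h

/-- The recursion. -/
theorem avg_rec (n : ℕ) (f : Multiset ℕ → ℂ) :
    (n : ℂ) * avg n f = ∑ k ∈ Icc 1 n, avg (n - k) (fun ν => f (k ::ₘ ν)) := by
  rw [← avg_smul]
  refine ((avg_congr fun μ hs hp => ?_).trans (avg_weight n (fun _ => 1) f)).trans
    (Finset.sum_congr rfl fun k _ => one_mul _)
  conv_lhs => rw [← sum_count_eq hs hp]
  simp

theorem count_perm_mul {n : ℕ} (μ : Multiset ℕ) (hs : μ.sum = n) (hp : ∀ i ∈ μ, 0 < i) :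
    #{g : Equiv.Perm (Fin n) | parts g = μ} * zfac μ = n ! := by
  set m := μ.filter (fun a => 2 ≤ a) with hm
  have h2 : μ.filter (fun a => ¬ 2 ≤ a) = Multiset.replicate (μ.count 1) 1 := by
    rw [← Multiset.filter_eq']
    exact Multiset.filter_congr fun a ha => by have := hp a ha; omega
  have hsplit : μ = m + Multiset.replicate (μ.count 1) 1 := by
    exact ((Multiset.filter_add_not (fun a => 2 ≤ a) μ).symm.trans (by rw [h2]))
  have hsum : m.sum + μ.count 1 = n := by
    conv_rhs => rw [← hs, hsplit]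
    rw [Multiset.sum_add, Multiset.sum_replicate, smul_eq_mul, mul_one]
  have hfil : ({g : Equiv.Perm (Fin n) | parts g = μ} : Finset (Equiv.Perm (Fin n))) =
      ({g : Equiv.Perm (Fin n) | g.cycleType = m} : Finset (Equiv.Perm (Fin n))) := by
    refine Finset.filter_congr fun g _ => ⟨fun h => ?_, fun h => ?_⟩
    · rw [hm, ← h]
      exact (Equiv.Perm.filter_parts_partition_eq_cycleType (σ := g)).symm
    · have h3 : n - #g.support = μ.count 1 := by
        rw [← Equiv.Perm.sum_cycleType, h]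
        omega
      rw [parts, Equiv.Perm.parts_partition, h, Fintype.card_fin, h3, ← hsplit]
  have hc := Equiv.Perm.card_of_cycleType_mul_eq (Fin n) m
  rw [if_pos ⟨by rw [Fintype.card_fin]; omega, fun a ha => (Multiset.mem_filter.1 ha).2⟩,
    Fintype.card_fin, show n - m.sum = μ.count 1 by omega] at hc
  rw [hfil, ← hc]
  congr 1
  have hprod : μ.prod = m.prod := by
    conv_lhs => rw [hsplit]
    simp
  have hnot : (1 : ℕ) ∉ m.toFinset := fun h => by
    have := (Multiset.mem_filter.1 (Multiset.mem_toFinset.1 h)).2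
    omega
  rw [zfac_eq μ (insert 1 m.toFinset) ?_, hprod, Finset.prod_insert hnot,
    Finset.prod_congr rfl fun k (hk : k ∈ m.toFinset) => by
      rw [← Multiset.count_filter_of_pos (p := fun a => 2 ≤ a)
        (Multiset.mem_filter.1 (Multiset.mem_toFinset.1 hk)).2]]
  · ring
  · intro k hk
    have hk' := Multiset.mem_toFinset.1 hk
    rcases Nat.lt_or_ge k 2 with h | h
    · have := hp k hk'
      exact Finset.mem_insert.2 (Or.inl (by omega))
    · exact Finset.mem_insert.2 (Or.inr (Multiset.mem_toFinset.2 (Multiset.mem_filter.2 ⟨hk', h⟩)))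

/-- The average over the partitions is the average over the group. -/
theorem sum_parts_eq (n : ℕ) (f : Multiset ℕ → ℂ) :
    ∑ g : Equiv.Perm (Fin n), f (parts g) = (n ! : ℂ) * avg n f := by
  classical
  let toP : Equiv.Perm (Fin n) → n.Partition := fun g =>
    ⟨parts g, fun hi => g.partition.parts_pos hi, sum_parts g⟩
  rw [avg, Finset.mul_sum, ← Finset.sum_fiberwise Finset.univ toP]
  refine Finset.sum_congr rfl fun μ _ => ?_
  have hfil : ({g : Equiv.Perm (Fin n) | toP g = μ} : Finset (Equiv.Perm (Fin n))) =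
      ({g : Equiv.Perm (Fin n) | parts g = μ.parts} : Finset (Equiv.Perm (Fin n))) :=
    Finset.filter_congr fun g _ => ⟨fun h => congrArg Nat.Partition.parts h,
      fun h => Nat.Partition.ext h⟩
  rw [Finset.sum_congr hfil fun g hg => by rw [(Finset.mem_filter.1 hg).2], Finset.sum_const,
    nsmul_eq_mul, ← count_perm_mul μ.parts μ.parts_sum fun i hi => μ.parts_pos hi]
  have hz : (zfac μ.parts : ℂ) ≠ 0 := Nat.cast_ne_zero.2 (zfac_ne_zero fun i hi => μ.parts_pos hi)
  push_cast
  field_simp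

end Cfsg.Agent.Char.SymChar
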