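import Cfsg.Agent.Lib.Char.SymChar.Euler
import Cfsg.Agent.Lib.Char.Constituent
import Cfsg.Agent.Lib.Block.PermChar

/-!
The class functions of the symmetric group attached to tuples, by the Murnaghan-Nakayama recursion,
are generalized characters: signed sums of the permutation characters on colourings.
-/

set_option autoImplicit false

namespace Cfsg.Agent.Char.SymChar

open Finset

variable {N : ℕ}

/-- The decreasing staircase. -/
def delta (N : ℕ) : Fin N → ℤ := fun i => ((N - 1 - (i : ℕ) : ℕ) : ℤ)

/-- Removing hooks of the prescribed lengths. -/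
def chi : List ℕ → (Fin N → ℤ) → ℤ
  | [], a => match' a (delta N)
  | k :: l, a => ∑ i, chi l (a - Pi.single i (k : ℤ))

theorem chi_nil (a : Fin N → ℤ) : chi [] a = match' a (delta N) := rfl

theorem chi_cons (k : ℕ) (l : List ℕ) (a : Fin N → ℤ) :
    chi (k :: l) a = ∑ i, chi l (a - Pi.single i (k : ℤ)) := rfl

theorem chi_perm {l l' : List ℕ} (h : List.Perm l l') : chi (N := N) l = chi l' := by
  induction h with
  | nil => rfl
  | cons x _ ih => funext a; simp only [chi_cons, ih]
  | swap x y l =>
    funext a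
    simp only [chi_cons]
    rw [Finset.sum_comm]
    exact Finset.sum_congr rfl fun i _ => Finset.sum_congr rfl fun j _ => by rw [sub_right_comm]
  | trans _ _ ih1 ih2 => exact ih1.trans ih2

/-- The same on multisets. -/
def chiM (μ : Multiset ℕ) : (Fin N → ℤ) → ℤ :=
  Quot.liftOn μ chi fun _ _ h => chi_perm h

theorem chiM_coe (l : List ℕ) (a : Fin N → ℤ) : chiM (l : Multiset ℕ) a = chi l a := rfl

theorem chiM_zero (a : Fin N → ℤ) : chiM 0 a = match' a (delta N) := rfl

theorem chiM_cons (k : ℕ) (μ : Multiset ℕ) (a : Fin N → ℤ) :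
    chiM (k ::ₘ μ) a = ∑ i, chiM μ (a - Pi.single i (k : ℤ)) :=
  Quot.inductionOn μ fun _ => rfl

theorem single_comp (τ : Equiv.Perm (Fin N)) (i : Fin N) (x : ℤ) :
    (Pi.single (τ i) x : Fin N → ℤ) ∘ τ = Pi.single i x := by
  funext y
  rcases eq_or_ne y i with rfl | h
  · simp
  · simp [h]

theorem chiM_comp (τ : Equiv.Perm (Fin N)) (μ : Multiset ℕ) :
    ∀ a : Fin N → ℤ, chiM μ (a ∘ τ) = (Equiv.Perm.sign τ : ℤ) * chiM μ a := by
  induction μ using Multiset.induction_on with
  | empty => exact fun a => match_comp τ a _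
  | cons k μ ih =>
    intro a
    rw [chiM_cons, chiM_cons, Finset.mul_sum]
    refine Fintype.sum_equiv τ _ _ fun i => ?_
    rw [← ih, show (a - Pi.single (τ i) (k : ℤ)) ∘ τ = a ∘ τ - (Pi.single (τ i) (k : ℤ)) ∘ τ from rfl,
      single_comp]

theorem chiM_swap (μ : Multiset ℕ) (a : Fin N → ℤ) {i j : Fin N} (h : i ≠ j) :
    chiM μ (a ∘ Equiv.swap i j) = - chiM μ a := by
  rw [chiM_comp, Equiv.Perm.sign_swap h]
  push_cast
  ring

theorem delta_strictAnti : StrictAnti (delta N) := fun i j h => by
  have := j.2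
  have : (i : ℕ) < j := h
  simp only [delta]
  omega

theorem delta_nonneg (i : Fin N) : 0 ≤ delta N i := Int.natCast_nonneg _

theorem sum_delta : 2 * ∑ i, delta N i = ((N * (N - 1) : ℕ) : ℤ) := by
  have h : ∑ i, delta N i = ((∑ x ∈ Finset.range N, x : ℕ) : ℤ) := by
    rw [← Finset.sum_range_reflect, Finset.sum_range, Nat.cast_sum]
    rfl
  rw [h, ← Finset.sum_range_id_mul_two N]
  push_cast
  ring

/-- The support of the class function. -/
theorem chiM_support (μ : Multiset ℕ) : ∀ a : Fin N → ℤ, chiM μ a ≠ 0 →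
    Function.Injective a ∧ (∀ i, 0 ≤ a i) ∧ ∑ i, a i = (μ.sum : ℤ) + ∑ i, delta N i := by
  have hinj : ∀ a : Fin N → ℤ, chiM μ a ≠ 0 → Function.Injective a := by
    intro a ha i j hij
    by_contra hne
    have h1 := chiM_swap μ a hne
    rw [comp_swap_of_eq hij] at h1
    omega
  intro a ha
  refine ⟨hinj a ha, ?_⟩
  clear hinj
  induction μ using Multiset.induction_on generalizing a with
  | empty =>
    rw [chiM_zero] at ha
    obtain ⟨σ, rfl⟩ := exists_of_match_ne_zero ha
    exact ⟨fun i => delta_nonneg _, by simp [Equiv.sum_comp σ (delta N)]⟩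
  | cons k μ ih =>
    rw [chiM_cons] at ha
    obtain ⟨i, -, hi⟩ := Finset.exists_ne_zero_of_sum_ne_zero ha
    obtain ⟨h1, h2⟩ := ih _ hi
    refine ⟨fun j => ?_, ?_⟩
    · have := h1 j
      rcases eq_or_ne j i with rfl | hj
      · simp only [Pi.sub_apply, Pi.single_eq_same] at this; omega
      · simpa [hj] using this
    · simp only [Pi.sub_apply, Finset.sum_sub_distrib, Finset.sum_pi_single',
        Finset.mem_univ, if_true] at h2
      rw [Multiset.sum_cons, Nat.cast_add]
      linarith

/-! ### Colourings -/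

/-- The number of colourings of parts of given sizes with given colour totals. -/
def col : List ℕ → (Fin N → ℤ) → ℕ
  | [], α => if α = 0 then 1 else 0
  | k :: l, α => ∑ i, col l (α - Pi.single i (k : ℤ))

theorem chi_eq_col (l : List ℕ) : ∀ a : Fin N → ℤ,
    chi l a = ∑ σ : Equiv.Perm (Fin N), (Equiv.Perm.sign σ : ℤ) * (col l (a - delta N ∘ σ) : ℤ) := by
  induction l with
  | nil =>
    intro a
    refine Finset.sum_congr rfl fun σ _ => ?_
    simp only [col, sub_eq_zero]
    split_ifs <;> simp
  | cons k l ih =>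
    intro a
    simp only [chi_cons, col, ih, Nat.cast_sum, Finset.mul_sum]
    rw [Finset.sum_comm]
    exact Finset.sum_congr rfl fun σ _ => Finset.sum_congr rfl fun i _ => by rw [sub_right_comm]

theorem col_ofFn : ∀ (m : ℕ) (w : Fin m → ℕ) (α : Fin N → ℤ),
    col (List.ofFn w) α =
      #{h : Fin m → Fin N | ∀ i, (∑ q with h q = i, (w q : ℤ)) = α i} := by
  intro m
  induction m with
  | zero =>
    intro w α
    simp only [List.ofFn_zero, col, Finset.univ_eq_empty, Finset.filter_empty, Finset.sum_empty]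
    by_cases h : α = 0
    · subst h
      rw [if_pos rfl, Finset.filter_true_of_mem (by simp)]
      simp
    · rw [if_neg h, Finset.filter_false_of_mem (fun x _ hx => h (funext fun i => (hx i).symm)),
        Finset.card_empty]
  | succ m ih =>
    intro w α
    rw [List.ofFn_succ]
    simp only [col, ih]
    simp only [Finset.card_filter]
    rw [← (Fin.consEquiv fun _ => Fin N).sum_comp, Fintype.sum_prod_type]
    refine Finset.sum_congr rfl fun i _ => Finset.sum_congr rfl fun h _ => ?_
    refine if_congr (forall_congr' fun j => ?_) rfl rfl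
    simp only [Fin.consEquiv_apply, Finset.sum_filter, Fin.sum_univ_succ, Fin.cons_zero,
      Fin.cons_succ, Pi.sub_apply, Pi.single_apply]
    rcases eq_or_ne i j with rfl | hij
    · simp only [if_true]; constructor <;> intro h1 <;> linarith
    · simp only [if_neg hij, if_neg hij.symm]; constructor <;> intro h1 <;> linarith

/-! ### Permutations -/

variable {n : ℕ}

/-- The cycle lengths, fixed points included. -/
def parts (g : Equiv.Perm (Fin n)) : Multiset ℕ := g.partition.parts

theorem sum_parts (g : Equiv.Perm (Fin n)) : (parts g).sum = n := by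
  rw [parts, Nat.Partition.parts_sum, Fintype.card_fin]

theorem parts_conj {g h : Equiv.Perm (Fin n)} (hc : IsConj g h) : parts g = parts h := by
  rw [parts, parts, Equiv.Perm.partition_eq_of_isConj.1 hc]

/-- The class function of a tuple. -/
noncomputable def chiG (n : ℕ) (a : Fin N → ℤ) : Equiv.Perm (Fin n) → ℂ :=
  fun g => (chiM (parts g) a : ℂ)

theorem chiG_classFun (a : Fin N → ℤ) :
    IsClassFunction (Equiv.Perm (Fin n)) (chiG n a) := fun g h => by
  simp only [chiG]
  rw [parts_conj (isConj_iff.2 ⟨h, rfl⟩ : IsConj g (h * g * h⁻¹))]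

/-- Colourings with prescribed totals. -/
structure Colouring (n : ℕ) (α : Fin N → ℤ) where
  /-- the colour of a point -/
  f : Fin n → Fin N
  total : ∀ i, ((#{x | f x = i} : ℕ) : ℤ) = α i

theorem Colouring.ext' {α : Fin N → ℤ} {a b : Colouring n α} (h : a.f = b.f) : a = b := by
  cases a; cases b; cases h; rfl

noncomputable instance (α : Fin N → ℤ) : Fintype (Colouring n α) :=
  Fintype.ofInjective (fun c => c.f) fun _ _ h => Colouring.ext' h

instance (α : Fin N → ℤ) : MulAction (Equiv.Perm (Fin n)) (Colouring n α) where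
  smul g c := ⟨c.f ∘ ⇑g⁻¹, fun i => by
    rw [← c.total i]
    congr 1
    exact Finset.card_equiv g⁻¹ (fun x => by simp)⟩
  one_smul c := Colouring.ext' (funext fun x => by show c.f ((1 : Equiv.Perm (Fin n))⁻¹ x) = _; simp)
  mul_smul g h c := Colouring.ext' (funext fun x => by
    show c.f ((g * h)⁻¹ x) = c.f (h⁻¹ (g⁻¹ x)); simp)

theorem smul_f {α : Fin N → ℤ} (g : Equiv.Perm (Fin n)) (c : Colouring n α) :
    (g • c).f = c.f ∘ ⇑g⁻¹ := rfl

/-- The cycle of a point: a cycle factor or a fixed point. -/
def cycIdx (g : Equiv.Perm (Fin n)) (x : Fin n) :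
    {c // c ∈ g.cycleFactorsFinset} ⊕ {x // g x = x} :=
  if h : g x = x then Sum.inr ⟨x, h⟩
  else Sum.inl ⟨g.cycleOf x,
    Equiv.Perm.cycleOf_mem_cycleFactorsFinset_iff.2 (Equiv.Perm.mem_support.2 h)⟩

/-- The length of a cycle. -/
def cycLen (g : Equiv.Perm (Fin n)) :
    {c // c ∈ g.cycleFactorsFinset} ⊕ {x // g x = x} → ℕ :=
  Sum.elim (fun c => #(c.1).support) (fun _ => 1)

theorem cycIdx_surjective (g : Equiv.Perm (Fin n)) : Function.Surjective (cycIdx g) := by
  rintro (⟨c, hc⟩ | ⟨x, hx⟩)
  · obtain ⟨x, hx⟩ := Equiv.Perm.IsCycle.nonempty_support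
      (Equiv.Perm.mem_cycleFactorsFinset_iff.1 hc).1
    have hgx : ¬ g x = x := by
      have h1 := (Equiv.Perm.mem_cycleFactorsFinset_iff.1 hc).2 x hx
      rw [← h1]; exact Equiv.Perm.mem_support.1 hx
    refine ⟨x, ?_⟩
    rw [cycIdx, dif_neg hgx]
    exact congrArg Sum.inl (Subtype.ext (Equiv.Perm.cycle_is_cycleOf hx hc).symm)
  · exact ⟨x, by rw [cycIdx, dif_pos hx]⟩

theorem card_fibre (g : Equiv.Perm (Fin n))
    (q : {c // c ∈ g.cycleFactorsFinset} ⊕ {x // g x = x}) :
    #{x | cycIdx g x = q} = cycLen g q := by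
  rcases q with ⟨c, hc⟩ | ⟨y, hy⟩
  · change _ = #c.support
    refine congrArg Finset.card (Finset.ext fun x => ?_)
    simp only [Finset.mem_filter, Finset.mem_univ, true_and]
    constructor
    · intro h
      by_cases hx : g x = x
      · rw [cycIdx, dif_pos hx] at h; simp at h
      · rw [cycIdx, dif_neg hx] at h
        obtain rfl : g.cycleOf x = c := congrArg Subtype.val (Sum.inl.inj h)
        rw [Equiv.Perm.mem_support_cycleOf_iff]
        exact ⟨Equiv.Perm.SameCycle.refl _ _, Equiv.Perm.mem_support.2 hx⟩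
    · intro hx
      have hgx : ¬ g x = x := Equiv.Perm.mem_support.1
        (Equiv.Perm.mem_cycleFactorsFinset_support_le hc hx)
      rw [cycIdx, dif_neg hgx]
      exact congrArg Sum.inl (Subtype.ext (Equiv.Perm.cycle_is_cycleOf hx hc).symm)
  · rw [show ({x | cycIdx g x = Sum.inr ⟨y, hy⟩} : Finset (Fin n)) = {y} from Finset.ext fun x => by
      simp only [Finset.mem_filter, Finset.mem_univ, true_and, Finset.mem_singleton]
      constructor
      · intro h
        by_cases hx : g x = x
        · rw [cycIdx, dif_pos hx] at h; exact congrArg Subtype.val (Sum.inr.inj h)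
        · rw [cycIdx, dif_neg hx] at h; simp at h
      · rintro rfl; rw [cycIdx, dif_pos hy]]
    rfl

theorem map_cycLen (g : Equiv.Perm (Fin n)) :
    (Finset.univ.val.map (cycLen g)) = parts g := by
  rw [parts, Equiv.Perm.parts_partition, Equiv.Perm.cycleType_def,
    ← Finset.univ_disjSum_univ, Finset.val_disjSum, Multiset.map_disjSum]
  congr 1
  · rw [Finset.univ_eq_attach, Finset.attach_val]
    exact Multiset.attach_map_val' g.cycleFactorsFinset.val (Finset.card ∘ Equiv.Perm.support)
  · refine (Multiset.map_const' _ 1).trans ?_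
    congr 1
    show Finset.univ.val.card = _
    rw [Finset.card_val, Finset.card_univ, Fintype.card_subtype, ← Finset.card_compl]
    refine congrArg Finset.card (Finset.ext fun x => ?_)
    simp [Equiv.Perm.mem_support]

theorem card_fixedBy_colouring (α : Fin N → ℤ) (g : Equiv.Perm (Fin n)) (l : List ℕ)
    (hl : (l : Multiset ℕ) = parts g) (hperm : ∀ {l l' : List ℕ}, List.Perm l l' →
      col (N := N) l = col l') :
    Nat.card (MulAction.fixedBy (Colouring n α) g) = col l α := by
  classical
  set e := Fintype.equivFin ({c // c ∈ g.cycleFactorsFinset} ⊕ {x // g x = x}) with he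
  have h1 : List.Perm l (List.ofFn (cycLen g ∘ e.symm)) := by
    rw [← Multiset.coe_eq_coe, hl, ← map_cycLen g, ← Fin.univ_val_map]
    rw [← Finset.map_univ_equiv e.symm, Finset.map_val, Multiset.map_map]
    rfl
  rw [hperm h1, col_ofFn, ← Fintype.card_subtype, ← Nat.card_eq_fintype_card]
  have hcount : ∀ (h : Fin _ → Fin N) (i : Fin N),
      ((#{x | h (e (cycIdx g x)) = i} : ℕ) : ℤ) =
        ∑ q with h q = i, ((cycLen g ∘ e.symm) q : ℤ) := by
    intro h i
    rw [Finset.card_eq_sum_card_fiberwise (f := fun x => e (cycIdx g x))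
      (t := ({q | h q = i} : Finset _)) (fun x hx => by simpa using hx), Nat.cast_sum]
    refine Finset.sum_congr rfl fun q hq => ?_
    rw [Function.comp_apply, ← card_fibre g (e.symm q)]
    congr 1
    refine congrArg Finset.card (Finset.ext fun x => ?_)
    simp only [Finset.mem_filter, Finset.mem_univ, true_and]
    constructor
    · rintro ⟨-, h2⟩; rw [← h2, Equiv.symm_apply_apply]
    · intro h2
      rw [h2, Equiv.apply_symm_apply]
      exact ⟨by simpa using hq, rfl⟩
  have hidx : ∀ x, cycIdx g (g⁻¹ x) = cycIdx g x := by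
    intro x
    by_cases hx : g x = x
    · rw [Equiv.Perm.inv_eq_iff_eq.2 hx.symm]
    · have hy : ¬ g (g⁻¹ x) = g⁻¹ x := fun h => hx (by
        simpa using congrArg g h)
      rw [cycIdx, cycIdx, dif_neg hx, dif_neg hy]
      refine congrArg Sum.inl (Subtype.ext (Equiv.Perm.SameCycle.cycleOf_eq ?_))
      exact ⟨1, by simp⟩
  have hconst : ∀ c : Colouring n α, g • c = c → ∀ x y, cycIdx g x = cycIdx g y → c.f x = c.f y := by
    intro c hc x y hxy
    by_cases hx : g x = x
    · by_cases hy : g y = y
      · rw [cycIdx, cycIdx, dif_pos hx, dif_pos hy] at hxy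
        exact congrArg c.f (congrArg Subtype.val (Sum.inr.inj hxy))
      · rw [cycIdx, cycIdx, dif_pos hx, dif_neg hy] at hxy; simp at hxy
    · by_cases hy : g y = y
      · rw [cycIdx, cycIdx, dif_neg hx, dif_pos hy] at hxy; simp at hxy
      · rw [cycIdx, cycIdx, dif_neg hx, dif_neg hy] at hxy
        have h2 : g.SameCycle x y := by
          have h3 : g.cycleOf x = g.cycleOf y := congrArg Subtype.val (Sum.inl.inj hxy)
          have h4 : y ∈ (g.cycleOf x).support := by
            rw [h3, Equiv.Perm.mem_support_cycleOf_iff]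
            exact ⟨Equiv.Perm.SameCycle.refl _ _, Equiv.Perm.mem_support.2 hy⟩
          exact (Equiv.Perm.mem_support_cycleOf_iff.1 h4).1
        obtain ⟨i, hi⟩ := h2
        have h5 : g⁻¹ ∈ MulAction.stabilizer (Equiv.Perm (Fin n)) c :=
          inv_mem (show g ∈ MulAction.stabilizer (Equiv.Perm (Fin n)) c from hc)
        have h6 : ((g ^ i)⁻¹ • c).f x = c.f x := by
          rw [show (g ^ i)⁻¹ • c = c from
            inv_mem (Subgroup.zpow_mem _ (show g ∈ MulAction.stabilizer (Equiv.Perm (Fin n)) c
              from hc) i)]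
        rw [smul_f, Function.comp_apply, inv_inv, hi] at h6
        exact h6.symm
  refine Nat.card_congr (Equiv.ofBijective
    (fun c => ⟨fun q => c.1.f (Function.surjInv (cycIdx_surjective g) (e.symm q)), ?_⟩) ⟨?_, ?_⟩)
  · intro i
    rw [← hcount]
    rw [← c.1.total i]
    refine congrArg (Nat.cast ∘ Finset.card) (Finset.filter_congr fun x _ => ?_)
    rw [Equiv.symm_apply_apply, hconst c.1 c.2 _ x (Function.surjInv_eq (cycIdx_surjective g) _)]
  · intro c c' h
    refine Subtype.ext (Colouring.ext' (funext fun x => ?_))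
    have h1 := congrFun (congrArg Subtype.val h) (e (cycIdx g x))
    simp only [Equiv.symm_apply_apply] at h1
    rwa [hconst c.1 c.2 _ x (Function.surjInv_eq (cycIdx_surjective g) _),
      hconst c'.1 c'.2 _ x (Function.surjInv_eq (cycIdx_surjective g) _)] at h1
  · rintro ⟨h, hh⟩
    refine ⟨⟨⟨fun x => h (e (cycIdx g x)), fun i => (hcount h i).trans (hh i)⟩,
      Colouring.ext' (funext fun x => ?_)⟩, Subtype.ext (funext fun q => ?_)⟩
    · show h (e (cycIdx g (g⁻¹ x))) = h (e (cycIdx g x))
      rw [hidx]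
    · show h (e (cycIdx g (Function.surjInv (cycIdx_surjective g) (e.symm q)))) = h q
      rw [Function.surjInv_eq (cycIdx_surjective g), Equiv.apply_symm_apply]

theorem col_perm {l l' : List ℕ} (h : List.Perm l l') : col (N := N) l = col l' := by
  induction h with
  | nil => rfl
  | cons x _ ih => funext a; simp only [col, ih]
  | swap x y l =>
    funext a
    simp only [col]
    rw [Finset.sum_comm]
    exact Finset.sum_congr rfl fun i _ => Finset.sum_congr rfl fun j _ => by rw [sub_right_comm]
  | trans _ _ ih1 ih2 => exact ih1.trans ih2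

theorem chiG_genChar (a : Fin N → ℤ) :
    IsGeneralizedCharacter (Equiv.Perm (Fin n)) (chiG n a) := by
  classical
  have h : chiG n a = ∑ σ : Equiv.Perm (Fin N), fun g : Equiv.Perm (Fin n) =>
      ((Equiv.Perm.sign σ : ℤ) : ℂ) *
        Block.PermChar.piFun (Equiv.Perm (Fin n)) (Colouring n (a - delta N ∘ σ)) g := by
    funext g
    obtain ⟨l, hl⟩ := Quot.exists_rep (parts g)
    rw [Finset.sum_apply, chiG, ← hl, show chiM (Quot.mk _ l) a = chi l a from rfl, chi_eq_col]
    push_cast
    refine Finset.sum_congr rfl fun σ _ => ?_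
    rw [Block.PermChar.piFun, card_fixedBy_colouring _ g l hl col_perm]
  rw [h]
  refine IsGenChar.sum fun σ _ => ?_
  exact IsGenChar.zsmul (IsGenChar.of_isCharacter Block.PermChar.isCharacter_piFun) _

end Cfsg.Agent.Char.SymChar
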