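import Cfsg.Agent.Lib.Char.SymChar.Weight
import Cfsg.Agent.Lib.Char.RegularIntegral
import Cfsg.Agent.Lib.Block.SecondMain
import Mathlib.GroupTheory.Perm.ViaEmbedding

/-!
The blocks of the symmetric groups: a common core, the bound on the rank of a block by the weight,
and the weight bound by the rank of a defect group.
-/

set_option autoImplicit false

namespace Cfsg.Agent.Char.SymChar

open Finset
open scoped ComplexConjugate

set_option linter.unusedSectionVars false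

variable {n p : ℕ}

/-! ### The common core -/

theorem counts_eq [Fact p.Prime] {M : Ideal AlgInt} (hM : IsPModular p M)
    {B : Set (IrrCharacter (Equiv.Perm (Fin n)))} (hB : IsPBlock M B)
    {χ ξ : IrrCharacter (Equiv.Perm (Fin n))} (hχ : χ ∈ B) (hξ : ξ ∈ B)
    (h0 : blockHeight p B (χ : Equiv.Perm (Fin n) → ℂ) = 0)
    {a b : Fin n → ℤ} (ha : IsState n a) (hb : IsState n b) {e f : ℤ} (he : e = 1 ∨ e = -1)
    (hf : f = 1 ∨ f = -1) (hea : chiG n a = (e : ℂ) • (ξ : Equiv.Perm (Fin n) → ℂ))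
    (hfb : chiG n b = (f : ℂ) • (χ : Equiv.Perm (Fin n) → ℂ)) (r : ℕ) :
    cnt p a r = cnt p b r := by
  have hp : p.Prime := Fact.out
  revert r
  by_contra hne
  obtain ⟨z, hz, hzp⟩ := Contrib.exists_int_regSum_all hM hB hχ hξ
  have hz0 : ¬ (p : ℤ) ∣ z := fun h => hzp.1 h h0
  have hsum := regSum_cross hp a b ha.2.1 hb.2.1 ha.2.2 hne
  rw [hea, hfb] at hsum
  have h1 : (e : ℂ) * (f : ℂ) *
      Block.regSum p (ξ : Equiv.Perm (Fin n) → ℂ) (χ : Equiv.Perm (Fin n) → ℂ) = 0 := by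
    rw [Block.regSum_eq_sum, Finset.mul_sum, ← hsum]
    refine Finset.sum_congr rfl fun x _ => ?_
    simp only [Pi.smul_apply, smul_eq_mul, map_mul, map_intCast]
    ring
  have hne2 : ∀ {d : ℤ}, d = 1 ∨ d = -1 → (d : ℂ) ≠ 0 := fun h => by rcases h with rfl | rfl <;> simp
  rw [(mul_eq_zero.1 h1).resolve_left (mul_ne_zero (hne2 he) (hne2 hf)), zero_mul] at hz
  rcases mul_eq_zero.1 hz.symm with h2 | h2
  · exact mul_ne_zero (Nat.cast_ne_zero.2 Nat.card_pos.ne')
      (pow_ne_zero _ (Nat.cast_ne_zero.2 hp.ne_zero)) h2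
  · exact hz0 (by rw [Int.cast_eq_zero] at h2; rw [h2]; exact dvd_zero _)

theorem sum_qq_eq (hp : 0 < p) {a b : Fin n → ℤ} (ha : IsState n a) (hb : IsState n b)
    (h : ∀ r, cnt p a r = cnt p b r) : ∑ i, qq p a i = ∑ i, qq p b i := by
  have key : ∀ c : Fin n → ℤ, (∀ i, 0 ≤ c i) →
      ∑ i, c i = ((p * ∑ i, qq p c i + ∑ r ∈ range p, cnt p c r * r : ℕ) : ℤ) := by
    intro c hc
    have hr : ∑ r ∈ range p, cnt p c r * r = ∑ i, rr p c i := by
      rw [← Finset.sum_fiberwise_of_maps_to (g := rr p c) (t := range p)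
        (fun i _ => Finset.mem_range.2 (Nat.mod_lt _ hp)) (rr p c)]
      refine Finset.sum_congr rfl fun r _ => ?_
      rw [Finset.sum_congr rfl fun i hi => (Finset.mem_filter.1 hi).2, Finset.sum_const,
        smul_eq_mul, cnt]
    rw [hr]
    push_cast
    rw [Finset.mul_sum, ← Finset.sum_add_distrib]
    exact Finset.sum_congr rfl fun i _ => coord_eq hc i
  have h1 := key a ha.2.1
  have h2 := key b hb.2.1
  simp only [h] at h1
  rw [ha.2.2, ← hb.2.2, h2, Nat.cast_inj] at h1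
  exact (Nat.eq_of_mul_eq_mul_left hp (by omega)).symm

theorem exists_common_core [Fact p.Prime] {M : Ideal AlgInt} (hM : IsPModular p M)
    {B : Set (IrrCharacter (Equiv.Perm (Fin n)))} (hB : IsPBlock M B) :
    ∃ (m : ℕ → ℕ) (W : ℕ), (∀ ξ ∈ B, ∃ a : Fin n → ℤ, IsState n a ∧ IsW p m W a ∧
      ∃ e : ℤ, (e = 1 ∨ e = -1) ∧
        chiG n a = (e : ℂ) • (ξ : Equiv.Perm (Fin n) → ℂ)) := by
  have hp : 0 < p := (Fact.out : p.Prime).pos
  obtain ⟨χ, hχ, h0⟩ := Block.exists_height_zero hM hB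
  obtain ⟨b, hb, f, hf, hfb⟩ := exists_state χ
  refine ⟨cnt p b, ∑ i, qq p b i - coreTwo p (cnt p b) / 2, fun ξ hξ => ?_⟩
  obtain ⟨a, ha, e, he, hea⟩ := exists_state ξ
  have hc := counts_eq hM hB hχ hξ h0 ha hb he hf hea hfb
  refine ⟨a, ha, ⟨ha.2.1, fun r _ => hc r, ?_⟩, e, he, hea⟩
  rw [sum_qq_eq hp ha hb hc]
  have h1 := coreTwo_le hp hb.2.1 hb.1.injective fun r _ => rfl (a := cnt p b r)
  have h2 : 2 ∣ coreTwo p (cnt p b) :=
    Finset.dvd_sum fun r _ => even_iff_two_dvd.1 (Nat.even_mul_pred_self _)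
  omega

/-! ### The bound on the rank -/

theorem exists_span [Fact p.Prime] {B : Set (IrrCharacter (Equiv.Perm (Fin n)))} {m : ℕ → ℕ}
    {W : ℕ} (h : ∀ ξ ∈ B, ∃ a : Fin n → ℤ, IsState n a ∧ IsW p m W a ∧
      ∃ e : ℤ, (e = 1 ∨ e = -1) ∧
        chiG n a = (e : ℂ) • (ξ : Equiv.Perm (Fin n) → ℂ)) :
    ∃ s : Finset (Equiv.Perm (Fin n) → ℂ), s.card ≤ bd p W ∧
      (p = 2 → 3 ≤ W → s.card + 1 ≤ bd p W) ∧
      ∀ ξ ∈ B, pRegularPart p (ξ : Equiv.Perm (Fin n) → ℂ) ∈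
        Submodule.span ℂ (s : Set (Equiv.Perm (Fin n) → ℂ)) := by
  classical
  have hp : p.Prime := Fact.out
  set E : (Fin n → ℤ) → (Equiv.Perm (Fin n) → ℂ) := fun a => pRegularPart p (chiG n a) with hE
  have hreg : ∀ (φ : Equiv.Perm (Fin n) → ℂ) g,
      pRegularPart p φ g = if p ∣ orderOf g then 0 else φ g := fun φ g => by
    unfold pRegularPart IsPRegular
    by_cases h : p ∣ orderOf g <;> simp [h]
  have halt : IsAlt E := by
    intro a i j hij
    funext g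
    simp only [hE, Pi.neg_apply, hreg, chiG, chiM_swap _ a hij]
    split_ifs <;> simp
  have hrel : HasRel p E := by
    intro c hc k
    funext g
    rw [Finset.sum_apply, Pi.zero_apply]
    simp only [hE, hreg]
    split_ifs with hg
    · exact Finset.sum_const_zero
    · have := relation hp c hc (Nat.mul_pos hp.pos k.succ_pos) (dvd_mul_right p _) g hg
      rw [Nat.cast_mul] at this
      exact this
  obtain ⟨s, hs, hs2, hspan⟩ : ∃ s : Finset (Equiv.Perm (Fin n) → ℂ), s.card ≤ bd p W ∧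
      (p = 2 → 3 ≤ W → s.card + 1 ≤ bd p W) ∧
      ∀ a : Fin n → ℤ, IsW p m W a → E a ∈ Submodule.span ℂ (s : Set _) := by
    by_cases h2 : p = 2 ∧ 3 ≤ W
    · obtain ⟨rfl, hW⟩ := h2
      obtain ⟨s, hs, hsp⟩ := span_bound_two m W hW E halt hrel
      exact ⟨s, by omega, fun _ _ => hs, hsp⟩
    · obtain ⟨s, hs, hsp⟩ := span_bound hp.pos m W E halt hrel
      exact ⟨s, hs, fun h1 h3 => absurd ⟨h1, h3⟩ h2, hsp⟩
  refine ⟨s, hs, hs2, fun ξ hξ => ?_⟩
  obtain ⟨a, -, hW, e, he, hea⟩ := h ξ hξ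
  have he2 : (e : ℂ) * (e : ℂ) = 1 := by rcases he with rfl | rfl <;> simp
  have : pRegularPart p (ξ : Equiv.Perm (Fin n) → ℂ) = (e : ℂ) • E a := by
    funext g
    simp only [hE, Pi.smul_apply, hreg, hea, smul_eq_mul]
    split_ifs
    · rw [mul_zero]
    · rw [← mul_assoc, he2, one_mul]
  rw [this]
  exact Submodule.smul_mem _ _ (hspan a hW)

theorem blockRank_le_bd [Fact p.Prime] {B : Set (IrrCharacter (Equiv.Perm (Fin n)))} {m : ℕ → ℕ}
    {W : ℕ} (h : ∀ ξ ∈ B, ∃ a : Fin n → ℤ, IsState n a ∧ IsW p m W a ∧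
      ∃ e : ℤ, (e = 1 ∨ e = -1) ∧
        chiG n a = (e : ℂ) • (ξ : Equiv.Perm (Fin n) → ℂ)) :
    blockRank p B ≤ bd p W := by
  obtain ⟨s, hs, -, hsp⟩ := exists_span h
  refine le_trans (le_trans (Submodule.finrank_mono ?_) (finrank_span_finset_le_card s)) hs
  rw [Submodule.span_le]
  rintro _ ⟨ξ, hξ, rfl⟩
  exact hsp ξ hξ

/-! ### Moved points -/

theorem mp_le_moved (hp : p.Prime) {g u : Equiv.Perm (Fin n)} (h : IsPPart p g u) :
    mp p (parts g) ≤ #u.support := by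
  classical
  obtain ⟨v, huv, hc, -, hv⟩ := h
  have hmp : mp p (parts g) =
      ∑ c ∈ g.cycleFactorsFinset.filter (fun c => p ∣ #c.support), #c.support := by
    have h1 : ∀ k : ℕ, (Multiset.replicate k 1).filter (p ∣ ·) = 0 := fun k =>
      Multiset.filter_eq_nil.2 fun x hx => by
        rw [Multiset.eq_of_mem_replicate hx]; exact hp.not_dvd_one
    rw [mp, parts, Equiv.Perm.parts_partition, Multiset.filter_add, h1, add_zero,
      Equiv.Perm.cycleType_def, Multiset.filter_map, Finset.sum_eq_multiset_sum]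
    rfl
  rw [hmp, ← Finset.card_biUnion fun c hc d hd hne => Equiv.Perm.Disjoint.disjoint_support
    (g.cycleFactorsFinset_pairwise_disjoint (Finset.mem_filter.1 hc).1 (Finset.mem_filter.1 hd).1 hne)]
  refine Finset.card_le_card fun x hx => ?_
  obtain ⟨c, hc', hxc⟩ := Finset.mem_biUnion.1 hx
  obtain ⟨hcg, hcp⟩ := Finset.mem_filter.1 hc'
  rw [Equiv.Perm.mem_support]
  intro hux
  refine hv (hcp.trans ?_)
  have hcyc : c.IsCycle := (Equiv.Perm.mem_cycleFactorsFinset_iff.1 hcg).1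
  rw [← hcyc.orderOf]
  refine orderOf_dvd_of_pow_eq_one ((hcyc.pow_eq_one_iff).2 ⟨x, Equiv.Perm.mem_support.1 hxc, ?_⟩)
  rw [Equiv.Perm.cycle_is_cycleOf hxc hcg, Equiv.Perm.cycleOf_pow_apply_self, ← huv,
    hc.mul_pow, pow_orderOf_eq_one, mul_one]
  exact Equiv.Perm.pow_apply_eq_self_of_apply_eq_self hux _

/-! ### The shape of a defect group -/

theorem moved_fixed (hp : p.Prime) {g d : Equiv.Perm (Fin n)} {x : Fin n} (hc : Commute g d)
    (hg : ¬ p ∣ orderOf g) (hd : ∃ k : ℕ, orderOf d = p ^ k) (h : g x = d x) : g x = x := by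
  have hk : ∀ k : ℕ, (g ^ k) x = (d ^ k) x := by
    intro k
    induction k with
    | zero => simp
    | succ k ih =>
      rw [pow_succ', Equiv.Perm.mul_apply, ih, ← Equiv.Perm.mul_apply, (hc.pow_right k).eq,
        Equiv.Perm.mul_apply, h, ← Equiv.Perm.mul_apply, ← pow_succ]
  obtain ⟨k, hk'⟩ := hd
  have hmem : d ∈ Subgroup.zpowers (d ^ orderOf g) := by
    refine Cfsg.Agent.Transfer.mem_of_pow_mem (n := orderOf g) (Subgroup.mem_zpowers _) ?_
    rw [hk']
    exact Nat.Coprime.pow_left _ (hp.coprime_iff_not_dvd.2 hg)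
  obtain ⟨i, hi⟩ := hmem
  have hx : (d ^ orderOf g) x = x := by rw [← hk, pow_orderOf_eq_one, Equiv.Perm.one_apply]
  rw [h, ← hi]
  exact Equiv.Perm.zpow_apply_eq_self_of_apply_eq_self hx i

/-- The permutations that are, on each orbit of `D`, one of the elements of `D` central on it. -/
def orbitwise (D : Subgroup (Equiv.Perm (Fin n))) : Subgroup (Equiv.Perm (Fin n)) where
  carrier := {π | ∀ y, ∃ d ∈ D, ∀ z, (∃ e ∈ D, e y = z) →
    π z = d z ∧ ∀ e ∈ D, d (e z) = e (d z)}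
  one_mem' := fun _ => ⟨1, one_mem _, fun _ _ => ⟨rfl, fun _ _ => rfl⟩⟩
  mul_mem' := by
    intro π σ hπ hσ y
    obtain ⟨d, hd, h⟩ := hπ y
    obtain ⟨d', hd', h'⟩ := hσ y
    refine ⟨d * d', mul_mem hd hd', fun z hz => ?_⟩
    obtain ⟨e, he, rfl⟩ := hz
    have hz' : ∃ e' ∈ D, e' y = d' (e y) := ⟨d' * e, mul_mem hd' he, rfl⟩
    refine ⟨?_, fun w hw => ?_⟩
    · rw [Equiv.Perm.mul_apply, (h' _ ⟨e, he, rfl⟩).1, (h _ hz').1]
      rfl
    · rw [Equiv.Perm.mul_apply, Equiv.Perm.mul_apply, (h' _ ⟨e, he, rfl⟩).2 w hw, (h _ hz').2 w hw]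
  inv_mem' := by
    intro π hπ y
    obtain ⟨d, hd, h⟩ := hπ y
    refine ⟨d⁻¹, inv_mem hd, fun z hz => ?_⟩
    obtain ⟨e, he, rfl⟩ := hz
    have hz' : ∃ e' ∈ D, e' y = d⁻¹ (e y) := ⟨d⁻¹ * e, mul_mem (inv_mem hd) he, rfl⟩
    refine ⟨?_, fun w hw => ?_⟩
    · rw [Equiv.Perm.inv_eq_iff_eq, (h _ hz').1, Equiv.Perm.coe_inv, Equiv.apply_symm_apply]
    · rw [Equiv.Perm.inv_eq_iff_eq, (h _ hz').2 w hw, Equiv.Perm.coe_inv, Equiv.apply_symm_apply]

theorem mem_orbitwise {D : Subgroup (Equiv.Perm (Fin n))} {π : Equiv.Perm (Fin n)} :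
    π ∈ orbitwise D ↔ ∀ y, ∃ d ∈ D, ∀ z, (∃ e ∈ D, e y = z) →
      π z = d z ∧ ∀ e ∈ D, d (e z) = e (d z) := Iff.rfl

theorem orbitwise_isPGroup [Fact p.Prime] {D : Subgroup (Equiv.Perm (Fin n))}
    (hD : IsPGroup p D) : IsPGroup p (orbitwise D) := by
  obtain ⟨a, ha⟩ := IsPGroup.iff_card.1 hD
  refine fun π => ⟨a, Subtype.ext ?_⟩
  rw [Subgroup.coe_pow, Subgroup.coe_one]
  refine Equiv.ext fun y => ?_
  obtain ⟨d, hd, h⟩ := π.2 y
  have hk : ∀ k : ℕ, ((π : Equiv.Perm (Fin n)) ^ k) y = (d ^ k) y := by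
    intro k
    induction k with
    | zero => rfl
    | succ k ih =>
      rw [pow_succ', Equiv.Perm.mul_apply, ih, (h _ ⟨d ^ k, pow_mem hd k, rfl⟩).1, pow_succ',
        Equiv.Perm.mul_apply]
  rw [hk, Equiv.Perm.one_apply, ← ha, show d ^ Nat.card D = 1 from
    congrArg Subtype.val (pow_card_eq_one' (x := (⟨d, hd⟩ : D))), Equiv.Perm.one_apply]

theorem orbitwise_le_normalizer (D : Subgroup (Equiv.Perm (Fin n))) :
    orbitwise D ≤ Subgroup.normalizer (D : Set (Equiv.Perm (Fin n))) := by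
  refine le_trans ?_ (Subgroup.centralizer_le_normalizer _)
  intro π hπ
  rw [Subgroup.mem_centralizer_iff]
  intro e he
  refine Equiv.ext fun z => ?_
  obtain ⟨d, -, h⟩ := mem_orbitwise.1 hπ z
  rw [Equiv.Perm.mul_apply, Equiv.Perm.mul_apply, (h z ⟨1, one_mem _, rfl⟩).1,
    (h (e z) ⟨e, he, rfl⟩).1, (h z ⟨1, one_mem _, rfl⟩).2 e he]

theorem orbitwise_conj {D : Subgroup (Equiv.Perm (Fin n))} {h π : Equiv.Perm (Fin n)}
    (hh : h ∈ Subgroup.normalizer (D : Set (Equiv.Perm (Fin n)))) (hπ : π ∈ orbitwise D) :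
    h * π * h⁻¹ ∈ orbitwise D := by
  rw [mem_orbitwise] at hπ ⊢
  intro y
  obtain ⟨d, hd, hdd⟩ := hπ (h⁻¹ y)
  refine ⟨h * d * h⁻¹, (Subgroup.mem_normalizer_iff.1 hh d).1 hd, fun z hz => ?_⟩
  obtain ⟨e, he, rfl⟩ := hz
  have hconj : ∀ {w}, w ∈ D → h⁻¹ * w * h ∈ D := fun {w} hw =>
    (Subgroup.mem_normalizer_iff''.1 hh w).1 hw
  obtain ⟨h1, h2⟩ := hdd (h⁻¹ (e y)) ⟨h⁻¹ * e * h, hconj he, by simp⟩
  refine ⟨by simp only [Equiv.Perm.mul_apply, h1], fun w hw => ?_⟩
  have h3 := congrArg h (h2 _ (hconj hw))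
  simpa using h3

theorem exists_central_action [Fact p.Prime] {D : Subgroup (Equiv.Perm (Fin n))}
    (hD : IsPGroup p D) {x : Fin n} {d : Equiv.Perm (Fin n)} (hd : d ∈ D) (hdx : d x ≠ x) :
    ∃ c ∈ D, (∃ y, (∃ e ∈ D, e x = y) ∧ c y ≠ y) ∧
      ∀ z, (∃ e ∈ D, e x = z) → ∀ e ∈ D, c (e z) = e (c z) := by
  classical
  set P : Fin n → Prop := fun z => ∃ e ∈ D, e x = z with hP
  have hinv : ∀ e : D, ∀ z, P z ↔ P ((e : Equiv.Perm (Fin n)) z) := by
    intro e z
    constructor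
    · rintro ⟨w, hw, rfl⟩
      exact ⟨_, mul_mem e.2 hw, rfl⟩
    · rintro ⟨w, hw, hwz⟩
      refine ⟨_, mul_mem (inv_mem e.2) hw, ?_⟩
      rw [Equiv.Perm.mul_apply, hwz, Equiv.Perm.coe_inv, Equiv.symm_apply_apply]
  let f : D →* Equiv.Perm {z // P z} :=
    { toFun := fun e => (e : Equiv.Perm (Fin n)).subtypePerm fun z => (hinv e z).symm
      map_one' := Equiv.ext fun z => Subtype.ext rfl
      map_mul' := fun a b => Equiv.ext fun z => Subtype.ext rfl }
  haveI : Nontrivial f.range := by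
    refine ⟨⟨⟨f ⟨d, hd⟩, ⟨_, rfl⟩⟩, 1, fun h => hdx ?_⟩⟩
    have h1 := congrArg Subtype.val
      (Equiv.congr_fun (congrArg Subtype.val h) ⟨x, 1, one_mem _, rfl⟩)
    exact h1
  have hR : IsPGroup p f.range :=
    hD.of_surjective f.rangeRestrict f.rangeRestrict_surjective
  haveI := hR.center_nontrivial
  obtain ⟨⟨⟨q, hq⟩, hqc⟩, hq1⟩ := exists_ne (1 : Subgroup.center f.range)
  obtain ⟨c, rfl⟩ := hq
  refine ⟨c, c.2, ?_, fun z hz e he => ?_⟩
  · by_contra hno
    push Not at hno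
    refine hq1 (Subtype.ext (Subtype.ext (Equiv.ext fun z => Subtype.ext ?_)))
    exact hno z.1 z.2
  · have h1 := Subgroup.mem_center_iff.1 hqc ⟨f ⟨e, he⟩, ⟨_, rfl⟩⟩
    have h2 := congrArg Subtype.val
      (Equiv.congr_fun (congrArg Subtype.val h1) ⟨z, hz⟩)
    exact h2.symm

variable [Fact p.Prime] {M : Ideal AlgInt} {B : Set (IrrCharacter (Equiv.Perm (Fin n)))}

theorem defect_fixes (hM : IsPModular p M) (hB : IsPBlock M B)
    {D : Subgroup (Equiv.Perm (Fin n))} (hD : IsDefectGroup p M B D) {g : Equiv.Perm (Fin n)}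
    (hg : ¬ p ∣ orderOf g) (hgD : ∀ d ∈ D, Commute g d) {d : Equiv.Perm (Fin n)} (hd : d ∈ D)
    {x : Fin n} (hx : g x ≠ x) : d x = x := by
  classical
  by_contra hdx
  have hp : p.Prime := Fact.out
  have hDp := Block.IsDefectGroup.isPGroup hD
  have hord : ∀ e ∈ D, ∃ k : ℕ, orderOf e = p ^ k := fun e he => by
    obtain ⟨k, hk⟩ := IsPGroup.iff_orderOf.1 hDp ⟨e, he⟩
    exact ⟨k, by rw [← hk, Subgroup.orderOf_mk]⟩
  obtain ⟨c, hc, ⟨y, hy, hcy⟩, hcomm⟩ := exists_central_action hDp hd hdx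
  set P : Fin n → Prop := fun z => ∃ e ∈ D, e x = z with hP
  have hPinv : ∀ e ∈ D, ∀ z, P (e z) ↔ P z := by
    intro e he z
    constructor
    · rintro ⟨w, hw, hwz⟩
      exact ⟨e⁻¹ * w, mul_mem (inv_mem he) hw, by
        rw [Equiv.Perm.mul_apply, hwz, Equiv.Perm.coe_inv, Equiv.symm_apply_apply]⟩
    · rintro ⟨w, hw, rfl⟩
      exact ⟨e * w, mul_mem he hw, rfl⟩
  set t : Equiv.Perm (Fin n) := Equiv.Perm.ofSubtype (c.subtypePerm (hPinv c hc)) with ht
  have ht1 : ∀ z, P z → t z = c z := fun z hz => by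
    rw [ht, Equiv.Perm.ofSubtype_apply_of_mem _ hz]; rfl
  have ht0 : ∀ z, ¬ P z → t z = z := fun z hz => by
    rw [ht, Equiv.Perm.ofSubtype_apply_of_not_mem _ hz]
  have htA : t ∈ orbitwise D := by
    rw [mem_orbitwise]
    intro z
    by_cases hz : P z
    · refine ⟨c, hc, fun w ⟨e, he, hew⟩ => ?_⟩
      have hw : P w := hew ▸ (hPinv e he z).2 hz
      exact ⟨ht1 w hw, hcomm w hw⟩
    · refine ⟨1, one_mem _, fun w ⟨e, he, hew⟩ => ?_⟩
      have hw : ¬ P w := fun h => hz ((hPinv e he z).1 (hew ▸ h))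
      exact ⟨ht0 w hw, fun _ _ => rfl⟩
  have hAN := orbitwise_le_normalizer D
  haveI : ((orbitwise D).subgroupOf (Subgroup.normalizer (D : Set (Equiv.Perm (Fin n))))).Normal :=
    ⟨fun π hπ h => by
      rw [Subgroup.mem_subgroupOf] at hπ ⊢
      exact orbitwise_conj h.2 hπ⟩
  have hle := Block.pCore_normalizer_eq hM hB hD
    ((orbitwise_isPGroup hDp).of_equiv (Subgroup.subgroupOfEquivOfLe hAN).symm)
  rw [Subgroup.map_subgroupOf_eq_of_le hAN] at hle
  have htD := hle htA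
  obtain ⟨e, he, rfl⟩ := hy
  have hgy : g (e x) ≠ e x := fun h => hx (e.injective (by
    rw [← Equiv.Perm.mul_apply, ← (hgD e he).eq, Equiv.Perm.mul_apply, h]))
  have hgP : ¬ P (g (e x)) := by
    rintro ⟨w, hw, hwz⟩
    refine hgy (moved_fixed hp (hgD _ (mul_mem hw (inv_mem he))) hg
      (hord _ (mul_mem hw (inv_mem he))) ?_)
    rw [Equiv.Perm.mul_apply, Equiv.Perm.coe_inv, Equiv.symm_apply_apply, hwz]
  have h1 := Equiv.congr_fun (hgD t htD).eq (e x)
  rw [Equiv.Perm.mul_apply, Equiv.Perm.mul_apply, ht1 _ ⟨e, he, rfl⟩, ht0 _ hgP] at h1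
  exact hcy (g.injective h1)

/-! ### The weight bound -/

/-- The translations of `W` copies of the integers modulo `p`. -/
def shiftHom (W p : ℕ) : Multiplicative (Fin W → ZMod p) →* Equiv.Perm (Fin W × ZMod p) where
  toFun f := Equiv.prodShear (Equiv.refl _) fun i => Equiv.addLeft (f.toAdd i)
  map_one' := Equiv.ext fun x => Prod.ext rfl (zero_add _)
  map_mul' f g := Equiv.ext fun x => Prod.ext rfl (add_assoc _ _ _)

theorem shiftHom_injective (W p : ℕ) : Function.Injective (shiftHom W p) := by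
  intro f g h
  refine Multiplicative.toAdd.injective (funext fun i => ?_)
  have h1 := congrArg Prod.snd (Equiv.congr_fun h (i, 0))
  simpa [shiftHom] using h1

/-- The defect groups at a defect class move only the fixed points of the class element. -/
theorem support_subset_fixed (hM : IsPModular p M) (hB : IsPBlock M B) {g : Equiv.Perm (Fin n)}
    (hg : IsDefectClass M B g)
    (Q : Sylow p (Subgroup.centralizer ({g} : Set (Equiv.Perm (Fin n)))))
    {u : Equiv.Perm (Fin n)} (hu : u ∈ Block.csyl Q) :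
    u.support ⊆ Finset.univ.filter fun z => g z = z := by
  intro z hz
  refine Finset.mem_filter.2 ⟨Finset.mem_univ _, ?_⟩
  by_contra h
  refine Equiv.Perm.mem_support.1 hz (defect_fixes hM hB (D := Block.csyl Q) ⟨g, hg, Q, rfl⟩
    (Block.regular_of_unit hM hB hg.2.1) (fun d hd => ?_) hu h)
  obtain ⟨⟨w, hw⟩, -, rfl⟩ := Subgroup.mem_map.1 hd
  exact (Subgroup.mem_centralizer_singleton_iff.1 hw).symm

/-- Some element of every defect group moves at least `p` times the weight points. -/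
theorem exists_moved (hM : IsPModular p M) (hB : IsPBlock M B) {m : ℕ → ℕ} {W : ℕ}
    (hm : ∀ ξ ∈ B, ∃ a : Fin n → ℤ, IsState n a ∧ IsW p m W a ∧
      ∃ e : ℤ, (e = 1 ∨ e = -1) ∧ chiG n a = (e : ℂ) • (ξ : Equiv.Perm (Fin n) → ℂ))
    {D : Subgroup (Equiv.Perm (Fin n))} (hD : IsDefectGroup p M B D) :
    ∃ u ∈ D, p * W ≤ #u.support := by
  have hp : p.Prime := Fact.out
  obtain ⟨χ, hχ⟩ := Block.pblock_nonempty hM hB
  obtain ⟨a, ha, hW, e, -, hea⟩ := hm χ hχ
  obtain ⟨g, hg, hgW⟩ := exists_element hp.pos hW ha.1.injective ha.2.2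
  have hχg : (χ : Equiv.Perm (Fin n) → ℂ) g ≠ 0 := fun h => hg (by
    rw [hea, Pi.smul_apply, h, smul_zero])
  obtain ⟨u, v, huv, hc, hu, hv, -, -⟩ := Block.exists_pPart_zpowers (p := p) g
  obtain ⟨D', hD', huD'⟩ : ∃ D' : Subgroup (Equiv.Perm (Fin n)),
      IsDefectGroup p M B D' ∧ u ∈ D' := by
    by_contra hno
    refine hχg (Block.value_eq_zero_of_pPart_notMem hM χ ⟨v, huv, hc, hu, hv⟩ fun E hE hmem => ?_)
    obtain ⟨ψ, rfl⟩ := hB
    rw [← Block.blockOf_eq hM hχ] at hE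
    exact hno ⟨E, hE, hmem⟩
  obtain ⟨x, hx⟩ := Block.defectGroup_conj hM hB hD' hD
  refine ⟨x * u * x⁻¹, hx ▸ Subgroup.mem_map.2 ⟨u, huD', rfl⟩, hgW.trans ?_⟩
  rw [Equiv.Perm.card_support_conj]
  exact mp_le_moved hp ⟨v, huv, hc, hu, hv⟩

/-- A group with a nontrivial `p`-element has positive sectional rank. -/
theorem one_le_rank {G : Type*} [Group G] [Finite G] {p s : ℕ} [Fact p.Prime]
    (hP : IsPGroup p G) [Nontrivial G] (hs : SectionalPRankLE p s G) : 1 ≤ s := by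
  rcases Nat.eq_zero_or_pos s with rfl | h
  · exfalso
    have hp : p.Prime := Fact.out
    obtain ⟨a, ha⟩ := IsPGroup.iff_card.1 hP
    have ha0 : a ≠ 0 := fun h => absurd ha (by
      rw [h, pow_zero]; exact (Finite.one_lt_card (α := G)).ne')
    obtain ⟨z, hz⟩ := exists_prime_orderOf_dvd_card' (G := G) p (ha ▸ dvd_pow_self p ha0)
    have h1 := hs (Subgroup.zpowers z) ⊥ ⊤ ?_ ?_
    · rw [Subgroup.card_top, Nat.card_congr QuotientGroup.quotientBot.toEquiv, Nat.card_zpowers,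
        hz, pow_zero] at h1
      exact absurd h1 (not_le.2 hp.one_lt)
    · refine ⟨⟨fun a b => Subtype.ext ?_⟩⟩
      obtain ⟨⟨a', i, rfl⟩, ha'⟩ := QuotientGroup.mk_surjective a.1
      obtain ⟨⟨b', j, rfl⟩, hb'⟩ := QuotientGroup.mk_surjective b.1
      rw [Subgroup.coe_mul, Subgroup.coe_mul, ← ha', ← hb', ← QuotientGroup.mk_mul,
        ← QuotientGroup.mk_mul]
      exact congrArg _ (Subtype.ext (zpow_mul_comm z i j))
    · intro a _
      obtain ⟨⟨a', i, rfl⟩, rfl⟩ := QuotientGroup.mk_surjective a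
      rw [← QuotientGroup.mk_pow]
      refine (QuotientGroup.eq_one_iff _).2 (Subgroup.mem_bot.2 (Subtype.ext ?_))
      rw [Subgroup.coe_pow, Subgroup.coe_one]
      show (z ^ i) ^ p = 1
      rw [← zpow_natCast, ← zpow_mul, mul_comm, zpow_mul, zpow_natCast,
        show z ^ p = 1 from hz ▸ pow_orderOf_eq_one z, one_zpow]
  · exact h

/-- With weight zero the class functions vanish on the singular elements. -/
theorem vanish_of_weight_zero {N : ℕ} {m : ℕ → ℕ} {a : Fin N → ℤ} (ha : IsW p m 0 a)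
    (hinj : Function.Injective a) {g : Equiv.Perm (Fin n)} (hg : p ∣ orderOf g) :
    chiG n a g = 0 := by
  have hp : p.Prime := Fact.out
  obtain ⟨k, hk, hpk⟩ : ∃ k ∈ parts g, p ∣ k := by
    by_contra hno
    push Not at hno
    refine (regular_iff hp g).2 ?_ hg
    rw [mp, Multiset.filter_eq_nil.2 hno, Multiset.sum_zero]
  have hk0 : 0 < k := g.partition.parts_pos hk
  rw [chiG, ← Multiset.cons_erase hk, chiM_cons, Int.cast_eq_zero]
  refine Finset.sum_eq_zero fun i _ => ?_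
  by_contra hne
  obtain ⟨h1, h2, -⟩ := chiM_support _ _ hne
  set c : Fin N → ℤ := a - Pi.single i (k : ℤ) with hc
  have hrr : ∀ j, rr p c j = rr p a j :=
    rr_sub_single ha.1 (Int.natCast_dvd_natCast.2 hpk) h2
  have hle := coreTwo_le (m := m) hp.pos h2 h1 fun r hr => by
    rw [← ha.2.1 r hr]; simp only [cnt, hrr]
  have hlt : ∑ j, qq p c j < ∑ j, qq p a j := by
    refine Finset.sum_lt_sum (fun j _ => Nat.div_le_div_right ?_) ⟨i, Finset.mem_univ _, ?_⟩
    · refine Int.toNat_le_toNat ?_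
      rw [hc, Pi.sub_apply]
      rcases eq_or_ne j i with rfl | h
      · rw [Pi.single_eq_same]; omega
      · rw [Pi.single_eq_of_ne h, sub_zero]
    · have h3 := coord_eq (p := p) h2 i
      have h4 := coord_eq (p := p) ha.1 i
      rw [hrr i, hc, Pi.sub_apply, Pi.single_eq_same] at h3
      by_contra hlt
      push Not at hlt
      have : (p : ℤ) * (qq p a i : ℤ) ≤ (p : ℤ) * (qq p c i : ℤ) :=
        mul_le_mul_of_nonneg_left (by exact_mod_cast hlt) (Int.natCast_nonneg p)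
      rw [hc] at this
      omega
  have := ha.2.2
  omega

/-- A `p`-group containing, up to conjugacy, all elementary abelian groups in the fixed points of
an element, of sectional rank at most `s`, bounds the weight. -/
theorem weight_le_rank (hM : IsPModular p M) (hB : IsPBlock M B)
    {D : Subgroup (Equiv.Perm (Fin n))} (hD : IsDefectGroup p M B D) {s W : ℕ}
    (hs : SectionalPRankLE p s D) {u : Equiv.Perm (Fin n)} (hu : u ∈ D)
    (hW : p * W ≤ #u.support) : W ≤ s := by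
  classical
  have hp : p.Prime := Fact.out
  have hD' := hD
  obtain ⟨g, hg, Q, hQ⟩ := hD
  have hsub := support_subset_fixed hM hB hg Q (hQ ▸ hu)
  haveI : NeZero p := ⟨hp.ne_zero⟩
  have hcard : Fintype.card (Fin W × ZMod p) ≤ Fintype.card {z // g z = z} := by
    rw [Fintype.card_prod, Fintype.card_fin, ZMod.card, Fintype.card_subtype, mul_comm]
    exact hW.trans (Finset.card_le_card hsub)
  obtain ⟨j⟩ := Function.Embedding.nonempty_of_card_le hcard
  set ι : Fin W × ZMod p ↪ Fin n := j.trans (Function.Embedding.subtype _) with hι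
  set φ : Multiplicative (Fin W → ZMod p) →* Equiv.Perm (Fin n) :=
    (Equiv.Perm.viaEmbeddingHom ι).comp (shiftHom W p) with hφ
  have hinj : Function.Injective φ :=
    (Equiv.Perm.viaEmbeddingHom_injective ι).comp (shiftHom_injective W p)
  have hpow : ∀ f : Multiplicative (Fin W → ZMod p), f ^ p = 1 := fun f =>
    Multiplicative.toAdd.injective (funext fun i => by
      simp only [toAdd_pow, Pi.smul_apply, toAdd_one, Pi.zero_apply, nsmul_eq_mul,
        ZMod.natCast_self, zero_mul])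
  have hE : IsPGroup p φ.range := by
    rintro ⟨_, f, rfl⟩
    exact ⟨1, Subtype.ext (by rw [pow_one, Subgroup.coe_pow, ← map_pow, hpow, map_one]; rfl)⟩
  have hEg : g ∈ Subgroup.centralizer (φ.range : Set (Equiv.Perm (Fin n))) := by
    rw [Subgroup.mem_centralizer_iff]
    rintro _ ⟨f, rfl⟩
    have hfix : ∀ z, g z ≠ z → φ f z = z := by
      intro z hz
      rw [hφ, MonoidHom.comp_apply, Equiv.Perm.viaEmbeddingHom_apply]
      refine Equiv.Perm.viaEmbedding_apply_of_notMem _ _ _ ?_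
      rintro ⟨w, rfl⟩
      exact hz (j w).2
    refine Equiv.ext fun z => ?_
    rw [Equiv.Perm.mul_apply, Equiv.Perm.mul_apply]
    by_cases hz : g z = z
    · rw [hz]
      by_contra h
      have h1 := (φ f).injective (hfix (φ f z) (Ne.symm h))
      rw [h1, hz] at h
      exact h rfl
    · rw [hfix z hz, hfix (g z) fun h => hz (g.injective h)]
  obtain ⟨x, hx⟩ := Block.exists_conj_csyl_le hE (IsConj.refl g) hEg Q
  rw [show Block.csyl Q = D from hQ.symm] at hx
  set E := φ.range.map (MulAut.conj x).toMonoidHom with hEdef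
  have h1 := hs (E.subgroupOf D) ⊥ (⊤) ?_ ?_
  · rw [Subgroup.card_top, Nat.card_congr QuotientGroup.quotientBot.toEquiv, Nat.card_congr (Subgroup.subgroupOfEquivOfLe hx).toEquiv,
      hEdef, Block.card_map_conj, Nat.card_congr (MonoidHom.ofInjective hinj).toEquiv.symm] at h1
    rw [Nat.card_congr Multiplicative.toAdd, Nat.card_fun, Nat.card_zmod, Nat.card_fin] at h1
    exact (Nat.pow_le_pow_iff_right hp.one_lt).1 h1
  · refine ⟨⟨fun a b => Subtype.ext ?_⟩⟩
    obtain ⟨a', ha⟩ := QuotientGroup.mk_surjective a.1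
    obtain ⟨b', hb⟩ := QuotientGroup.mk_surjective b.1
    rw [Subgroup.coe_mul, Subgroup.coe_mul, ← ha, ← hb, ← QuotientGroup.mk_mul,
      ← QuotientGroup.mk_mul]
    obtain ⟨_, ⟨f, rfl⟩, hf⟩ := Subgroup.mem_map.1 (Subgroup.mem_subgroupOf.1 a'.2)
    obtain ⟨_, ⟨f', rfl⟩, hf'⟩ := Subgroup.mem_map.1 (Subgroup.mem_subgroupOf.1 b'.2)
    refine congrArg _ (Subtype.ext (Subtype.ext ?_))
    rw [Subgroup.coe_mul, Subgroup.coe_mul, Subgroup.coe_mul, Subgroup.coe_mul, ← hf, ← hf',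
      ← map_mul, ← map_mul, ← map_mul, ← map_mul, mul_comm f f']
  · intro a _
    obtain ⟨a', rfl⟩ := QuotientGroup.mk_surjective a
    obtain ⟨_, ⟨f, rfl⟩, hf⟩ := Subgroup.mem_map.1 (Subgroup.mem_subgroupOf.1 a'.2)
    rw [← QuotientGroup.mk_pow, show a' ^ p = 1 from Subtype.ext (Subtype.ext (by
      rw [Subgroup.coe_pow, Subgroup.coe_pow, ← hf, ← map_pow, ← map_pow, hpow, map_one, map_one]
      rfl)), QuotientGroup.mk_one]

end Cfsg.Agent.Char.SymChar
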