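import Cfsg.Agent.Lib.Char.SymChar.Degree
import Cfsg.Agent.Lib.Char.SymChar.Block

/-!
States of given core and weight as families of runners, and the degree valuation in runner terms.
-/

set_option autoImplicit false

namespace Cfsg.Agent.Char.SymChar

open Finset

variable {n N p : ℕ}

theorem runner_spec' {a : Fin N → ℤ} (hinj : Function.Injective a) (ha : ∀ i, 0 ≤ a i) (p r : ℕ) :
    (runner p (valSet a) r).card = cnt p a r ∧
      ∑ x ∈ runner p (valSet a) r, x = ∑ i with rr p a i = r, qq p a i := by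
  have hinjq : Set.InjOn (qq p a) (({i | rr p a i = r} : Finset (Fin N)) : Set (Fin N)) :=
    qq_injOn ha hinj r
  have himg : runner p (valSet a) r = ({i | rr p a i = r} : Finset (Fin N)).image (qq p a) := by
    rw [runner, valSet, Finset.filter_image, Finset.image_image]
    rfl
  rw [himg, Finset.card_image_of_injOn hinjq, Finset.sum_image hinjq]
  exact ⟨rfl, rfl⟩

/-- The runners of a state have the given sizes, and their excesses add up to the weight. -/
theorem IsW.runners (hp : 0 < p) {a : Fin N → ℤ} {m : ℕ → ℕ} {W : ℕ} (h : IsW p m W a)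
    (hinj : Function.Injective a) :
    (∀ r ∈ range p, (runner p (valSet a) r).card = m r) ∧
      ∑ r ∈ range p, excN (runner p (valSet a) r) = W := by
  have hc : ∀ r ∈ range p, (runner p (valSet a) r).card = m r := fun r hr => by
    rw [(runner_spec' hinj h.1 p r).1]; exact h.2.1 r hr
  refine ⟨hc, ?_⟩
  have h1 : ∑ r ∈ range p, 2 * ∑ x ∈ runner p (valSet a) r, x =
      coreTwo p m + 2 * ∑ r ∈ range p, excN (runner p (valSet a) r) := by
    rw [coreTwo, Finset.mul_sum, ← Finset.sum_add_distrib]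
    exact Finset.sum_congr rfl fun r hr => by rw [two_sum_eq, hc r hr]
  have h2 : ∑ r ∈ range p, ∑ x ∈ runner p (valSet a) r, x = ∑ i, qq p a i := by
    rw [sum_by_residue hp]
    exact Finset.sum_congr rfl fun r _ => (runner_spec' hinj h.1 p r).2
  rw [← Finset.mul_sum, h2, h.2.2] at h1
  omega

/-- The set with the given runners. -/
def build (p : ℕ) (Q : ℕ → Finset ℕ) : Finset ℕ :=
  (range p).biUnion fun r => (Q r).image fun q => p * q + r

theorem mem_build {Q : ℕ → Finset ℕ} {x : ℕ} (hp : 0 < p) :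
    x ∈ build p Q ↔ x / p ∈ Q (x % p) := by
  simp only [build, Finset.mem_biUnion, Finset.mem_range, Finset.mem_image]
  constructor
  · rintro ⟨r, hr, q, hq, rfl⟩
    rwa [Nat.mul_add_mod, Nat.mod_eq_of_lt hr, Nat.mul_add_div hp, Nat.div_eq_of_lt hr, add_zero]
  · intro h
    exact ⟨x % p, Nat.mod_lt _ hp, x / p, h, Nat.div_add_mod x p⟩

theorem runner_build (hp : 0 < p) (Q : ℕ → Finset ℕ) {r : ℕ} (hr : r < p) :
    runner p (build p Q) r = Q r := by
  ext q
  rw [mem_runner hr, mem_build hp, Nat.mul_add_mod, Nat.mod_eq_of_lt hr, Nat.mul_add_div hp,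
    Nat.div_eq_of_lt hr, add_zero]

theorem build_runner (hp : 0 < p) (S : Finset ℕ) : build p (runner p S) = S := by
  ext x
  rw [mem_build hp, mem_runner (Nat.mod_lt _ hp), Nat.div_add_mod]

theorem build_congr {Q Q' : ℕ → Finset ℕ} (h : ∀ r ∈ range p, Q r = Q' r) :
    build p Q = build p Q' :=
  Finset.biUnion_congr rfl fun r hr => by rw [h r hr]

theorem build_spec (hp : 0 < p) (Q : ℕ → Finset ℕ) :
    (build p Q).card = ∑ r ∈ range p, (Q r).card ∧
      ∑ x ∈ build p Q, x = p * (∑ r ∈ range p, ∑ q ∈ Q r, q) + ∑ r ∈ range p, (Q r).card * r := by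
  have hdisj : ((range p : Finset ℕ) : Set ℕ).PairwiseDisjoint
      fun r => (Q r).image fun q => p * q + r := by
    intro r hr s hs hne
    simp only [Function.onFun]
    refine Finset.disjoint_left.2 fun x hx hx' => hne ?_
    obtain ⟨q, -, rfl⟩ := Finset.mem_image.1 hx
    obtain ⟨q', -, he⟩ := Finset.mem_image.1 hx'
    have := congrArg (· % p) he
    simp only [Nat.mul_add_mod, Nat.mod_eq_of_lt (Finset.mem_range.1 hr),
      Nat.mod_eq_of_lt (Finset.mem_range.1 hs)] at this
    exact this.symm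
  have hinj : ∀ r, Set.InjOn (fun q => p * q + r) ((Q r : Finset ℕ) : Set ℕ) :=
    fun r q _ q' _ h => Nat.eq_of_mul_eq_mul_left hp (by simp only at h; omega)
  refine ⟨?_, ?_⟩
  · rw [build, Finset.card_biUnion hdisj]
    exact Finset.sum_congr rfl fun r _ => Finset.card_image_of_injOn (hinj r)
  · rw [build, Finset.sum_biUnion hdisj, Finset.mul_sum, ← Finset.sum_add_distrib]
    refine Finset.sum_congr rfl fun r _ => ?_
    rw [Finset.sum_image (hinj r), Finset.sum_add_distrib, Finset.mul_sum, Finset.sum_const,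
      smul_eq_mul]

theorem excN_of_state {a : Fin n → ℤ} (ha : IsState n a) :
    (valSet a).card = n ∧ excN (valSet a) = n := by
  have hinj : Set.InjOn (fun i => (a i).toNat) ((Finset.univ : Finset (Fin n)) : Set (Fin n)) :=
    fun i _ j _ h => ha.1.injective (by
      have := ha.2.1 i
      have := ha.2.1 j
      simp only at h
      omega)
  have hc : (valSet a).card = n := by
    rw [valSet, Finset.card_image_of_injOn hinj, Finset.card_univ, Fintype.card_fin]
  refine ⟨hc, ?_⟩
  have h1 := two_sum_eq (valSet a)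
  rw [hc] at h1
  have h2 : ((∑ x ∈ valSet a, x : ℕ) : ℤ) = ∑ i, a i := by
    rw [valSet, Finset.sum_image hinj, Nat.cast_sum]
    exact Finset.sum_congr rfl fun i _ => Int.toNat_of_nonneg (ha.2.1 i)
  rw [ha.2.2] at h2
  have h3 := sum_delta (N := n)
  omega

theorem exists_state_of_set {S : Finset ℕ} (hc : S.card = n) (he : excN S = n) :
    ∃ a : Fin n → ℤ, IsState n a ∧ valSet a = S := by
  subst hc
  obtain ⟨h1, h2, h3, h4⟩ := enum_spec S
  rw [he] at h4
  exact ⟨enum S, ⟨h1, h2, h4⟩, h3⟩

theorem state_eq_of_valSet {a b : Fin n → ℤ} (ha : IsState n a) (hb : IsState n b)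
    (h : valSet a = valSet b) : a = b := by
  have hval : ∀ i, ∃ j, b j = a i := by
    intro i
    have hm : (a i).toNat ∈ valSet b := h ▸ Finset.mem_image.2 ⟨i, Finset.mem_univ _, rfl⟩
    obtain ⟨j, -, hj⟩ := Finset.mem_image.1 hm
    refine ⟨j, ?_⟩
    have := ha.2.1 i
    have := hb.2.1 j
    omega
  choose σ hσ using hval
  have hi : Function.Injective σ := fun x y hxy => ha.1.injective (by rw [← hσ x, ← hσ y, hxy])
  refine eq_of_match_ne_zero ha.1 hb.1 ?_
  rw [show a = b ∘ Equiv.ofBijective σ (Finite.injective_iff_bijective.1 hi) from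
    funext fun i => (hσ i).symm, match_comp, match_self hb.1.injective, mul_one]
  exact Units.ne_zero _

theorem state_eq_of_runners (hp : 0 < p) {a b : Fin n → ℤ} (ha : IsState n a) (hb : IsState n b)
    (h : ∀ r ∈ range p, runner p (valSet a) r = runner p (valSet b) r) : a = b := by
  refine state_eq_of_valSet ha hb ?_
  rw [← build_runner hp (valSet a), ← build_runner hp (valSet b), build_congr h]

/-- Any family of runners of the sizes and the total excess of a state is that of a state. -/
theorem exists_state_runners (hp : 0 < p) {a₀ : Fin n → ℤ} (ha₀ : IsState n a₀) {m : ℕ → ℕ}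
    {W : ℕ} (hW₀ : IsW p m W a₀) (Q : ℕ → Finset ℕ) (hc : ∀ r ∈ range p, (Q r).card = m r)
    (he : ∑ r ∈ range p, excN (Q r) = W) :
    ∃ a : Fin n → ℤ, IsState n a ∧ IsW p m W a ∧
      ∀ r ∈ range p, runner p (valSet a) r = Q r := by
  obtain ⟨hc₀, he₀⟩ := hW₀.runners hp ha₀.1.injective
  obtain ⟨hS₀, hS₀'⟩ := excN_of_state ha₀
  obtain ⟨b1, b2⟩ := build_spec hp Q
  obtain ⟨c1, c2⟩ := build_spec hp (runner p (valSet a₀))
  rw [build_runner hp] at c1 c2
  have hq : ∀ R : ℕ → Finset ℕ, (∀ r ∈ range p, (R r).card = m r) →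
      2 * ∑ r ∈ range p, ∑ q ∈ R r, q = coreTwo p m + 2 * ∑ r ∈ range p, excN (R r) := by
    intro R hR
    rw [coreTwo, Finset.mul_sum, Finset.mul_sum, ← Finset.sum_add_distrib]
    exact Finset.sum_congr rfl fun r hr => by rw [two_sum_eq, hR r hr]
  have hQ := hq Q hc
  have h₀ := hq _ hc₀
  rw [he] at hQ
  rw [he₀, ← hQ] at h₀
  have hsum : ∑ r ∈ range p, ∑ q ∈ runner p (valSet a₀) r, q = ∑ r ∈ range p, ∑ q ∈ Q r, q := by
    omega
  have hcard : ∀ (f : ℕ → ℕ), ∑ r ∈ range p, (Q r).card * f r =
      ∑ r ∈ range p, (runner p (valSet a₀) r).card * f r := fun f =>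
    Finset.sum_congr rfl fun r hr => by rw [hc r hr, hc₀ r hr]
  have hSc : (build p Q).card = n := by
    have := hcard fun _ => 1
    simp only [mul_one] at this
    rw [b1, this, ← c1, hS₀]
  have hSe : excN (build p Q) = n := by
    have h1 := two_sum_eq (build p Q)
    have h2 := two_sum_eq (valSet a₀)
    rw [b2, hcard fun r => r, ← hsum, ← c2, hSc, h2, hS₀, hS₀'] at h1
    omega
  obtain ⟨a, ha, hval⟩ := exists_state_of_set hSc hSe
  have hrun : ∀ r ∈ range p, runner p (valSet a) r = Q r := fun r hr => by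
    rw [hval, runner_build hp _ (Finset.mem_range.1 hr)]
  refine ⟨a, ha, ⟨ha.2.1, fun r hr => ?_, ?_⟩, hrun⟩
  · rw [← (runner_spec' ha.1.injective ha.2.1 p r).1, hrun r hr, hc r hr]
  · rw [sum_by_residue hp, ← hQ, Finset.mul_sum, Finset.mul_sum]
    exact Finset.sum_congr rfl fun r hr => by
      rw [← (runner_spec' ha.1.injective ha.2.1 p r).2, hrun r hr]

theorem parts_one (n : ℕ) : parts (1 : Equiv.Perm (Fin n)) = Multiset.replicate n 1 := by
  simp [parts, Equiv.Perm.parts_partition]

/-- The valuation of the degree of the character of a state. -/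
theorem degree_runners (hp : p.Prime) {a : Fin n → ℤ} {m : ℕ → ℕ} {W : ℕ} (ha : IsState n a)
    (hW : IsW p m W a) {ξ : IrrCharacter (Equiv.Perm (Fin n))} {e : ℤ} (he : e = 1 ∨ e = -1)
    (hea : chiG n a = (e : ℂ) • (ξ : Equiv.Perm (Fin n) → ℂ)) :
    (charDegree (ξ : Equiv.Perm (Fin n) → ℂ)).factorization p +
        (W + ∑ r ∈ range p, hv p (runner p (valSet a) r)) = n.factorial.factorization p := by
  obtain ⟨-, hv0⟩ := degree_val hp (w := n) ha.1.injective ha.2.1 ha.2.2
  have h1 := hv_runners hp (valSet a)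
  rw [Finset.sum_add_distrib, (hW.runners hp.pos ha.1.injective).2] at h1
  have h2 := congrFun hea 1
  rw [chiG, parts_one, Pi.smul_apply, smul_eq_mul, Block.charDeg_spec', ← Int.cast_natCast,
    ← Int.cast_mul, Int.cast_inj] at h2
  have h3 : (chiM (Multiset.replicate n 1) a).natAbs = charDegree (ξ : Equiv.Perm (Fin n) → ℂ) := by
    rw [h2, Int.natAbs_mul, Int.natAbs_natCast]
    rcases he with rfl | rfl <;> simp
  rw [h3, h1] at hv0
  exact hv0

/-- For positive weight every runner is nonempty. -/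
theorem runner_pos (hp : 0 < p) {a : Fin n → ℤ} {m : ℕ → ℕ} {W : ℕ} (ha : IsState n a)
    (hW : IsW p m W a) (h0 : 0 < W) {r : ℕ} (hr : r ∈ range p) : 0 < m r := by
  rcases Nat.eq_zero_or_pos (m r) with h | h
  swap
  · exact h
  exfalso
  classical
  set Q : ℕ → Finset ℕ := fun s => range (m s) with hQ
  have hQe : ∀ s, excN (Q s) = 0 := fun s => Finset.sum_eq_zero fun q hq =>
    Finset.card_eq_zero.2 (Finset.sdiff_eq_empty_iff_subset.2 (Finset.range_subset_range.2
      (Finset.mem_range.1 hq).le))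
  -- the core on the same number of beads
  set S := build p Q with hS
  obtain ⟨b1, b2⟩ := build_spec hp Q
  obtain ⟨hc₀, he₀⟩ := hW.runners hp ha.1.injective
  obtain ⟨hS₀, hS₀'⟩ := excN_of_state ha
  obtain ⟨c1, c2⟩ := build_spec hp (runner p (valSet a))
  rw [build_runner hp] at c1 c2
  have hSc : S.card = n := by
    rw [hS, b1, ← hS₀, c1]
    exact Finset.sum_congr rfl fun s hs => by rw [hc₀ s hs, hQ, Finset.card_range]
  have hSe : excN S + p * W = n := by
    have e0 : ∀ (R : ℕ → Finset ℕ), (∀ s ∈ range p, (R s).card = m s) →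
        2 * ∑ s ∈ range p, ∑ q ∈ R s, q = coreTwo p m + 2 * ∑ s ∈ range p, excN (R s) := by
      intro R hR
      rw [coreTwo, Finset.mul_sum, Finset.mul_sum, ← Finset.sum_add_distrib]
      exact Finset.sum_congr rfl fun s hs => by rw [two_sum_eq, hR s hs]
    have e1 := e0 Q fun s _ => by rw [hQ, Finset.card_range]
    have e2 := e0 _ hc₀
    rw [Finset.sum_eq_zero (s := range p) (f := fun s => excN (Q s)) fun s _ => hQe s] at e1
    rw [he₀] at e2
    have hw : ∑ s ∈ range p, ∑ q ∈ runner p (valSet a) s, q =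
        ∑ s ∈ range p, ∑ q ∈ Q s, q + W := by omega
    have f1 := two_sum_eq S
    have f2 := two_sum_eq (valSet a)
    rw [c2, hw, mul_add p] at f2
    rw [hS, b2] at f1
    have hcard : ∑ s ∈ range p, (runner p (valSet a) s).card * s =
        ∑ s ∈ range p, (Q s).card * s :=
      Finset.sum_congr rfl fun s hs => by rw [hc₀ s hs, hQ, Finset.card_range]
    rw [hcard, hS₀, hS₀'] at f2
    rw [← hS, hSc] at f1
    omega
  -- every bead above `r` has the hole `r` below it
  have hnot : r ∉ S := fun hm => by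
    rw [hS, mem_build hp, Nat.mod_eq_of_lt (Finset.mem_range.1 hr)] at hm
    simp [hQ, h] at hm
  have hle : #(S.filter fun x => r < x) ≤ excN S := by
    rw [excN, Finset.card_eq_sum_ones, Finset.sum_filter]
    refine Finset.sum_le_sum fun x _ => ?_
    split_ifs with hx
    · exact Finset.card_pos.2 ⟨r, Finset.mem_sdiff.2 ⟨Finset.mem_range.2 hx, hnot⟩⟩
    · exact Nat.zero_le _
  have hlow : #(S.filter fun x => ¬ r < x) ≤ r := by
    refine (Finset.card_le_card (fun x hx => ?_)).trans (Finset.card_range r).le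
    obtain ⟨hx1, hx2⟩ := Finset.mem_filter.1 hx
    have : x ≠ r := fun he => hnot (he ▸ hx1)
    exact Finset.mem_range.2 (by omega)
  have htot := Finset.card_filter_add_card_filter_not (s := S) (fun x => r < x)
  have := Finset.mem_range.1 hr
  have : p ≤ p * W := Nat.le_mul_of_pos_right p h0
  omega

end Cfsg.Agent.Char.SymChar
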