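import Cfsg.Agent.Lib.Char.SymChar.SymmCount
import Mathlib.Data.Nat.Choose.Factorization
import Mathlib.Data.Nat.Factorial.BigOperators
import Mathlib.LinearAlgebra.Vandermonde
import Mathlib.LinearAlgebra.Matrix.Adjugate

/-!
The degree of the class function of a tuple, and its valuation at a prime in terms of the holes of
the set of values.
-/

set_option autoImplicit false

namespace Cfsg.Agent.Char.SymChar

open Finset
open scoped Polynomial

variable {N p : ℕ}

/-! ### The determinant -/

/-- The falling factorial. -/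
noncomputable def fall (j : ℕ) (x : ℤ) : ℤ := (descPochhammer ℤ j).eval x

theorem fall_succ_right (j : ℕ) (x : ℤ) : fall (j + 1) x = fall j x * (x - j) := by
  rw [fall, fall, descPochhammer_succ_eval]

theorem fall_succ_left (j : ℕ) (x : ℤ) : fall (j + 1) x = x * fall j (x - 1) := by
  simp [fall, descPochhammer_succ_left, Polynomial.eval_comp]

/-- The matrix of falling factorials. -/
noncomputable def altMat (a : Fin N → ℤ) : Matrix (Fin N) (Fin N) ℤ :=
  fun i j => fall (N - 1 - (j : ℕ)) (a i)

/-- The alternant. -/
noncomputable def alt' (a : Fin N → ℤ) : ℤ := (altMat a).det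

theorem alt_swap (a : Fin N → ℤ) (σ : Equiv.Perm (Fin N)) :
    alt' (a ∘ σ) = (Equiv.Perm.sign σ : ℤ) * alt' a := by
  rw [alt', alt', show altMat (a ∘ σ) = (altMat a).submatrix σ id from rfl, Matrix.det_permute]
  simp

theorem alt_delta : alt' (delta N) = ∏ i, (((delta N i).toNat).factorial : ℤ) := by
  have hz : ∀ j x : ℕ, x < j → fall j (x : ℤ) = 0 := by
    intro j x h
    rw [fall, descPochhammer_eval_eq_descFactorial]
    exact_mod_cast Nat.descFactorial_of_lt h
  rw [alt', Matrix.det_of_upperTriangular]
  · refine Finset.prod_congr rfl fun i _ => ?_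
    simp only [altMat, delta, Int.toNat_natCast, fall]
    rw [descPochhammer_eval_eq_descFactorial, Nat.descFactorial_self]
  · intro i j hij
    refine hz _ _ ?_
    have : (j : ℕ) < i := hij
    have := i.2
    omega

theorem alt_zero_of_not_injective {a : Fin N → ℤ} (h : ¬ Function.Injective a) : alt' a = 0 := by
  simp only [Function.Injective, not_forall] at h
  obtain ⟨i, j, hij, hne⟩ := h
  exact Matrix.det_zero_of_row_eq hne (by funext k; simp only [altMat, hij])

/-- Lowering one coordinate in all ways, weighted by the coordinate. -/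
theorem alt_euler (a : Fin N → ℤ) :
    ∑ i, a i * alt' (a - Pi.single i (1 : ℤ)) = (∑ i, a i - ∑ i, delta N i) * alt' a := by
  set A := altMat a with hA
  set d : Fin N → ℤ := fun j => ((N - 1 - (j : ℕ) : ℕ) : ℤ) with hd
  have hrow : ∀ i, a i * alt' (a - Pi.single i (1 : ℤ)) =
      a i * A.det - (A.updateRow i fun k => d k * A i k).det := by
    intro i
    have hupd : altMat (a - Pi.single i (1 : ℤ)) =
        A.updateRow i fun k => fall (N - 1 - (k : ℕ)) (a i - 1) := by
      ext l k
      rcases eq_or_ne l i with rfl | hl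
      · rw [Matrix.updateRow_self]; simp [altMat]
      · rw [Matrix.updateRow_ne hl]; simp [altMat, hA, hl]
    rw [alt', hupd, ← Matrix.det_updateRow_smul]
    have hv : (a i • fun k : Fin N => fall (N - 1 - (k : ℕ)) (a i - 1)) =
        (a i • A i) + ((-1 : ℤ) • fun k => d k * A i k) := by
      funext k
      simp only [Pi.smul_apply, Pi.add_apply, smul_eq_mul, hA, hd, altMat]
      rw [← fall_succ_left, fall_succ_right]
      ring
    rw [hv, Matrix.det_updateRow_add, Matrix.det_updateRow_smul, Matrix.det_updateRow_smul,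
      Matrix.updateRow_eq_self]
    ring
  have hdd : ∀ i, (A.updateRow i fun k => d k * A i k).det =
      ∑ k, d k * (A.adjugate k i * A i k) := by
    intro i
    rw [← Matrix.cramer_transpose_apply, Matrix.cramer_eq_adjugate_mulVec,
      ← Matrix.adjugate_transpose]
    simp only [Matrix.mulVec, dotProduct, Matrix.transpose_apply]
    exact Finset.sum_congr rfl fun k _ => by ring
  have hdiag : ∀ k, ∑ i, A.adjugate k i * A i k = A.det := fun k => by
    rw [← Matrix.mul_apply, Matrix.adjugate_mul, Matrix.smul_apply, Matrix.one_apply_eq,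
      smul_eq_mul, mul_one]
  rw [Finset.sum_congr rfl fun i _ => hrow i, Finset.sum_sub_distrib, ← Finset.sum_mul,
    Finset.sum_congr rfl fun i _ => hdd i, Finset.sum_comm]
  simp only [← Finset.mul_sum, hdiag]
  rw [← Finset.sum_mul, show ∑ k, d k = ∑ i, delta N i from rfl, alt']
  ring

theorem exists_perm_of_min {a : Fin N → ℤ} (hinj : Function.Injective a) (ha : ∀ i, 0 ≤ a i)
    (hs : ∑ i, a i = ∑ i, delta N i) : ∃ σ : Equiv.Perm (Fin N), a = delta N ∘ σ := by
  refine exists_perm_delta hinj fun i => ⟨ha i, ?_⟩
  have hinj' : Function.Injective fun i => (a i).toNat := fun x y h => hinj (by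
    have := ha x
    have := ha y
    simp only at h
    omega)
  have h1 := card_mul_le_two_sum N ((Finset.univ : Finset (Fin N)).image fun i => (a i).toNat)
    (by rw [Finset.card_image_of_injective _ hinj', Finset.card_univ, Fintype.card_fin])
  rw [Finset.sum_image hinj'.injOn] at h1
  have h2 : (2 * ∑ i, (a i).toNat : ℕ) = N * (N - 1) := by
    have h3 := sum_delta (N := N)
    have h4 : ((∑ i, (a i).toNat : ℕ) : ℤ) = ∑ i, delta N i := by
      rw [← hs, Nat.cast_sum]
      exact Finset.sum_congr rfl fun i _ => Int.toNat_of_nonneg (ha i)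
    omega
  have := h1.2 h2.symm _ (Finset.mem_image_of_mem _ (Finset.mem_univ i))
  have := ha i
  omega

/-- The product of the factorials of the coordinates. -/
def facProd (a : Fin N → ℤ) : ℤ := ∏ i, (((a i).toNat).factorial : ℤ)

/-- The degree formula. -/
theorem chiM_ones : ∀ (w : ℕ) (a : Fin N → ℤ), (∀ i, 0 ≤ a i) →
    ∑ i, a i = w + ∑ i, delta N i →
      chiM (Multiset.replicate w 1) a * facProd a = (w.factorial : ℤ) * alt' a := by
  intro w
  induction w with
  | zero =>
    intro a ha hs
    rw [Multiset.replicate_zero, chiM_zero, Nat.factorial_zero, Nat.cast_one, one_mul]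
    by_cases hinj : Function.Injective a
    · obtain ⟨σ, hσ⟩ := exists_perm_of_min hinj ha (by simpa using hs)
      subst hσ
      rw [match_comp, match_self delta_strictAnti.injective, mul_one, alt_swap, alt_delta, facProd]
      congr 1
      exact Equiv.prod_comp σ fun i => (((delta N i).toNat).factorial : ℤ)
    · rw [alt_zero_of_not_injective hinj]
      refine mul_eq_zero_of_left ?_ _
      by_contra h
      exact hinj (injective_of_match_ne_zero h)
  | succ w ih =>
    intro a ha hs
    have hterm : ∀ i, chiM (Multiset.replicate w 1) (a - Pi.single i (1 : ℤ)) * facProd a =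
        (w.factorial : ℤ) * (a i * alt' (a - Pi.single i (1 : ℤ))) := by
      intro i
      rcases eq_or_lt_of_le (ha i) with h0 | h0
      · rw [← h0, zero_mul, mul_zero]
        refine mul_eq_zero_of_left ?_ _
        by_contra h
        have := (chiM_support _ _ h).2.1 i
        simp only [Pi.sub_apply, Pi.single_eq_same] at this
        omega
      · have hfac : facProd a = a i * facProd (a - Pi.single i (1 : ℤ)) := by
          rw [facProd, facProd, ← Finset.mul_prod_erase _ _ (Finset.mem_univ i),
            ← Finset.mul_prod_erase _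
              (fun j => (((a - (Pi.single i (1 : ℤ) : Fin N → ℤ)) j).toNat.factorial : ℤ))
              (Finset.mem_univ i), ← mul_assoc]
          congr 1
          · simp only [Pi.sub_apply, Pi.single_eq_same]
            obtain ⟨k, hk⟩ : ∃ k : ℕ, a i = (k : ℤ) + 1 := ⟨(a i - 1).toNat, by omega⟩
            rw [hk, add_sub_cancel_right, Int.toNat_natCast,
              show ((k : ℤ) + 1).toNat = k + 1 by omega, Nat.factorial_succ]
            push_cast
            ring
          · exact Finset.prod_congr rfl fun j hj => by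
              simp [Finset.ne_of_mem_erase hj]
        rw [hfac, mul_left_comm, ih _ (nonneg_sub_single ha (by omega)) (by
          rw [sum_sub_single, hs]; push_cast; ring)]
        ring
    rw [Multiset.replicate_succ, chiM_cons, Finset.sum_mul, Nat.cast_one,
      Finset.sum_congr rfl fun i _ => hterm i, ← Finset.mul_sum, alt_euler, hs, Nat.factorial_succ]
    push_cast
    ring

theorem natAbs_alt {a : Fin N → ℤ} :
    (alt' a).natAbs = ∏ i, ∏ j ∈ Finset.Ioi i, (a j - a i).natAbs := by
  set B : Matrix (Fin N) (Fin N) ℤ := Matrix.of fun i j : Fin N => fall (j : ℕ) (a i) with hB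
  have h1 : altMat a = B.submatrix id Fin.rev := by
    ext i j
    simp only [altMat, hB, Matrix.submatrix_apply, Matrix.of_apply, id, Fin.val_rev]
    congr 1
    omega
  have h2 : B.det = (Matrix.vandermonde a).det :=
    (Matrix.det_eval_matrixOfPolynomials_eq_det_vandermonde a (fun j => descPochhammer ℤ (j : ℕ))
      (fun j => descPochhammer_natDegree (R := ℤ) _) fun j => monic_descPochhammer ℤ _).symm
  have h3 : (alt' a).natAbs = B.det.natAbs := by
    rw [alt', h1, show (Fin.rev : Fin N → Fin N) = (Fin.revPerm : Equiv.Perm (Fin N)) from rfl,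
      Matrix.det_permute', Int.natAbs_mul]
    simp
  rw [h3, h2, Matrix.det_vandermonde]
  simp only [← Int.natAbsHom_apply, map_prod]

/-! ### Holes -/

/-- The valuation of the hook product: differences of values and holes below. -/
def hv (p : ℕ) (S : Finset ℕ) : ℕ :=
  ∑ x ∈ S, ∑ y ∈ range x \ S, (x - y).factorization p

theorem factorial_val (p x : ℕ) :
    (x.factorial).factorization p = ∑ y ∈ range x, (x - y).factorization p := by
  induction x with
  | zero => simp
  | succ x ih =>
    rw [Nat.factorial_succ, Nat.factorization_mul x.succ_ne_zero x.factorial_ne_zero,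
      Finsupp.add_apply, ih, Finset.sum_range_succ', Nat.sub_zero, add_comm]
    congr 1
    exact Finset.sum_congr rfl fun y _ => by congr 2; omega

theorem factorization_prod_apply {ι : Type*} (s : Finset ι) (f : ι → ℕ) (h : ∀ i ∈ s, f i ≠ 0) :
    (∏ i ∈ s, f i).factorization p = ∑ i ∈ s, (f i).factorization p := by
  rw [Nat.factorization_prod h, Finsupp.finsetSum_apply]

theorem alt_val {a : Fin N → ℤ} (hinj : Function.Injective a) (ha : ∀ i, 0 ≤ a i) :
    (alt' a).natAbs.factorization p =
      ∑ x ∈ valSet a, ∑ y ∈ (range x).filter (· ∈ valSet a), (x - y).factorization p := by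
  set b : Fin N → ℕ := fun i => (a i).toNat with hb
  have hbinj : Function.Injective b := fun x y h => hinj (by
    have := ha x
    have := ha y
    simp only [hb] at h
    omega)
  set v : Fin N → Fin N → ℕ := fun i j => (a j - a i).natAbs.factorization p with hv
  have hsym : ∀ i j, v i j = v j i := fun i j => by
    simp only [hv]; rw [← Int.natAbs_neg, neg_sub]
  have hL : (alt' a).natAbs.factorization p = ∑ i, ∑ j, if i < j then v i j else 0 := by
    have hne : ∀ i, ∀ j ∈ Finset.Ioi i, (a j - a i).natAbs ≠ 0 := fun i j hj =>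
      Int.natAbs_ne_zero.2 (sub_ne_zero.2 fun h => (Finset.mem_Ioi.1 hj).ne' (hinj h))
    rw [natAbs_alt, factorization_prod_apply _ _ fun i _ => Finset.prod_ne_zero_iff.2 (hne i)]
    refine Finset.sum_congr rfl fun i _ => ?_
    rw [factorization_prod_apply _ _ (hne i), ← Finset.sum_filter]
    refine Finset.sum_congr ?_ fun j _ => rfl
    ext j; simp
  have hR : ∑ x ∈ valSet a, ∑ y ∈ (range x).filter (· ∈ valSet a), (x - y).factorization p =
      ∑ i, ∑ j, if b j < b i then v i j else 0 := by
    rw [valSet, Finset.sum_image hbinj.injOn]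
    refine Finset.sum_congr rfl fun i _ => ?_
    rw [show (range (b i)).filter (· ∈ Finset.univ.image b) =
        (Finset.univ.filter fun j => b j < b i).image b by
      ext y
      simp only [Finset.mem_filter, Finset.mem_range, Finset.mem_image, Finset.mem_univ, true_and]
      exact ⟨fun ⟨h, j, hj⟩ => ⟨j, hj ▸ h, hj⟩, fun ⟨j, h, hj⟩ => ⟨hj ▸ h, j, hj⟩⟩,
      Finset.sum_image hbinj.injOn, Finset.sum_filter]
    refine Finset.sum_congr rfl fun j _ => ?_
    split_ifs with h
    · simp only [hv]
      congr 2
      have := ha i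
      have := ha j
      simp only [hb] at h ⊢
      omega
    · rfl
  have key : ∀ c : Fin N → ℕ, Function.Injective c →
      2 * ∑ i, ∑ j, (if c i < c j then v i j else 0) = ∑ i, ∑ j, if i ≠ j then v i j else 0 := by
    intro c hc
    rw [two_mul]
    nth_rewrite 2 [Finset.sum_comm]
    rw [← Finset.sum_add_distrib]
    refine Finset.sum_congr rfl fun i _ => ?_
    rw [← Finset.sum_add_distrib]
    refine Finset.sum_congr rfl fun j _ => ?_
    rw [hsym j i]
    rcases eq_or_ne i j with rfl | hij
    · simp
    · rw [if_pos hij]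
      rcases lt_or_gt_of_ne (fun h => hij (hc h)) with h | h
      · rw [if_pos h, if_neg (by omega), add_zero]
      · rw [if_neg (by omega), if_pos h, zero_add]
  have h1 : ∑ i, ∑ j, (if i < j then v i j else 0) =
      ∑ i : Fin N, ∑ j : Fin N, if (i : ℕ) < (j : ℕ) then v i j else 0 :=
    Finset.sum_congr rfl fun i _ => Finset.sum_congr rfl fun j _ =>
      if_congr Fin.lt_def rfl rfl
  have h2 : ∑ i, ∑ j, (if b j < b i then v i j else 0) =
      ∑ i, ∑ j, if b i < b j then v i j else 0 := by
    rw [Finset.sum_comm]
    exact Finset.sum_congr rfl fun i _ => Finset.sum_congr rfl fun j _ => by rw [hsym j i]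
  have k1 := key (fun i => (i : ℕ)) Fin.val_injective
  have k2 := key b hbinj
  rw [hL, hR, h1, h2]
  omega

/-- The valuation of the degree. -/
theorem degree_val (hp : p.Prime) {a : Fin N → ℤ} {w : ℕ} (hinj : Function.Injective a)
    (ha : ∀ i, 0 ≤ a i) (hs : ∑ i, a i = w + ∑ i, delta N i) :
    chiM (Multiset.replicate w 1) a ≠ 0 ∧
      (chiM (Multiset.replicate w 1) a).natAbs.factorization p + hv p (valSet a) =
        w.factorial.factorization p := by
  have h := chiM_ones w a ha hs
  have halt : alt' a ≠ 0 := by
    intro h0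
    have h1 := natAbs_alt (a := a)
    rw [h0, Int.natAbs_zero, eq_comm, Finset.prod_eq_zero_iff] at h1
    obtain ⟨i, -, hi⟩ := h1
    obtain ⟨j, hj, hji⟩ := Finset.prod_eq_zero_iff.1 hi
    rw [Int.natAbs_eq_zero, sub_eq_zero] at hji
    exact (Finset.mem_Ioi.1 hj).ne' (hinj hji)
  have hne : chiM (Multiset.replicate w 1) a ≠ 0 := by
    intro h0
    rw [h0, zero_mul] at h
    exact mul_ne_zero (Nat.cast_ne_zero.2 w.factorial_ne_zero) halt h.symm
  refine ⟨hne, ?_⟩
  have h' := congrArg Int.natAbs h
  rw [Int.natAbs_mul, Int.natAbs_mul, Int.natAbs_natCast] at h'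
  have hfp : (facProd a).natAbs = ∏ i, ((a i).toNat).factorial := by
    rw [facProd, ← Nat.cast_prod, Int.natAbs_natCast]
  have h2 := congrArg (fun n : ℕ => n.factorization p) h'
  rw [hfp, Nat.factorization_mul (Int.natAbs_ne_zero.2 hne)
      (Finset.prod_ne_zero_iff.2 fun i _ => Nat.factorial_ne_zero _),
    Nat.factorization_mul w.factorial_ne_zero (Int.natAbs_ne_zero.2 halt), Finsupp.add_apply,
    Finsupp.add_apply, factorization_prod_apply _ _ (fun i _ => Nat.factorial_ne_zero _),
    alt_val hinj ha] at h2
  have h3 : ∑ i, ((a i).toNat).factorial.factorization p =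
      hv p (valSet a) +
        ∑ x ∈ valSet a, ∑ y ∈ (range x).filter (· ∈ valSet a), (x - y).factorization p := by
    have hinj' : Set.InjOn (fun i => (a i).toNat) ((Finset.univ : Finset (Fin N)) : Set (Fin N)) :=
      fun x _ y _ hxy => hinj (by
        have := ha x
        have := ha y
        simp only at hxy
        omega)
    rw [hv, ← Finset.sum_add_distrib, show ∑ i, ((a i).toNat).factorial.factorization p =
      ∑ x ∈ valSet a, x.factorial.factorization p by rw [valSet, Finset.sum_image hinj']]
    refine Finset.sum_congr rfl fun x _ => ?_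
    rw [factorial_val, ← Finset.filter_notMem_eq_sdiff,
      add_comm, Finset.sum_filter_add_sum_filter_not]
  omega

/-! ### Runners -/

/-- The holes below the elements. -/
def excN (Q : Finset ℕ) : ℕ := ∑ q ∈ Q, #(range q \ Q)

theorem two_sum_eq : ∀ (Q : Finset ℕ), 2 * ∑ q ∈ Q, q = Q.card * (Q.card - 1) + 2 * excN Q := by
  intro Q
  induction Q using Finset.induction_on_max with
  | empty => simp [excN]
  | insert x Q hlt ih =>
    have hx : x ∉ Q := fun h => lt_irrefl _ (hlt x h)
    have hsub : Q ⊆ range x := fun y hy => Finset.mem_range.2 (hlt y hy)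
    have h1 : #(range x \ insert x Q) + Q.card = x := by
      rw [Finset.sdiff_insert_of_notMem Finset.notMem_range_self,
        Finset.card_sdiff_add_card_eq_card hsub, Finset.card_range]
    have h2 : ∑ q ∈ Q, #(range q \ insert x Q) = excN Q := Finset.sum_congr rfl fun q hq => by
      rw [Finset.sdiff_insert_of_notMem fun h => by
        have := hlt q hq
        have := Finset.mem_range.1 h
        omega]
    rw [Finset.sum_insert hx, Finset.card_insert_of_notMem hx, excN, Finset.sum_insert hx, h2,
      Nat.add_sub_cancel]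
    rcases Nat.eq_zero_or_pos Q.card with h0 | h0
    · rw [h0] at h1 ih ⊢; omega
    · have h4 : (Q.card + 1) * Q.card = Q.card * (Q.card - 1) + 2 * Q.card := by
        obtain ⟨k, hk⟩ := Nat.exists_eq_succ_of_ne_zero h0.ne'
        rw [hk]
        simp only [Nat.succ_eq_add_one, Nat.add_sub_cancel]
        ring
      omega

theorem hv_runners (hp : p.Prime) (S : Finset ℕ) :
    hv p S = ∑ r ∈ range p, (excN (runner p S r) + hv p (runner p S r)) := by
  have hp0 := hp.pos
  rw [hv, ← Finset.sum_fiberwise_of_maps_to (g := fun x => x % p) (t := range p)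
    (fun x _ => Finset.mem_range.2 (Nat.mod_lt _ hp0))]
  refine Finset.sum_congr rfl fun r hr => ?_
  have hrp := Finset.mem_range.1 hr
  rw [excN, hv, ← Finset.sum_add_distrib]
  have himg : S.filter (fun x => x % p = r) = (runner p S r).image fun q => p * q + r := by
    ext x
    simp only [Finset.mem_filter, Finset.mem_image]
    constructor
    · rintro ⟨hx, hxr⟩
      refine ⟨x / p, (mem_runner hrp).2 ?_, ?_⟩ <;> rw [← hxr, Nat.div_add_mod]
      exact hx
    · rintro ⟨q, hq, rfl⟩
      exact ⟨(mem_runner hrp).1 hq, by rw [Nat.mul_add_mod, Nat.mod_eq_of_lt hrp]⟩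
  have hinj : ∀ q q', p * q + r = p * q' + r → q = q' := fun q q' h =>
    Nat.eq_of_mul_eq_mul_left hp0 (by omega)
  rw [himg, Finset.sum_image fun q _ q' _ h => hinj q q' h]
  refine Finset.sum_congr rfl fun q _ => ?_
  rw [Finset.card_eq_sum_ones, ← Finset.sum_add_distrib]
  rw [← Finset.sum_filter_add_sum_filter_not (range (p * q + r) \ S) (fun y => y % p = r)]
  rw [Finset.sum_eq_zero (s := Finset.filter (fun y => ¬ y % p = r) _) fun y hy => ?_, add_zero]
  · have himg2 : (range (p * q + r) \ S).filter (fun y => y % p = r) =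
        (range q \ runner p S r).image fun q' => p * q' + r := by
      ext y
      simp only [Finset.mem_filter, Finset.mem_image, Finset.mem_sdiff, Finset.mem_range,
        mem_runner hrp]
      constructor
      · rintro ⟨⟨hy, hyS⟩, hyr⟩
        have hd := Nat.div_add_mod y p
        rw [hyr] at hd
        refine ⟨y / p, ⟨Nat.lt_of_mul_lt_mul_left (a := p) (by omega), by rwa [hd]⟩, hd⟩
      · rintro ⟨q', ⟨hq', hS⟩, rfl⟩
        have := Nat.mul_lt_mul_of_pos_left hq' hp0
        exact ⟨⟨by omega, hS⟩, by rw [Nat.mul_add_mod, Nat.mod_eq_of_lt hrp]⟩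
    rw [himg2, Finset.sum_image fun q _ q' _ h => hinj q q' h]
    refine Finset.sum_congr rfl fun q' hq' => ?_
    have := Finset.mem_range.1 (Finset.mem_sdiff.1 hq').1
    rw [show p * q + r - (p * q' + r) = p * (q - q') by rw [Nat.mul_sub]; omega,
      Nat.factorization_mul hp0.ne' (by omega), Finsupp.add_apply, hp.factorization_self]
  · obtain ⟨hy1, hy2⟩ := Finset.mem_filter.1 hy
    have := Finset.mem_range.1 (Finset.mem_sdiff.1 hy1).1
    refine Nat.factorization_eq_zero_of_not_dvd fun h => hy2 ?_
    have hmod : (p * q + r) % p = r := by rw [Nat.mul_add_mod, Nat.mod_eq_of_lt hrp]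
    rw [← hmod]
    exact (Nat.modEq_iff_dvd' (by omega)).2 h

/-- The decreasing enumeration. -/
noncomputable def enum (S : Finset ℕ) : Fin S.card → ℤ :=
  fun i => ((S.orderEmbOfFin rfl i.rev : ℕ) : ℤ)

theorem enum_spec (S : Finset ℕ) :
    StrictAnti (enum S) ∧ (∀ i, 0 ≤ enum S i) ∧ valSet (enum S) = S ∧
      ∑ i, enum S i = (excN S : ℤ) + ∑ i, delta S.card i := by
  have hval : valSet (enum S) = S := by
    rw [valSet]
    conv_rhs => rw [← Finset.image_orderEmbOfFin_univ S rfl]
    ext x
    simp only [Finset.mem_image, Finset.mem_univ, true_and, enum, Int.toNat_natCast]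
    exact ⟨fun ⟨i, hi⟩ => ⟨i.rev, hi⟩, fun ⟨i, hi⟩ => ⟨i.rev, by rwa [Fin.rev_rev]⟩⟩
  have hanti : StrictAnti (enum S) := fun i j h =>
    Int.ofNat_lt.2 ((S.orderEmbOfFin rfl).strictMono (Fin.rev_lt_rev.2 h))
  refine ⟨hanti, fun i => Int.natCast_nonneg _, hval, ?_⟩
  have h1 : ∑ i, enum S i = ((∑ x ∈ S, x : ℕ) : ℤ) := by
    conv_rhs => rw [← hval]
    rw [valSet, Finset.sum_image fun i _ j _ h => hanti.injective (by
      simp only [enum, Int.toNat_natCast] at h ⊢; exact_mod_cast h)]
    push_cast [enum, Int.toNat_natCast]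
    rfl
  have h2 := sum_delta (N := S.card)
  have h3 := two_sum_eq S
  rw [h1]
  omega

theorem hv_le (hp : p.Prime) (Q : Finset ℕ) : hv p Q ≤ (excN Q).factorial.factorization p := by
  obtain ⟨h1, h2, h3, h4⟩ := enum_spec Q
  have h := (degree_val hp h1.injective h2 h4).2
  rw [h3] at h
  omega

end Cfsg.Agent.Char.SymChar
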