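import Mathlib

/-!
Alternating functions on integer tuples: the signed matching of two tuples, and the Euler identity
for moving one coordinate down and another one up.
-/

set_option autoImplicit false

namespace Cfsg.Agent.Char.SymChar

open Finset

variable {N : ℕ}

/-- The signed number of ways to match two tuples. -/
def match' (a b : Fin N → ℤ) : ℤ :=
  ∑ σ : Equiv.Perm (Fin N), if a = b ∘ σ then (Equiv.Perm.sign σ : ℤ) else 0

theorem match_comp (τ : Equiv.Perm (Fin N)) (a b : Fin N → ℤ) :
    match' (a ∘ τ) b = (Equiv.Perm.sign τ : ℤ) * match' a b := by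
  rw [match', match', Finset.mul_sum]
  refine (Fintype.sum_equiv (Equiv.mulRight τ) _ _ fun σ => ?_).symm
  rw [Equiv.coe_mulRight, Equiv.Perm.coe_mul, ← Function.comp_assoc, map_mul]
  by_cases h : a = b ∘ σ
  · rw [if_pos h, if_pos (by rw [h]), Units.val_mul, mul_comm]
  · rw [if_neg h, if_neg (fun h' => h (τ.surjective.injective_comp_right h')), mul_zero]

theorem match_symm (a b : Fin N → ℤ) : match' a b = match' b a := by
  rw [match', match']
  refine Fintype.sum_equiv (Equiv.inv (Equiv.Perm (Fin N))) _ _ fun σ => ?_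
  have h : (a = b ∘ σ) ↔ (b = a ∘ (σ⁻¹ : Equiv.Perm (Fin N))) := by
    constructor
    · intro h; funext x; simp [h]
    · intro h; funext x; simp [h]
  simp only [Equiv.inv_apply, Equiv.Perm.sign_inv]
  exact if_congr h rfl rfl

theorem exists_of_match_ne_zero {a b : Fin N → ℤ} (h : match' a b ≠ 0) :
    ∃ σ : Equiv.Perm (Fin N), a = b ∘ σ := by
  by_contra hno
  exact h (Finset.sum_eq_zero fun σ _ => if_neg fun h' => hno ⟨σ, h'⟩)

theorem comp_swap_of_eq {a : Fin N → ℤ} {i j : Fin N} (h : a i = a j) : a ∘ Equiv.swap i j = a := by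
  funext x
  rcases Equiv.swap_apply_def i j x with _
  by_cases hx : x = i
  · subst hx; simp [h]
  by_cases hy : x = j
  · subst hy; simp [h]
  simp [Equiv.swap_apply_of_ne_of_ne hx hy]

theorem injective_of_match_ne_zero {a b : Fin N → ℤ} (h : match' a b ≠ 0) :
    Function.Injective a := by
  intro i j hij
  by_contra hne
  have h1 := match_comp (Equiv.swap i j) a b
  rw [comp_swap_of_eq hij, Equiv.Perm.sign_swap hne] at h1
  push_cast at h1
  omega

theorem match_self {a : Fin N → ℤ} (ha : Function.Injective a) : match' a a = 1 := by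
  rw [match', Finset.sum_eq_single 1]
  · simp
  · intro σ _ hσ
    exact if_neg fun h => hσ (Equiv.ext fun x => ha ((congrFun h x).symm))
  · simp

theorem eq_of_match_ne_zero {a b : Fin N → ℤ} (ha : StrictAnti a) (hb : StrictAnti b)
    (h : match' a b ≠ 0) : a = b := by
  obtain ⟨σ, hσ⟩ := exists_of_match_ne_zero h
  have hm : StrictMono σ := by
    intro x y hxy
    have h1 := ha hxy
    rw [hσ] at h1
    exact hb.lt_iff_gt.1 h1
  have : (σ : Fin N → Fin N) = id := funext fun x => by
    have h1 := congrArg (fun e : Fin N ≃o Fin N => e x) (Subsingleton.elim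
      (StrictMono.orderIsoOfSurjective σ hm σ.surjective) (OrderIso.refl (Fin N)))
    simpa using h1
  rw [hσ, this, Function.comp_id]

/-- A set of naturals has sum at least that of an initial segment, with equality only there. -/
theorem card_mul_le_two_sum : ∀ (m : ℕ) (s : Finset ℕ), s.card = m →
    m * (m - 1) ≤ 2 * ∑ x ∈ s, x ∧ (m * (m - 1) = 2 * ∑ x ∈ s, x → ∀ x ∈ s, x < m) := by
  intro m
  induction m with
  | zero => intro s hs; simp [Finset.card_eq_zero.1 hs]
  | succ m IH =>
    intro s hs
    have hne : s.Nonempty := Finset.card_pos.1 (by omega)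
    obtain ⟨hmem, hmax⟩ : s.max' hne ∈ s ∧ ∀ x ∈ s, x ≤ s.max' hne :=
      ⟨s.max'_mem hne, fun x hx => s.le_max' x hx⟩
    generalize s.max' hne = M at hmem hmax
    have hM : m ≤ M := by
      have h1 := Finset.card_le_card (show s ⊆ Finset.range (M + 1) from fun x hx =>
        Finset.mem_range.2 (Nat.lt_succ_of_le (hmax x hx)))
      rw [hs, Finset.card_range] at h1
      omega
    obtain ⟨h1, h2⟩ := IH (s.erase M) (by rw [Finset.card_erase_of_mem hmem, hs]; omega)
    rw [← Finset.sum_erase_add s (fun x => x) hmem]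
    have h3 : (m + 1) * (m + 1 - 1) = m * (m - 1) + 2 * m := by
      rcases Nat.eq_zero_or_pos m with rfl | hm
      · rfl
      · obtain ⟨k, rfl⟩ := Nat.exists_eq_succ_of_ne_zero hm.ne'
        simp only [Nat.succ_eq_add_one, Nat.add_sub_cancel]
        ring
    refine ⟨by omega, fun he x hx => ?_⟩
    have := hmax x hx
    omega

theorem rank_bound (I : Finset (Fin N)) (q : Fin N → ℕ) (hq : Set.InjOn q (I : Set (Fin N))) :
    I.card * (I.card - 1) ≤ 2 * ∑ i ∈ I, q i ∧
      (I.card * (I.card - 1) = 2 * ∑ i ∈ I, q i → ∀ i ∈ I, q i < I.card) := by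
  have h := card_mul_le_two_sum I.card (I.image q) (Finset.card_image_of_injOn hq)
  rw [Finset.sum_image hq] at h
  exact ⟨h.1, fun he i hi => h.2 he _ (Finset.mem_image_of_mem q hi)⟩

/-- The Euler identity. -/
theorem euler {V : Type*} [AddCommGroup V] [Module ℂ V] (E : (Fin N → ℤ) → V)
    (hE : ∀ a (i j : Fin N), i ≠ j → E (a ∘ Equiv.swap i j) = - E a)
    (p : ℕ) (I : Finset (Fin N)) (r : ℤ) (q : Fin N → ℕ) (a : Fin N → ℤ)
    (ha : ∀ i ∈ I, a i = p * q i + r) :
    ∑ i ∈ I, ∑ k ∈ range (q i), ∑ j ∈ I,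
        E (a - Pi.single i ((p : ℤ) * (k + 1 : ℕ)) + Pi.single j ((p : ℤ) * (k + 1 : ℕ))) =
      (((∑ i ∈ I, q i : ℕ) : ℂ) - ((I.card * (I.card - 1) : ℕ) : ℂ) / 2) • E a := by
  classical
  set T : Fin N → Fin N → V := fun i j => ∑ k ∈ range (q i),
    E (a - Pi.single i ((p : ℤ) * (k + 1 : ℕ)) + Pi.single j ((p : ℤ) * (k + 1 : ℕ))) with hT
  have hdiag : ∀ i, T i i = (q i : ℂ) • E a := fun i => by
    simp only [hT, sub_add_cancel, Finset.sum_const, Finset.card_range, Nat.cast_smul_eq_nsmul]
  have hpair : ∀ i ∈ I, ∀ j ∈ I, i ≠ j → T i j + T j i = - E a := by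
    intro i hi j hj hij
    set s := q i + q j with hs
    set g : ℕ → (Fin N → ℤ) := fun u => Function.update
      (Function.update a i ((p : ℤ) * u + r)) j ((p : ℤ) * ((s : ℤ) - u) + r) with hg
    have hgself : g (q i) = a := by
      funext x
      rcases eq_or_ne x j with rfl | hxj
      · simp [hg, hs, ha x hj]
      rcases eq_or_ne x i with rfl | hxi
      · simp [hg, Function.update_of_ne hxj, ha x hi]
      · simp [hg, Function.update_of_ne hxj, Function.update_of_ne hxi]
    have h1 : T i j = ∑ u ∈ range (q i), E (g u) := by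
      rw [← Finset.sum_range_reflect (fun u => E (g u)) (q i)]
      refine Finset.sum_congr rfl fun k hk => congrArg E (funext fun x => ?_)
      have hk' := Finset.mem_range.1 hk
      have hu : ((q i - 1 - k : ℕ) : ℤ) = (q i : ℤ) - 1 - k := by omega
      rcases eq_or_ne x j with rfl | hxj
      · simp [hg, hij.symm, hu, hs, ha x hj]
        ring
      rcases eq_or_ne x i with rfl | hxi
      · simp [hg, Function.update_of_ne hxj, hxj, hu, ha x hi]
        ring
      · simp [hg, Function.update_of_ne hxj, Function.update_of_ne hxi, hxj, hxi]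
    have h2 : T j i = ∑ k ∈ range (q j), E (g (q i + 1 + k)) := by
      refine Finset.sum_congr rfl fun k _ => congrArg E (funext fun x => ?_)
      rcases eq_or_ne x j with rfl | hxj
      · simp [hg, hij.symm, hs, ha x hj]
        ring
      rcases eq_or_ne x i with rfl | hxi
      · simp [hg, Function.update_of_ne hxj, hxj, ha x hi]
        ring
      · simp [hg, Function.update_of_ne hxj, Function.update_of_ne hxi, hxj, hxi]
    have hanti : ∀ u ∈ range (s + 1), E (g (s + 1 - 1 - u)) = - E (g u) := by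
      intro u hu
      have hu' := Finset.mem_range.1 hu
      rw [← hE (g u) i j hij]
      refine congrArg E (funext fun x => ?_)
      have hcast : ((s - u : ℕ) : ℤ) = (s : ℤ) - u := by omega
      rcases eq_or_ne x j with rfl | hxj
      · simp [hg, hcast, Function.update_of_ne hij]
      rcases eq_or_ne x i with rfl | hxi
      · simp [hg, Function.update_of_ne hxj, hcast]
      · simp [hg, Function.update_of_ne hxj, Function.update_of_ne hxi,
          Equiv.swap_apply_of_ne_of_ne hxi hxj]
    have hS : ∑ u ∈ range (s + 1), E (g u) = 0 := by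
      have h := Finset.sum_range_reflect (fun u => E (g u)) (s + 1)
      rw [Finset.sum_congr rfl hanti, Finset.sum_neg_distrib] at h
      have h' : (2 : ℂ) • (∑ u ∈ range (s + 1), E (g u)) = 0 := by
        rw [two_smul]
        nth_rewrite 1 [← h]
        exact neg_add_cancel _
      exact (smul_eq_zero.1 h').resolve_left two_ne_zero
    rw [show s + 1 = q i + 1 + q j by omega, Finset.sum_range_add, Finset.sum_range_succ,
      hgself, ← h1, ← h2] at hS
    rw [eq_neg_iff_add_eq_zero, ← hS]
    abel
  have hsum : ∑ i ∈ I, ∑ k ∈ range (q i), ∑ j ∈ I,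
      E (a - Pi.single i ((p : ℤ) * (k + 1 : ℕ)) + Pi.single j ((p : ℤ) * (k + 1 : ℕ))) =
      ∑ i ∈ I, ∑ j ∈ I, T i j := Finset.sum_congr rfl fun i _ => Finset.sum_comm
  rw [hsum]
  have key : (2 : ℂ) • (∑ i ∈ I, ∑ j ∈ I, T i j) =
      ∑ i ∈ I, ∑ j ∈ I, (T i j + T j i) := by
    simp only [Finset.sum_add_distrib]
    rw [two_smul, Finset.sum_comm (s := I) (t := I) (f := fun i j => T j i)]
  have key2 : ∑ i ∈ I, ∑ j ∈ I, (T i j + T j i) =
      ((2 * (∑ i ∈ I, q i) : ℕ) : ℂ) • E a - ((I.card * (I.card - 1) : ℕ) : ℂ) • E a := by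
    have h : ∀ i ∈ I, ∑ j ∈ I, (T i j + T j i) =
        ((2 * q i : ℕ) : ℂ) • E a - ((I.card - 1 : ℕ) : ℂ) • E a := by
      intro i hi
      rw [← Finset.add_sum_erase I _ hi, hdiag,
        Finset.sum_congr rfl (fun j hj => hpair i hi j (Finset.mem_of_mem_erase hj)
          (Finset.ne_of_mem_erase hj).symm), Finset.sum_const, Finset.card_erase_of_mem hi,
        ← Nat.cast_smul_eq_nsmul ℂ, smul_neg, ← add_smul, ← sub_eq_add_neg]
      push_cast
      ring_nf
    rw [Finset.sum_congr rfl h, Finset.sum_sub_distrib, ← Finset.sum_smul, Finset.sum_const,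
      ← Nat.cast_smul_eq_nsmul ℂ, smul_smul]
    push_cast [Finset.mul_sum]
    ring_nf
  refine smul_right_injective V (two_ne_zero (α := ℂ)) ?_
  show (2 : ℂ) • _ = (2 : ℂ) • _
  rw [key, key2, smul_smul, ← sub_smul]
  push_cast
  ring_nf

end Cfsg.Agent.Char.SymChar
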