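import Cfsg.Agent.Lib.Char.SymChar.CoreSets

/-!
Shapes of runners with prescribed excess and hole valuation, and families of them one short of the
valuation of the factorial of the weight.
-/

set_option autoImplicit false

namespace Cfsg.Agent.Char.SymChar

open Finset

variable {p : ℕ}

theorem excN_range (k : ℕ) : excN (range k) = 0 :=
  Finset.sum_eq_zero fun _ hq => Finset.card_eq_zero.2 (Finset.sdiff_eq_empty_iff_subset.2
    (Finset.range_subset_range.2 (Finset.mem_range.1 hq).le))

theorem hv_range (p k : ℕ) : hv p (range k) = 0 :=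
  Finset.sum_eq_zero fun q hq => by
    rw [Finset.sdiff_eq_empty_iff_subset.2
      (Finset.range_subset_range.2 (Finset.mem_range.1 hq).le), Finset.sum_empty]

theorem eq_range_of_excN {Q : Finset ℕ} (h : excN Q = 0) : Q = range Q.card :=
  eq_range_of_sum rfl (by rw [two_sum_eq, h]; simp)

/-- A bead `w` places above the packed ones. -/
def rowSet (c w : ℕ) : Finset ℕ := insert (c - 1 + w) (range (c - 1))

theorem rowSet_spec (p : ℕ) {c : ℕ} (hc : 0 < c) (w : ℕ) :
    (rowSet c w).card = c ∧ excN (rowSet c w) = w ∧
      hv p (rowSet c w) = w.factorial.factorization p := by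
  have hno : c - 1 + w ∉ range (c - 1) := by simp
  have hlow : ∀ x ∈ range (c - 1), range x \ rowSet c w = ∅ := fun x hx =>
    Finset.sdiff_eq_empty_iff_subset.2 fun y hy => Finset.mem_insert_of_mem (Finset.mem_range.2 (by
      have := Finset.mem_range.1 hy
      have := Finset.mem_range.1 hx
      omega))
  have htop : range (c - 1 + w) \ rowSet c w = (range w).image (fun j => c - 1 + j) := by
    ext y
    simp only [rowSet, Finset.mem_sdiff, Finset.mem_range, Finset.mem_insert, Finset.mem_image]
    constructor
    · intro h; exact ⟨y - (c - 1), by omega, by omega⟩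
    · rintro ⟨j, hj, rfl⟩; omega
  have hinj : Function.Injective fun j => c - 1 + j := add_right_injective _
  refine ⟨?_, ?_, ?_⟩
  · rw [rowSet, Finset.card_insert_of_notMem hno, Finset.card_range]; omega
  · rw [excN, show rowSet c w = insert (c - 1 + w) (range (c - 1)) from rfl, Finset.sum_insert hno,
      ← rowSet, htop, Finset.card_image_of_injective _ hinj, Finset.card_range,
      Finset.sum_eq_zero fun x hx => by rw [hlow x hx, Finset.card_empty], add_zero]
  · have hz : ∑ x ∈ range (c - 1), ∑ y ∈ range x \ rowSet c w, (x - y).factorization p = 0 :=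
      Finset.sum_eq_zero fun x hx => by rw [hlow x hx, Finset.sum_empty]
    rw [hv, show rowSet c w = insert (c - 1 + w) (range (c - 1)) from rfl, Finset.sum_insert hno,
      ← rowSet, htop, Finset.sum_image hinj.injOn, hz, add_zero, factorial_val]
    exact Finset.sum_congr rfl fun j _ => by congr 2; omega

/-- A hook. -/
def hookSet (c W b : ℕ) : Finset ℕ :=
  insert (c - 1 + W - b) (range (c - b - 1) ∪ Ico (c - b) c)

theorem hookSet_spec (p : ℕ) {c W b : ℕ} (hc : b < c) (hW : b < W) :
    (hookSet c W b).card = c ∧ excN (hookSet c W b) = W ∧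
      hv p (hookSet c W b) = b.factorial.factorization p + W.factorization p +
        (W - b - 1).factorial.factorization p := by
  set y := c - b - 1 with hy
  have hdisj : Disjoint (range y) (Ico (c - b) c) := Finset.disjoint_left.2 fun x h1 h2 => by
    simp only [Finset.mem_range, Finset.mem_Ico] at h1 h2; omega
  have hno : c - 1 + W - b ∉ range y ∪ Ico (c - b) c := by
    simp only [Finset.mem_union, Finset.mem_range, Finset.mem_Ico]; omega
  have hlow : ∀ x ∈ range y, range x \ hookSet c W b = ∅ := fun x hx =>
    Finset.sdiff_eq_empty_iff_subset.2 fun z hz => Finset.mem_insert_of_mem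
      (Finset.mem_union_left _ (Finset.mem_range.2 (by
        have := Finset.mem_range.1 hz
        have := Finset.mem_range.1 hx
        omega)))
  have hmid : ∀ x ∈ Ico (c - b) c, range x \ hookSet c W b = {y} := fun x hx => by
    simp only [Finset.mem_Ico] at hx
    ext z
    simp only [hookSet, Finset.mem_sdiff, Finset.mem_range, Finset.mem_insert, Finset.mem_union,
      Finset.mem_Ico, Finset.mem_singleton]
    omega
  have htop : range (c - 1 + W - b) \ hookSet c W b =
      insert y ((range (W - b - 1)).image fun j => c + j) := by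
    ext z
    simp only [hookSet, Finset.mem_sdiff, Finset.mem_range, Finset.mem_insert, Finset.mem_union,
      Finset.mem_Ico, Finset.mem_image]
    constructor
    · intro h
      rcases Nat.lt_or_ge z c with h1 | h1
      · left; omega
      · right; exact ⟨z - c, by omega, by omega⟩
    · rintro (rfl | ⟨j, hj, rfl⟩) <;> omega
  have hny : y ∉ (range (W - b - 1)).image fun j => c + j := by
    simp only [Finset.mem_image, not_exists, not_and]
    intro j _
    omega
  have hinj : Function.Injective fun j => c + j := add_right_injective _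
  refine ⟨?_, ?_, ?_⟩
  · rw [hookSet, Finset.card_insert_of_notMem hno, Finset.card_union_of_disjoint hdisj,
      Finset.card_range, Nat.card_Ico]
    omega
  · rw [excN, show hookSet c W b = insert (c - 1 + W - b) (range y ∪ Ico (c - b) c) from rfl,
      Finset.sum_insert hno, Finset.sum_union hdisj,
      show insert (c - 1 + W - b) (range y ∪ Ico (c - b) c) = hookSet c W b from rfl, htop,
      Finset.card_insert_of_notMem hny, Finset.card_image_of_injective _ hinj, Finset.card_range,
      Finset.sum_eq_zero fun x hx => by rw [hlow x hx, Finset.card_empty],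
      Finset.sum_congr rfl fun x hx => by rw [hmid x hx, Finset.card_singleton], Finset.sum_const,
      Nat.card_Ico, smul_eq_mul]
    omega
  · have hb : ∑ x ∈ Ico (c - b) c, (x - y).factorization p = b.factorial.factorization p := by
      rw [factorial_val]
      refine Finset.sum_nbij' (fun x => c - 1 - x) (fun j => c - 1 - j) ?_ ?_ ?_ ?_ ?_ <;>
        intro x hx <;>
        simp only [Finset.mem_coe, Finset.mem_Ico, Finset.mem_range] at hx ⊢ <;>
        first | omega | (congr 2; omega)
    have hz : ∑ x ∈ range y, ∑ z ∈ range x \ hookSet c W b, (x - z).factorization p = 0 :=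
      Finset.sum_eq_zero fun x hx => by rw [hlow x hx, Finset.sum_empty]
    have hm : ∑ x ∈ Ico (c - b) c, ∑ z ∈ range x \ hookSet c W b, (x - z).factorization p =
        b.factorial.factorization p :=
      (Finset.sum_congr rfl fun x hx => by rw [hmid x hx, Finset.sum_singleton]).trans hb
    rw [hv, show hookSet c W b = insert (c - 1 + W - b) (range y ∪ Ico (c - b) c) from rfl,
      Finset.sum_insert hno, Finset.sum_union hdisj,
      show insert (c - 1 + W - b) (range y ∪ Ico (c - b) c) = hookSet c W b from rfl, htop,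
      Finset.sum_insert hny, Finset.sum_image hinj.injOn,
      hz, hm, show c - 1 + W - b - y = W by omega, factorial_val p (W - b - 1)]
    rw [Finset.sum_congr rfl fun j hj => show (c - 1 + W - b - (c + j)).factorization p =
      (W - b - 1 - j).factorization p by congr 2; omega]
    ring

/-- Split off the largest bead. -/
theorem excN_top {Q : Finset ℕ} (h : excN Q ≠ 0) :
    ∃ x ∈ Q, x = (Q.erase x).card + #(range x \ Q) ∧ 0 < #(range x \ Q) ∧
      excN Q = excN (Q.erase x) + #(range x \ Q) := by
  have hne : Q.Nonempty := by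
    rw [Finset.nonempty_iff_ne_empty]
    rintro rfl
    exact h rfl
  set x := Q.sup id with hx
  have hmem : x ∈ Q := sup_mem hne
  have hle : ∀ q ∈ Q, q ≤ x := fun q hq => Finset.le_sup (f := id) hq
  have hsub : Q.erase x ⊆ range x := fun q hq => by
    obtain ⟨hq1, hq2⟩ := Finset.mem_erase.1 hq
    exact Finset.mem_range.2 (lt_of_le_of_ne (hle q hq2) hq1)
  have hd : range x \ Q = range x \ Q.erase x := by
    ext y
    simp only [Finset.mem_sdiff, Finset.mem_range, Finset.mem_erase]
    constructor
    · exact fun h => ⟨h.1, fun h' => h.2 h'.2⟩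
    · exact fun h => ⟨h.1, fun h' => h.2 ⟨by omega, h'⟩⟩
  have hc : #(range x \ Q) + (Q.erase x).card = x := by
    rw [hd, Finset.card_sdiff_add_card_eq_card hsub, Finset.card_range]
  refine ⟨x, hmem, by omega, ?_, ?_⟩
  · rw [pos_iff_ne_zero]
    intro h0
    refine h (Finset.sum_eq_zero fun q hq => Finset.card_eq_zero.2 ?_)
    refine Finset.sdiff_eq_empty_iff_subset.2 fun y hy => ?_
    by_contra hyQ
    have hy' : y ∈ range x \ Q := Finset.mem_sdiff.2
      ⟨Finset.mem_range.2 ((Finset.mem_range.1 hy).trans_le (hle q hq)), hyQ⟩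
    rw [Finset.card_eq_zero.1 h0] at hy'
    simp at hy'
  · rw [excN, excN, ← Finset.add_sum_erase _ _ hmem, add_comm]
    refine congrArg (· + _) (Finset.sum_congr rfl fun q hq => ?_)
    congr 1
    have hqx := Finset.mem_range.1 (hsub hq)
    ext y
    simp only [Finset.mem_sdiff, Finset.mem_range, Finset.mem_erase]
    constructor
    · exact fun h => ⟨h.1, fun h' => h.2 h'.2⟩
    · exact fun h => ⟨h.1, fun h' => h.2 ⟨by omega, h'⟩⟩

theorem eq_row_of_excN_one {Q : Finset ℕ} (h : excN Q = 1) : Q = rowSet Q.card 1 := by
  obtain ⟨x, hx, hx1, hx2, hx3⟩ := excN_top (Q := Q) (by omega)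
  have h0 := eq_range_of_excN (Q := Q.erase x) (by omega)
  have hc := Finset.card_erase_of_mem hx
  have hpos := Finset.card_pos.2 ⟨x, hx⟩
  conv_lhs => rw [← Finset.insert_erase hx, h0]
  rw [rowSet]
  congr 1
  · omega
  · congr 1

theorem one_le_hv_two {Q : Finset ℕ} (h : excN Q = 2) : 1 ≤ hv 2 Q := by
  obtain ⟨x, hx, hx1, hx2, hx3⟩ := excN_top (Q := Q) (by omega)
  suffices hy : x - 2 ∈ range x \ Q ∧ 2 ≤ x by
    refine le_trans ?_ (le_trans (Finset.single_le_sum (f := fun y => (x - y).factorization 2)
      (fun _ _ => Nat.zero_le _) hy.1)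
      (Finset.single_le_sum (f := fun z => ∑ y ∈ range z \ Q, (z - y).factorization 2)
        (fun _ _ => Nat.zero_le _) hx))
    rw [show x - (x - 2) = 2 by omega, Nat.prime_two.factorization_self]
  by_cases h1 : excN (Q.erase x) = 0
  · have h0 := eq_range_of_excN h1
    refine ⟨Finset.mem_sdiff.2 ⟨Finset.mem_range.2 (by omega), fun hm => ?_⟩, by omega⟩
    have : x - 2 ∈ range (Q.erase x).card := h0 ▸ Finset.mem_erase.2 ⟨by omega, hm⟩
    have := Finset.mem_range.1 this
    omega
  · have he : excN (Q.erase x) = 1 := by omega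
    have h0 := eq_row_of_excN_one he
    have hpos : 0 < (Q.erase x).card := Finset.card_pos.2 (by
      rw [Finset.nonempty_iff_ne_empty]
      intro hemp
      rw [hemp] at he
      simp [excN] at he)
    refine ⟨Finset.mem_sdiff.2 ⟨Finset.mem_range.2 (by omega), fun hm => ?_⟩, by omega⟩
    have : x - 2 ∈ rowSet (Q.erase x).card 1 := h0 ▸ Finset.mem_erase.2 ⟨by omega, hm⟩
    simp only [rowSet, Finset.mem_insert, Finset.mem_range] at this
    omega

/-! ### Valuations of factorials -/

theorem factorial_val_add (hp : p.Prime) (a : ℕ) : ∀ c < p,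
    (p * a + c).factorial.factorization p = a + a.factorial.factorization p := by
  intro c hc
  induction c with
  | zero => rw [add_zero, Nat.factorization_factorial_mul hp, add_comm]
  | succ c ih =>
    rw [← add_assoc, Nat.factorial_succ, Nat.factorization_mul (by omega) (Nat.factorial_ne_zero _),
      Finsupp.add_apply, ih (by omega), Nat.factorization_eq_zero_of_not_dvd, zero_add]
    intro h
    have := (Nat.dvd_add_right (dvd_mul_right p a)).1 ((add_assoc (p * a) c 1) ▸ h)
    exact absurd (Nat.le_of_dvd (by omega) this) (by omega)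

theorem factorial_val_pred (hp : p.Prime) {a : ℕ} (ha : ¬ p ∣ a) :
    a.factorial.factorization p = (a - 1).factorial.factorization p := by
  obtain ⟨b, rfl⟩ := Nat.exists_eq_succ_of_ne_zero (show a ≠ 0 from fun h => ha (h ▸ dvd_zero p))
  rw [Nat.factorial_succ, Nat.factorization_mul (by omega) (Nat.factorial_ne_zero _),
    Finsupp.add_apply, Nat.factorization_eq_zero_of_not_dvd ha, zero_add, Nat.succ_sub_one]

theorem carry_identity (hp : p.Prime) : ∀ (k A : ℕ), p ^ (k + 1) ∣ A → ¬ p ^ (k + 2) ∣ A →
    (A - p ^ (k + 1) + p ^ k).factorial.factorization p +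
        (p - 1) * (p ^ k).factorial.factorization p + 1 = A.factorial.factorization p := by
  intro k
  induction k with
  | zero =>
    intro A h1 h2
    rw [zero_add, pow_one] at h1
    obtain ⟨a, rfl⟩ := h1
    have ha : ¬ p ∣ a := fun h => h2 (by rw [zero_add, pow_two]; exact Nat.mul_dvd_mul_left p h)
    have ha0 : 0 < a := Nat.pos_of_ne_zero fun h => ha (h ▸ dvd_zero p)
    rw [show p * a - p ^ (0 + 1) + p ^ 0 = p * (a - 1) + 1 by
      rw [zero_add, pow_one, pow_zero, Nat.mul_sub, mul_one], factorial_val_add hp _ _ hp.one_lt,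
      pow_zero, Nat.factorial_one, Nat.factorization_one, Nat.factorization_factorial_mul hp,
      factorial_val_pred hp ha]
    simp only [Finsupp.coe_zero, Pi.zero_apply, mul_zero, add_zero]
    omega
  | succ k ih =>
    intro A h1 h2
    obtain ⟨A', rfl⟩ : p ∣ A := (dvd_pow_self p (by omega)).trans h1
    have h1' : p ^ (k + 1) ∣ A' := Nat.dvd_of_mul_dvd_mul_left hp.pos (by rwa [← pow_succ'])
    have h2' : ¬ p ^ (k + 2) ∣ A' := fun h => h2 (by rw [pow_succ']; exact Nat.mul_dvd_mul_left p h)
    have hle : p ^ (k + 1) ≤ A' := Nat.le_of_dvd (Nat.pos_of_ne_zero fun h => h2' (h ▸ dvd_zero _)) h1'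
    rw [show p * A' - p ^ (k + 1 + 1) + p ^ (k + 1) = p * (A' - p ^ (k + 1) + p ^ k) by
        rw [mul_add, Nat.mul_sub, pow_succ' p (k + 1), pow_succ' p k],
      Nat.factorization_factorial_mul hp, pow_succ' p k, Nat.factorization_factorial_mul hp,
      Nat.factorization_factorial_mul hp, ← ih A' h1' h2']
    have hpk : p ^ (k + 1) = (p - 1) * p ^ k + p ^ k := by
      rw [pow_succ', ← Nat.succ_mul]
      congr 1
      have := hp.one_lt
      omega
    rw [mul_add]
    rw [show p * p ^ k = p ^ (k + 1) from (pow_succ' p k).symm]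
    omega

/-- Runners of given sizes whose hole valuations are one short of the maximum. -/
theorem exists_runners_short (hp : p.Prime) {m : ℕ → ℕ} {W : ℕ} (hW : p ≤ W)
    (h3 : p = 2 → 3 ≤ W) (hpos : ∀ r ∈ range p, 0 < m r) (hbig : ∃ r ∈ range p, p ≤ m r) :
    ∃ Q : ℕ → Finset ℕ, (∀ r ∈ range p, (Q r).card = m r) ∧ ∑ r ∈ range p, excN (Q r) = W ∧
      ∑ r ∈ range p, hv p (Q r) + 1 = W.factorial.factorization p ∧
      (p = 2 → excN (Q 0) ≠ excN (Q 1) ∨
        ∃ q, 2 ≤ q ∧ Q 0 = rowSet (m 0) q ∧ Q 1 = rowSet (m 1) q) := by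
  have hp2 := hp.two_le
  set c := W % p with hc
  have hcp : c < p := Nat.mod_lt _ hp.pos
  set a := W / p with ha
  have hWa : W = p * a + c := (Nat.div_add_mod W p).symm
  have ha0 : 0 < a := Nat.div_pos hW hp.pos
  by_cases hcase : c ≠ 0 ∧ ¬ p ∣ a
  · -- one hook
    obtain ⟨hc0, hpa⟩ := hcase
    obtain ⟨r₀, hr₀, hm⟩ := hbig
    refine ⟨fun r => if r = r₀ then hookSet (m r) W (p - 1) else range (m r), ?_, ?_, ?_, ?_⟩
    · intro r hr
      simp only
      split_ifs with h
      · subst h; exact (hookSet_spec p (by omega) (by omega)).1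
      · exact Finset.card_range _
    · rw [Finset.sum_eq_single r₀ (fun r _ h => by simp [h, excN_range])
        (fun h => absurd hr₀ h)]
      simp only [if_pos]
      exact (hookSet_spec p (by omega) (by omega)).2.1
    · rw [Finset.sum_eq_single r₀ (fun r _ h => by simp [h, hv_range])
        (fun h => absurd hr₀ h)]
      simp only [if_pos]
      rw [(hookSet_spec p (by omega) (by omega)).2.2,
        Nat.factorization_eq_zero_of_not_dvd (show ¬ p ∣ W by
          rw [hWa, Nat.dvd_add_right (dvd_mul_right p a)]
          exact fun h => absurd (Nat.le_of_dvd (by omega) h) (by omega)),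
        show W - (p - 1) - 1 = p * (a - 1) + c by
          rw [Nat.mul_sub, mul_one]
          have : p ≤ p * a := Nat.le_mul_of_pos_right p ha0
          omega,
        factorial_val_add hp _ _ hcp, hWa, factorial_val_add hp _ _ hcp, factorial_val_pred hp hpa]
      have hzero : (p - 1).factorial.factorization p = 0 :=
        Nat.factorization_eq_zero_of_not_dvd fun h => by
          have := (Nat.Prime.dvd_factorial hp).1 h
          omega
      omega
    · intro h2
      subst h2
      left
      have hspec := (hookSet_spec 2 (show 2 - 1 < m r₀ by omega) (show 2 - 1 < W by omega)).2.1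
      have : r₀ = 0 ∨ r₀ = 1 := by have := Finset.mem_range.1 hr₀; omega
      rcases this with rfl | rfl <;> simp [excN_range, hspec] <;> omega
  · -- rows
    have hpa0 : p * a ≠ 0 := Nat.mul_ne_zero hp.ne_zero ha0.ne'
    obtain ⟨k, hk⟩ : ∃ k, (p * a).factorization p = k + 1 :=
      Nat.exists_eq_succ_of_ne_zero (by
        rw [Nat.factorization_mul hp.ne_zero ha0.ne', Finsupp.add_apply, hp.factorization_self]
        omega)
    have h1 : p ^ (k + 1) ∣ p * a := hk ▸ Nat.ordProj_dvd (p * a) p
    have h2 : ¬ p ^ (k + 2) ∣ p * a := fun h => by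
      have := (Nat.Prime.pow_dvd_iff_le_factorization hp hpa0).1 h
      omega
    have hle : p ^ (k + 1) ≤ p * a := Nat.le_of_dvd (by omega) h1
    have hid := carry_identity hp k (p * a) h1 h2
    set w₀ := p * a - p ^ (k + 1) + p ^ k + c with hw₀
    set q := p ^ k with hq
    have hval : w₀.factorial.factorization p = (p * a - p ^ (k + 1) + q).factorial.factorization p := by
      rcases Nat.eq_zero_or_pos c with h | h
      · rw [hw₀, h, add_zero]
      · have hpa : p ∣ a := by
          by_contra hh
          exact hcase ⟨h.ne', hh⟩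
        have hk0 : k ≠ 0 := fun hk0 => h2 (by
          rw [hk0, zero_add, pow_two]; exact Nat.mul_dvd_mul_left p hpa)
        obtain ⟨b, hb⟩ : p ∣ p * a - p ^ (k + 1) + q := dvd_add
          (Nat.dvd_sub (dvd_mul_right p a) (dvd_pow_self p (by omega)))
          (dvd_pow_self p hk0)
        rw [hw₀, hb, factorial_val_add hp _ _ hcp, Nat.factorization_factorial_mul hp, add_comm]
    obtain ⟨w, hw⟩ : ∃ w : ℕ → ℕ, w = fun r => if r = 0 then w₀ else q := ⟨_, rfl⟩
    refine ⟨fun r => rowSet (m r) (w r), fun r hr => (rowSet_spec p (hpos r hr) _).1, ?_, ?_, ?_⟩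
    · rw [Finset.sum_congr rfl fun r hr => (rowSet_spec p (hpos r hr) (w r)).2.1,
        Finset.range_eq_Ico, Finset.sum_eq_sum_Ico_succ_bot hp.pos,
        Finset.sum_congr rfl fun r hr => show w r = q by
          rw [hw]; simp only; rw [if_neg (by have := Finset.mem_Ico.1 hr; omega)],
        Finset.sum_const, Nat.card_Ico, smul_eq_mul, show w 0 = w₀ by simp [hw]]
      have hpk : p ^ (k + 1) = (p - 1) * q + q := by
        rw [hq, pow_succ', ← Nat.succ_mul]
        congr 1
        omega
      simp only [zero_add]
      omega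
    · rw [Finset.sum_congr rfl fun r hr => (rowSet_spec p (hpos r hr) (w r)).2.2,
        Finset.range_eq_Ico, Finset.sum_eq_sum_Ico_succ_bot hp.pos,
        Finset.sum_congr rfl fun r hr => show (w r).factorial.factorization p =
            q.factorial.factorization p by
          rw [hw]; simp only; rw [if_neg (by have := Finset.mem_Ico.1 hr; omega)],
        Finset.sum_const, Nat.card_Ico, smul_eq_mul, show w 0 = w₀ by simp [hw], hval,
        hWa, factorial_val_add hp _ _ hcp, ← add_comm (a.factorial.factorization p),
        ← Nat.factorization_factorial_mul hp, ← hid]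
    · intro hp_two
      subst hp_two
      rw [(rowSet_spec 2 (hpos 0 (by simp)) _).2.1, (rowSet_spec 2 (hpos 1 (by simp)) _).2.1]
      simp only [hw, if_true, one_ne_zero, if_false]
      rcases eq_or_ne w₀ q with h | h
      · refine Or.inr ⟨q, ?_, by rw [h], rfl⟩
        have h5 : (2 : ℕ) ^ (k + 1) = 2 * q := by rw [hq, pow_succ']
        have := h3 rfl
        have : 1 ≤ q := Nat.one_le_two_pow
        omega
      · exact Or.inl h

end Cfsg.Agent.Char.SymChar
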