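import Cfsg.Agent.Lib.Char.SymChar.AltBlock
import Cfsg.Agent.Lib.Char.Clifford

/-!
States with the same core and weight lie in one block, by the second main theorem at a product of
`W` cycles of length `p`.
-/

set_option autoImplicit false

namespace Cfsg.Agent.Char.SymChar

open Finset
open scoped ComplexConjugate

set_option linter.unusedSectionVars false

variable {n N p : ℕ}

theorem rr_core (hp : 0 < p) (a : Fin N → ℤ) (i : Fin N) : rr p (core p a) i = rr p a i := by
  rw [rr, core, Int.toNat_natCast, Nat.mul_add_mod,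
    Nat.mod_eq_of_lt (show rr p a i < p from Nat.mod_lt _ hp)]

/-- The core of a tuple has weight zero. -/
theorem IsW.core_isW (hp : 0 < p) {a : Fin N → ℤ} {m : ℕ → ℕ} {W : ℕ} (h : IsW p m W a)
    (hinj : Function.Injective a) : IsW p m 0 (core p a) := by
  obtain ⟨h1, -, h3, -⟩ := chiM_core hp W a h hinj
  refine ⟨h1, fun r hr => ?_, ?_⟩
  · rw [← h.2.1 r hr]
    simp only [cnt, rr_core hp]
  · have e1 : ∀ c : Fin N → ℤ, (∀ i, 0 ≤ c i) →
        ∑ i, c i = (p : ℤ) * ∑ i, (qq p c i : ℤ) + ∑ i, (rr p c i : ℤ) := fun c hc => by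
      rw [Finset.mul_sum, ← Finset.sum_add_distrib]
      exact Finset.sum_congr rfl fun i _ => coord_eq hc i
    rw [e1 _ h1, e1 _ h.1] at h3
    simp only [rr_core hp] at h3
    have h4 : (p : ℤ) * (∑ i, (qq p (core p a) i : ℤ) + W) = (p : ℤ) * ∑ i, (qq p a i : ℤ) := by
      linarith
    have h5 := mul_left_cancel₀ (by exact_mod_cast hp.ne') h4
    rw [← Nat.cast_sum, ← Nat.cast_sum] at h5
    have := h.2.2
    omega

/-- The centralizer of a permutation. -/
abbrev Cen (x : Equiv.Perm (Fin n)) : Subgroup (Equiv.Perm (Fin n)) :=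
  Subgroup.centralizer ({x} : Set (Equiv.Perm (Fin n)))

/-- The product of `W` cycles of length `p`, and the permutations of its fixed points. -/
structure Slot (p W r : ℕ) (x : Equiv.Perm (Fin n)) (ι : Fin r ↪ Fin n) : Prop where
  size : p * W + r = n
  ct : x.cycleType = Multiset.replicate W p
  fix : ∀ z, x z = z ↔ z ∈ Set.range ι

theorem exists_slot (hp : p.Prime) {W r : ℕ} (h : p * W + r = n) :
    ∃ (x : Equiv.Perm (Fin n)) (ι : Fin r ↪ Fin n), Slot p W r x ι := by
  classical
  obtain ⟨x, hx⟩ := exists_perm_parts (n := n)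
    (ν := Multiset.replicate W p + Multiset.replicate r 1)
    (by rw [Multiset.sum_add, Multiset.sum_replicate, Multiset.sum_replicate, smul_eq_mul,
      smul_eq_mul, mul_one, mul_comm]; exact h)
    (fun i hi => by
      rcases Multiset.mem_add.1 hi with h1 | h1 <;> rw [Multiset.eq_of_mem_replicate h1]
      · exact hp.pos
      · exact one_pos)
  have hne1 : ∀ k : ℕ, (Multiset.replicate k 1).filter (· ≠ 1) = 0 := fun k =>
    Multiset.filter_eq_nil.2 fun y hy h => h (Multiset.eq_of_mem_replicate hy)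
  have hct : x.cycleType = Multiset.replicate W p := by
    have h1 := congrArg (Multiset.filter (· ≠ 1)) hx
    rw [parts, Equiv.Perm.parts_partition, Multiset.filter_add, Multiset.filter_add, hne1, hne1,
      add_zero, add_zero, Multiset.filter_eq_self.2 fun y hy =>
        (Equiv.Perm.one_lt_of_mem_cycleType hy).ne',
      Multiset.filter_eq_self.2 fun y hy => by
        rw [Multiset.eq_of_mem_replicate hy]; exact hp.ne_one] at h1
    exact h1
  have hcard : Fintype.card {z // x z = z} = r := by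
    have h2 := congrArg Multiset.sum hct
    rw [Equiv.Perm.sum_cycleType, Multiset.sum_replicate, smul_eq_mul] at h2
    have h3 : Fintype.card {z // x z = z} + #x.support = n := by
      rw [Fintype.card_subtype, show x.support = Finset.univ.filter fun z => ¬ x z = z from rfl,
        Finset.card_filter_add_card_filter_not, Finset.card_univ, Fintype.card_fin]
    rw [mul_comm p W] at h
    omega
  set j := (Fintype.equivFinOfCardEq hcard).symm
  refine ⟨x, j.toEmbedding.trans (Function.Embedding.subtype _), h, hct, fun z => ⟨fun hz => ?_, ?_⟩⟩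
  · exact ⟨j.symm ⟨z, hz⟩, by simp⟩
  · rintro ⟨i, rfl⟩
    exact (j i).2

variable {W r : ℕ} {x : Equiv.Perm (Fin n)} {ι : Fin r ↪ Fin n}

theorem Slot.disjoint (hs : Slot p W r x ι) (v : Equiv.Perm (Fin r)) :
    Equiv.Perm.Disjoint x (Equiv.Perm.viaEmbeddingHom ι v) := fun z => by
  by_cases hz : z ∈ Set.range ι
  · exact Or.inl ((hs.fix z).2 hz)
  · exact Or.inr (Equiv.Perm.viaEmbedding_apply_of_notMem _ _ _ hz)

theorem Slot.parts_mul (hs : Slot p W r x ι) (v : Equiv.Perm (Fin r)) :
    parts (x * Equiv.Perm.viaEmbeddingHom ι v) = Multiset.replicate W p + parts v := by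
  classical
  have hv : (Equiv.Perm.viaEmbeddingHom ι v).cycleType = v.cycleType := by
    rw [Equiv.Perm.viaEmbeddingHom_apply, Equiv.Perm.viaEmbedding]
    refine Eq.trans ?_ (Equiv.Perm.cycleType_extendDomain (Equiv.ofInjective ι.toFun ι.inj') (g := v))
    congr!
  rw [parts, parts, Equiv.Perm.parts_partition, Equiv.Perm.parts_partition,
    ← Equiv.Perm.sum_cycleType, ← Equiv.Perm.sum_cycleType, (hs.disjoint v).cycleType_mul, hs.ct, hv,
    Multiset.sum_add, Multiset.sum_replicate, smul_eq_mul, add_assoc, Fintype.card_fin,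
    Fintype.card_fin]
  congr 3
  have := hs.size
  rw [mul_comm] at this
  omega

/-- The embedded group. -/
noncomputable def Slot.hom (hs : Slot p W r x ι) :
    Equiv.Perm (Fin r) →* Cen x :=
  (Equiv.Perm.viaEmbeddingHom ι).codRestrict _ fun v =>
    Subgroup.mem_centralizer_singleton_iff.2 (hs.disjoint v).commute.symm.eq

theorem Slot.coe_hom (hs : Slot p W r x ι) (v : Equiv.Perm (Fin r)) :
    ((hs.hom v : Cen x) : Equiv.Perm (Fin n)) =
      Equiv.Perm.viaEmbeddingHom ι v := rfl

theorem Slot.hom_injective (hs : Slot p W r x ι) : Function.Injective hs.hom := fun a b h =>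
  Equiv.Perm.viaEmbeddingHom_injective ι (congrArg Subtype.val h)

theorem Slot.conj (hs : Slot p W r x ι) (c : Cen x) :
    ∃ u : Equiv.Perm (Fin r), ∀ v, c * hs.hom v * c⁻¹ = hs.hom (u * v * u⁻¹) := by
  have hc := Subgroup.mem_centralizer_singleton_iff.1 c.2
  have hmem : ∀ z, x z = z → x ((c : Equiv.Perm (Fin n)) z) = (c : Equiv.Perm (Fin n)) z := by
    intro z hz
    rw [← Equiv.Perm.mul_apply, ← hc, Equiv.Perm.mul_apply, hz]
  have hex : ∀ i, ∃ j, ι j = (c : Equiv.Perm (Fin n)) (ι i) := fun i =>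
    (hs.fix _).1 (hmem _ ((hs.fix _).2 ⟨i, rfl⟩))
  choose u hu using hex
  have hui : Function.Injective u := fun i j h =>
    ι.injective ((c : Equiv.Perm (Fin n)).injective (by rw [← hu, ← hu, h]))
  refine ⟨Equiv.ofBijective u (Finite.injective_iff_bijective.1 hui), fun v => ?_⟩
  set U := Equiv.ofBijective u (Finite.injective_iff_bijective.1 hui) with hU
  refine Subtype.ext (Equiv.ext fun z => ?_)
  rw [Subgroup.coe_mul, Subgroup.coe_mul, Subgroup.coe_inv, hs.coe_hom, hs.coe_hom,
    Equiv.Perm.mul_apply, Equiv.Perm.mul_apply]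
  obtain ⟨w, rfl⟩ := (c : Equiv.Perm (Fin n)).surjective z
  rw [Equiv.Perm.coe_inv, Equiv.symm_apply_apply, Equiv.Perm.viaEmbeddingHom_apply,
    Equiv.Perm.viaEmbeddingHom_apply]
  by_cases hw : w ∈ Set.range ι
  · obtain ⟨i, rfl⟩ := hw
    rw [Equiv.Perm.viaEmbedding_apply, ← hu, ← hu, Equiv.Perm.viaEmbedding_apply,
      show u i = U i from rfl, Equiv.Perm.mul_apply, Equiv.Perm.mul_apply, Equiv.Perm.coe_inv,
      Equiv.symm_apply_apply]
    rfl
  · rw [Equiv.Perm.viaEmbedding_apply_of_notMem _ _ _ hw,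
      Equiv.Perm.viaEmbedding_apply_of_notMem]
    rintro ⟨j, hj⟩
    obtain ⟨i, rfl⟩ := U.surjective j
    exact hw ⟨i, (c : Equiv.Perm (Fin n)).injective ((hu i).symm.trans hj)⟩

instance Slot.range_normal (hs : Slot p W r x ι) : hs.hom.range.Normal := ⟨by
  rintro _ ⟨v, rfl⟩ c
  obtain ⟨u, hu⟩ := hs.conj c
  exact ⟨_, (hu v).symm⟩⟩

variable [Fact p.Prime] {M : Ideal AlgInt}

/-- The regular elements centralizing the cycles separately fix their points. -/
theorem Slot.mem_range (hs : Slot p W r x ι)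
    {g : Cen x} (hg : ¬ p ∣ orderOf g)
    (hgE : g ∈ Subgroup.centralizer
      (((orbitwise (Subgroup.zpowers x)).subgroupOf
        (Cen x)) : Set _)) :
    g ∈ hs.hom.range := by
  classical
  have hp : p.Prime := Fact.out
  have hxp : x ^ p = 1 := by
    refine orderOf_dvd_iff_pow_eq_one.1 ?_
    rw [← Equiv.Perm.lcm_cycleType, hs.ct]
    exact Multiset.lcm_dvd.2 fun y hy => (Multiset.eq_of_mem_replicate hy) ▸ dvd_rfl
  have hgc := Subgroup.mem_centralizer_singleton_iff.1 g.2
  have hfix : ∀ z, x z ≠ z → (g : Equiv.Perm (Fin n)) z = z := by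
    intro z hz
    have htc : Commute x (x.cycleOf z) :=
      (Equiv.Perm.self_mem_cycle_factors_commute
        (Equiv.Perm.cycleOf_mem_cycleFactorsFinset_iff.2 (Equiv.Perm.mem_support.2 hz))).symm
    have hto : x.cycleOf z ∈ orbitwise (Subgroup.zpowers x) := by
      rw [mem_orbitwise]
      intro y
      have hcomm : ∀ e ∈ Subgroup.zpowers x, ∀ w, x (e w) = e (x w) := by
        rintro e ⟨i, rfl⟩ w
        show (x * x ^ i) w = (x ^ i * x) w
        rw [(Commute.refl x).zpow_right i]
      by_cases hy : x.SameCycle z y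
      · refine ⟨x, Subgroup.mem_zpowers x, ?_⟩
        rintro w ⟨_, ⟨i, rfl⟩, rfl⟩
        exact ⟨by rw [Equiv.Perm.cycleOf_apply, if_pos (Equiv.Perm.sameCycle_zpow_right.2 hy)],
          fun e he => hcomm e he _⟩
      · refine ⟨1, one_mem _, ?_⟩
        rintro w ⟨_, ⟨i, rfl⟩, rfl⟩
        refine ⟨?_, fun _ _ => rfl⟩
        rw [Equiv.Perm.cycleOf_apply, if_neg fun h => hy (Equiv.Perm.sameCycle_zpow_right.1 h),
          Equiv.Perm.one_apply]
    have htC : x.cycleOf z ∈ Cen x :=
      Subgroup.mem_centralizer_singleton_iff.2 htc.symm.eq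
    have h1 := congrArg Subtype.val (Subgroup.mem_centralizer_iff.1 hgE ⟨_, htC⟩ hto)
    simp only [Subgroup.coe_mul] at h1
    have h2 := Equiv.congr_fun h1 z
    rw [Equiv.Perm.mul_apply, Equiv.Perm.mul_apply, Equiv.Perm.cycleOf_apply_self] at h2
    have hsame : x.SameCycle z ((g : Equiv.Perm (Fin n)) z) := by
      by_contra hn
      rw [Equiv.Perm.cycleOf_apply_of_not_sameCycle hn] at h2
      exact hz ((g : Equiv.Perm (Fin n)).injective h2.symm)
    obtain ⟨i, hi⟩ := hsame
    refine moved_fixed hp ((show Commute (g : Equiv.Perm (Fin n)) x from hgc).zpow_right i)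
      (by rwa [Subgroup.orderOf_coe]) ?_ hi.symm
    obtain ⟨k, -, hk⟩ := (Nat.dvd_prime_pow hp (i := orderOf (x ^ i)) (m := 1)).1 (by
      rw [pow_one]
      refine orderOf_dvd_of_pow_eq_one (n := p) ?_
      rw [← zpow_natCast, ← zpow_mul, mul_comm, zpow_mul, zpow_natCast, hxp, one_zpow])
    exact ⟨k, hk⟩
  have hmem : ∀ i, ∃ j, ι j = (g : Equiv.Perm (Fin n)) (ι i) := fun i => by
    refine (hs.fix _).1 ?_
    rw [← Equiv.Perm.mul_apply, ← hgc, Equiv.Perm.mul_apply, (hs.fix _).2 ⟨i, rfl⟩]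
  choose u hu using hmem
  have hui : Function.Injective u := fun i j h =>
    ι.injective ((g : Equiv.Perm (Fin n)).injective (by rw [← hu, ← hu, h]))
  refine ⟨Equiv.ofBijective u (Finite.injective_iff_bijective.1 hui),
    Subtype.ext (Equiv.ext fun z => ?_)⟩
  rw [hs.coe_hom, Equiv.Perm.viaEmbeddingHom_apply]
  by_cases hz : z ∈ Set.range ι
  · obtain ⟨i, rfl⟩ := hz
    rw [Equiv.Perm.viaEmbedding_apply]
    exact hu i
  · rw [Equiv.Perm.viaEmbedding_apply_of_notMem _ _ _ hz,
      hfix z fun h => hz ((hs.fix z).1 h)]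

/-- Characters of the centralizer over one invariant character of the embedded group are in one
block. -/
theorem Slot.mem_block (hM : IsPModular p M) (hs : Slot p W r x ι) {θ : hs.hom.range → ℂ}
    {ξ ξ' : IrrCharacter (Cen x)} {k k' : ℂ}
    (hk : (fun h : hs.hom.range => (ξ : Cen x → ℂ) h) =
      k • θ)
    (hk' : (fun h : hs.hom.range => (ξ' : Cen x → ℂ) h) =
      k' • θ) :
    ξ' ∈ blockOf M (ξ : Cen x → ℂ) := by
  classical
  cases nonempty_fintype (ConjClasses (Cen x))
  set E := (orbitwise (Subgroup.zpowers x)).subgroupOf (Cen x) with hE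
  haveI : E.Normal := ⟨fun π hπ h => by
    rw [hE, Subgroup.mem_subgroupOf] at hπ ⊢
    refine orbitwise_conj (Subgroup.centralizer_le_normalizer _ ?_) hπ
    refine Subgroup.mem_centralizer_iff.2 ?_
    rintro _ ⟨i, rfl⟩
    exact ((show Commute x (h : Equiv.Perm (Fin n)) from
      (Subgroup.mem_centralizer_singleton_iff.1 h.2).symm).zpow_left i).eq⟩
  have hp : p.Prime := Fact.out
  have hEp : IsPGroup p E := by
    refine (orbitwise_isPGroup ?_).comap_of_injective _ (Cen x).subtype_injective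
    refine fun y => ⟨1, Subtype.ext ?_⟩
    obtain ⟨i, hi⟩ := y.2
    rw [Subgroup.coe_pow, Subgroup.coe_one, ← hi, pow_one]
    show (x ^ i) ^ p = 1
    rw [← zpow_natCast, ← zpow_mul, mul_comm, zpow_mul, zpow_natCast,
      orderOf_dvd_iff_pow_eq_one.1 (by
        rw [← Equiv.Perm.lcm_cycleType, hs.ct]
        exact Multiset.lcm_dvd.2 fun y hy => (Multiset.eq_of_mem_replicate hy) ▸ dvd_rfl), one_zpow]
  have hk0 : ∀ {η : IrrCharacter (Cen x)} {c : ℂ},
      (fun h : hs.hom.range => (η : (Cen x) → ℂ) h) = c • θ → c ≠ 0 := fun {η c} h hc0 => by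
    have := congrFun h 1
    rw [hc0, zero_smul, Pi.zero_apply] at this
    exact Block.irr_one_ne_zero η this
  have hω : ∀ g : (Cen x), g ∈ hs.hom.range →
      centralChar (ξ' : (Cen x) → ℂ) g = centralChar (ξ : (Cen x) → ℂ) g := by
    intro g hg
    have e1 := congrFun hk ⟨g, hg⟩
    have e2 := congrFun hk' ⟨g, hg⟩
    have e3 := congrFun hk 1
    have e4 := congrFun hk' 1
    simp only [Pi.smul_apply, smul_eq_mul, Subgroup.coe_one] at e1 e2 e3 e4
    rw [centralChar, centralChar, e1, e2, e3, e4]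
    have h1 := hk0 hk
    have h2 := hk0 hk'
    rw [mul_left_comm, mul_div_mul_left _ _ h2, mul_left_comm, mul_div_mul_left _ _ h1]
  set b := blockOf M (ξ : (Cen x) → ℂ) with hb
  set c : (Cen x) → ℂ := Block.coeffFun (Block.blockInd b) with hc
  have hsum : ∀ η : IrrCharacter (Cen x),
      ∑ K : ConjClasses (Cen x), c K.out * centralChar (η : (Cen x) → ℂ) K.out = Block.blockInd b η := fun η => by
    rw [← Block.omegaFun_eq_sum_classes η (Block.coeffFun_classFun _), Block.omegaFun_coeffFun]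
  by_contra hno
  have h1 : MemLocalIdeal M (Block.blockInd b ξ' - Block.blockInd b ξ) := by
    rw [← hsum, ← hsum, ← Finset.sum_sub_distrib]
    refine Block.ideal_sum hM fun K _ => ?_
    rw [← mul_sub]
    by_cases hsing : p ∣ orderOf K.out
    · rw [hc, ← Block.blockCoeff_eq, Block.blockCoeff_singular hM (Block.isPBlock_blockOf ξ) hsing,
        zero_mul]
      exact Block.ideal_zero hM
    refine Block.ideal_mul_left hM ?_ ?_
    · rw [hc, ← Block.blockCoeff_eq]
      exact Block.blockCoeff_ring hM (Block.isPBlock_blockOf ξ) _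
    by_cases hcen : K.out ∈ Subgroup.centralizer (E : Set (Cen x))
    · rw [hω _ (hs.mem_range hsing hcen), sub_self]
      exact Block.ideal_zero hM
    · exact Block.ideal_sub hM (Block.centralChar_ideal_of_normal hM hEp hcen ξ')
        (Block.centralChar_ideal_of_normal hM hEp hcen ξ)
  rw [Block.blockInd_of_notMem hno, Block.blockInd_of_mem (Block.mem_blockOf_self hM ξ),
    zero_sub] at h1
  exact Block.ideal_one hM (by simpa using Block.ideal_neg h1)

set_option maxHeartbeats 400000 in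
/-- States of the same core and weight are in one block. -/
theorem same_block (hM : IsPModular p M) {m : ℕ → ℕ} {W : ℕ} {a a' : Fin n → ℤ}
    (ha : IsState n a) (ha' : IsState n a') (hW : IsW p m W a) (hW' : IsW p m W a')
    {χ χ' : IrrCharacter (Equiv.Perm (Fin n))} {e e' : ℤ} (he : e = 1 ∨ e = -1)
    (he' : e' = 1 ∨ e' = -1) (hea : chiG n a = (e : ℂ) • (χ : Equiv.Perm (Fin n) → ℂ))
    (hea' : chiG n a' = (e' : ℂ) • (χ' : Equiv.Perm (Fin n) → ℂ)) :
    χ' ∈ blockOf M (χ : Equiv.Perm (Fin n) → ℂ) := by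
  classical
  have hp : p.Prime := Fact.out
  set g0 := core p a with hg0
  have hg0W := hW.core_isW hp.pos ha.1.injective
  obtain ⟨hg0n, hg0i, hg0s, -⟩ := chiM_core hp.pos W a hW ha.1.injective
  have hle : p * W ≤ n := by
    have h1 := (total_bound hg0i hg0n).1
    have h2 := ha.2.2
    have : ((p * W : ℕ) : ℤ) ≤ n := by push_cast; omega
    exact_mod_cast this
  set r := n - p * W with hr
  have hlev : ∑ i, g0 i = (r : ℤ) + ∑ i, delta n i := by
    rw [hr, Nat.cast_sub hle]
    have h2 := ha.2.2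
    push_cast
    linarith
  obtain ⟨γ, hγ, ε, hε, heγ⟩ : ∃ γ : Equiv.Perm (Fin r) → ℂ, IsIrrCharacter _ γ ∧
      ∃ ε : ℂ, ε ≠ 0 ∧ chiG r g0 = ε • γ := by
    rcases IsGenChar.norm_one (chiG_genChar g0) (by
      rw [chiG_inner g0 g0 hg0n hlev, match_self hg0i, Int.cast_one]) with h | h
    · exact ⟨_, h, 1, one_ne_zero, (one_smul ℂ _).symm⟩
    · exact ⟨_, h, -1, by simp, by simp⟩
  obtain ⟨x, ι, hs⟩ := exists_slot (n := n) hp (W := W) (r := r) (by omega)
  have hxord : ∃ k, orderOf x = p ^ k := by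
    obtain ⟨k, -, hk⟩ := (Nat.dvd_prime_pow hp (m := 1)).1 (show orderOf x ∣ p ^ 1 by
      rw [pow_one, ← Equiv.Perm.lcm_cycleType, hs.ct]
      exact Multiset.lcm_dvd.2 fun y hy => (Multiset.eq_of_mem_replicate hy) ▸ dvd_rfl)
    exact ⟨k, hk⟩
  set H := hs.hom.range with hH
  cases nonempty_fintype (Cen x)
  cases nonempty_fintype H
  set eH := MonoidHom.ofInjective hs.hom_injective with heH
  set θ : H → ℂ := fun h => γ (eH.symm h) with hθ
  have hθirr : IsIrrCharacter H θ :=
    IsIrr.comp_surjective eH.symm.toMonoidHom eH.symm.surjective hγ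
  have hθv : ∀ v, θ (eH v) = γ v := fun v => by simp [hθ]
  have horb : conjOrbit H θ = {θ} := by
    refine Finset.eq_singleton_iff_unique_mem.2 ⟨(mem_conjOrbit H).2 ⟨1, conjN_one H θ⟩, ?_⟩
    intro ψ hψ
    obtain ⟨c, rfl⟩ := (mem_conjOrbit H).1 hψ
    funext h
    obtain ⟨v, rfl⟩ := eH.surjective h
    obtain ⟨u, hu⟩ := hs.conj c
    rw [conjN_apply, hθv, show (⟨c * ((eH v : H) : (Cen x)) * c⁻¹, _⟩ : H) = eH (u * v * u⁻¹) from
      Subtype.ext (hu v), hθv, IsIrr.classFun hγ v u]
  have hres : ∀ ξ : IrrCharacter (Cen x), classInner (fun h : H => (ξ : (Cen x) → ℂ) h) θ ≠ 0 →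
      (fun h : H => (ξ : (Cen x) → ℂ) h) = classInner (fun h : H => (ξ : (Cen x) → ℂ) h) θ • θ := by
    intro ξ hξ
    have h1 := clifford H ξ.2 hθirr hξ
    rwa [horb, Finset.sum_singleton] at h1
  -- a constituent inducing the block of each character
  have hmain : ∀ (b : Fin n → ℤ), IsState n b → IsW p m W b →
      ∀ (η : IrrCharacter (Equiv.Perm (Fin n))) (d : ℤ), (d = 1 ∨ d = -1) →
      chiG n b = (d : ℂ) • (η : Equiv.Perm (Fin n) → ℂ) →
      ∃ ξ : IrrCharacter (Cen x), classInner (fun h : H => (ξ : (Cen x) → ℂ) h) θ ≠ 0 ∧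
        IsInducedBlock M (Cen x) (blockOf M (ξ : (Cen x) → ℂ)) (blockOf M (η : Equiv.Perm (Fin n) → ℂ)) := by
    intro b hb hWb η d hd hdb
    obtain ⟨-, hbi, -, h4⟩ := chiM_core hp.pos W b hWb hb.1.injective
    obtain ⟨σ, hσ⟩ := (hWb.core_isW hp.pos hb.1.injective).exists_perm hp.pos hg0W hbi hg0i
    by_contra hno
    push Not at hno
    set f : (Cen x) → ℂ := fun y =>
      if p ∣ orderOf y then (0 : ℂ) else 1 * (η : Equiv.Perm (Fin n) → ℂ) (x * (y : Equiv.Perm (Fin n)))
      with hf
    have hfc : IsClassFunction (Cen x) f := Contrib.reg_classFun 1 (Block.sectionFun_classFun η x)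
    have hval : ∀ v : Equiv.Perm (Fin r), ∃ c : ℕ, 0 < c ∧
        (η : Equiv.Perm (Fin n) → ℂ) (x * Equiv.Perm.viaEmbeddingHom ι v) =
          (d : ℂ) * (Equiv.Perm.sign σ : ℤ) * ε * (c : ℂ) * γ v := by
      intro v
      obtain ⟨c, hc0, hc⟩ := h4 (parts v)
      refine ⟨c, hc0, ?_⟩
      have e1 := congrFun hdb (x * Equiv.Perm.viaEmbeddingHom ι v)
      rw [chiG, hs.parts_mul, hc, hσ, chiM_comp, Pi.smul_apply, smul_eq_mul] at e1
      push_cast at e1
      have e2 := congrFun heγ v
      rw [chiG, Pi.smul_apply, smul_eq_mul] at e2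
      have hdd : (d : ℂ) * (d : ℂ) = 1 := by rcases hd with rfl | rfl <;> simp
      rw [e2] at e1
      linear_combination (d : ℂ) * -e1 - (η : Equiv.Perm (Fin n) → ℂ)
        (x * Equiv.Perm.viaEmbeddingHom ι v) * hdd
    have hfH : ∀ v, ∃ c : ℕ, 0 < c ∧
        f ((eH v : H) : (Cen x)) = (d : ℂ) * (Equiv.Perm.sign σ : ℤ) * ε * (c : ℂ) * γ v := by
      intro v
      obtain ⟨c, hc0, hc⟩ := hval v
      refine ⟨c, hc0, ?_⟩
      have hord : orderOf ((eH v : H) : (Cen x)) = orderOf v :=
        orderOf_injective hs.hom hs.hom_injective v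
      simp only [hf, hord]
      split_ifs with h
      · have := vanish_of_weight_zero hg0W hg0i h
        rw [heγ, Pi.smul_apply, smul_eq_mul, mul_eq_zero] at this
        rw [this.resolve_left hε, mul_zero]
      · rw [one_mul]
        exact hc
    -- orthogonality to the induced function
    have hzero : classInner f (indFun H θ) = 0 := by
      have hdec := classFunction_expansion (indFun_classFun H θ)
      rw [hdec, classInner_sum_right]
      refine Finset.sum_eq_zero fun ξ _ => ?_
      rw [classInner_smul_right]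
      by_cases hξ : classInner (fun h : H => (ξ : (Cen x) → ℂ) h) θ = 0
      · rw [← classInner_conj_symm, classInner_indFun_right H θ (IsIrr.classFun ξ.2), hξ]
        simp
      refine mul_eq_zero_of_right _ ?_
      rw [classInner, show ∑ y : (Cen x), f y * conj ((ξ : (Cen x) → ℂ) y) =
        ∑ y ∈ Finset.univ.filter (fun y : (Cen x) => ¬ p ∣ orderOf y), (η : Equiv.Perm (Fin n) → ℂ)
          (x * (y : Equiv.Perm (Fin n))) * conj ((ξ : (Cen x) → ℂ) y) by
        rw [Finset.sum_filter]
        refine Finset.sum_congr rfl fun y _ => ?_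
        simp only [hf]
        split_ifs <;> simp]
      refine mul_eq_zero_of_right _ ?_
      have hexp : ∀ y ∈ Finset.univ.filter (fun y : Cen x => ¬ p ∣ orderOf y),
          (η : Equiv.Perm (Fin n) → ℂ) (x * (y : Equiv.Perm (Fin n))) *
              conj ((ξ : Cen x → ℂ) y) =
            ∑ ζ ∈ Finset.univ.filter (fun ζ : IrrCharacter (Cen x) =>
              IsInducedBlock M _ (blockOf M (ζ : Cen x → ℂ))
                (blockOf M (η : Equiv.Perm (Fin n) → ℂ))),
              classInner (fun c : Cen x => (η : Equiv.Perm (Fin n) → ℂ) (x * (c : Equiv.Perm (Fin n))))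
                  (ζ : Cen x → ℂ) * (ζ : Cen x → ℂ) y * conj ((ξ : Cen x → ℂ) y) := by
        intro y hy
        have hv := Block.value_eq_sum_inducing hM hxord
          (Block.isPBlock_blockOf (M := M) η) (y := y) (Finset.mem_filter.1 hy).2 η
        rw [if_pos (Block.mem_blockOf_self hM η)] at hv
        rw [← hv, Finset.sum_mul]
      rw [Finset.sum_congr rfl hexp, Finset.sum_comm]
      refine Finset.sum_eq_zero fun ζ hζ => ?_
      simp only [mul_assoc, ← Finset.mul_sum]
      refine mul_eq_zero_of_right _ ?_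
      rw [← Block.regSum_eq_sum]
      refine Contrib.regSum_eq_zero_of_not_mem hM (Block.isPBlock_blockOf ζ)
        (Block.mem_blockOf_self hM ζ) fun h => hno ξ hξ ?_
      rw [← Block.pblock_eq_blockOf hM (Block.isPBlock_blockOf ζ) h]
      exact (Finset.mem_filter.1 hζ).2
    rw [classInner_indFun_right H θ hfc, classInner] at hzero
    rcases mul_eq_zero.1 hzero with h | h
    · exact inv_ne_zero (Nat.cast_ne_zero.2 Nat.card_pos.ne') h
    choose c hc0 hc using hfH
    rw [← eH.toEquiv.sum_comp] at h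
    have hterm : ∀ v, f ((eH v : H) : (Cen x)) * conj (θ (eH v)) =
        (d : ℂ) * (Equiv.Perm.sign σ : ℤ) * ε * (((c v : ℝ) * Complex.normSq (γ v) : ℝ) : ℂ) := by
      intro v
      rw [hc v, hθv]
      push_cast
      rw [← Complex.mul_conj]
      ring
    simp only [MulEquiv.toEquiv_eq_coe, MulEquiv.coe_toEquiv, hterm, ← Finset.mul_sum] at h
    have hne : (d : ℂ) * (Equiv.Perm.sign σ : ℤ) * ε ≠ 0 := by
      refine mul_ne_zero (mul_ne_zero ?_ ?_) hε
      · rcases hd with rfl | rfl <;> simp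
      · exact Int.cast_ne_zero.2 (Units.ne_zero _)
    rw [← Complex.ofReal_sum] at h
    have h0 := Complex.ofReal_eq_zero.1 ((mul_eq_zero.1 h).resolve_left hne)
    have h1 := (Finset.sum_eq_zero_iff_of_nonneg fun v _ =>
      mul_nonneg (Nat.cast_nonneg _) (Complex.normSq_nonneg _)).1 h0 1 (Finset.mem_univ _)
    rcases mul_eq_zero.1 h1 with h2 | h2
    · exact (hc0 1).ne' (Nat.cast_eq_zero.1 h2)
    · exact Block.irr_one_ne_zero (⟨γ, hγ⟩ : IrrCharacter _) (Complex.normSq_eq_zero.1 h2)
  obtain ⟨ξ, hξ, hind⟩ := hmain a ha hW χ e he hea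
  obtain ⟨ξ', hξ', hind'⟩ := hmain a' ha' hW' χ' e' he' hea'
  have hmem := hs.mem_block hM (hres ξ hξ) (hres ξ' hξ')
  rw [← Block.pblock_eq_blockOf hM (Block.isPBlock_blockOf ξ) hmem] at hind'
  rw [Block.induced_unique hM hind hind']
  exact Block.mem_blockOf_self hM χ'

end Cfsg.Agent.Char.SymChar
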