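import Cfsg.Agent.Lib.Char.SymChar.Average
import Cfsg.Agent.Lib.Char.Complete

/-!
Orthogonality of the class functions of tuples, and the resulting description of the irreducible
characters of the symmetric group.
-/

set_option autoImplicit false

namespace Cfsg.Agent.Char.SymChar

open Finset
open scoped Nat ComplexConjugate

variable {N : ℕ}

/-- A nonnegative injective tuple has total at least that of the staircase. -/
theorem total_bound {a : Fin N → ℤ} (hinj : Function.Injective a) (hnn : ∀ i, 0 ≤ a i) :
    ∑ i, delta N i ≤ ∑ i, a i ∧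
      (∑ i, a i = ∑ i, delta N i → ∃ σ : Equiv.Perm (Fin N), a = delta N ∘ σ) := by
  have hcast : ∑ i, a i = ((∑ i, (a i).toNat : ℕ) : ℤ) := by
    rw [Nat.cast_sum]
    exact Finset.sum_congr rfl fun i _ => (Int.toNat_of_nonneg (hnn i)).symm
  have h := rank_bound (Finset.univ) (fun i => (a i).toNat) (fun i _ j _ hij => hinj (by
    have h1 := hnn i; have h2 := hnn j
    simp only at hij
    omega))
  rw [Finset.card_univ, Fintype.card_fin] at h
  have hd := sum_delta (N := N)
  refine ⟨by omega, fun he => ?_⟩
  have h' := h.2 (by omega)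
  have hlt : ∀ i, (a i).toNat < N := fun i => h' i (Finset.mem_univ i)
  set f : Fin N → Fin N := fun i => ⟨N - 1 - (a i).toNat, by have := hlt i; omega⟩ with hf
  have hfi : Function.Injective f := fun i j hij => hinj (by
    have h1 := hnn i; have h2 := hnn j
    have h3 := hlt i; have h4 := hlt j
    have h5 := congrArg Fin.val hij
    simp only [hf] at h5
    omega)
  refine ⟨Equiv.ofBijective f (Finite.injective_iff_bijective.1 hfi), funext fun i => ?_⟩
  have := hnn i
  have := hlt i
  simp only [Function.comp_apply, Equiv.ofBijective_apply, delta, hf]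
  omega

theorem match_swap (b a : Fin N → ℤ) {i j : Fin N} (h : i ≠ j) :
    match' (a ∘ Equiv.swap i j) b = - match' a b := by
  rw [match_comp, Equiv.Perm.sign_swap h]
  push_cast
  ring

theorem sum_sub_single (a : Fin N → ℤ) (i : Fin N) (x : ℤ) :
    ∑ j, (a - Pi.single i x : Fin N → ℤ) j = ∑ j, a j - x := by
  simp [Finset.sum_sub_distrib]

theorem nonneg_sub_single {a : Fin N → ℤ} (ha : ∀ i, 0 ≤ a i) {i : Fin N} {x : ℤ} (hx : x ≤ a i)
    (j : Fin N) : 0 ≤ (a - Pi.single i x : Fin N → ℤ) j := by
  have := ha j
  rcases eq_or_ne j i with rfl | h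
  · simp only [Pi.sub_apply, Pi.single_eq_same]; omega
  · simpa [h] using this

/-- Moving a hook from one side of the matching to the other. -/
theorem sum_match_shift (c b : Fin N → ℤ) (x : ℤ) :
    ∑ j, match' c (b - Pi.single j x) = ∑ j, match' (c + Pi.single j x) b := by
  simp only [match']
  rw [Finset.sum_comm]
  conv_rhs => rw [Finset.sum_comm]
  refine Finset.sum_congr rfl fun σ _ => (Fintype.sum_equiv σ _ _ fun j => ?_).symm
  refine if_congr ?_ rfl rfl
  rw [show (b - Pi.single (σ j) x) ∘ σ = b ∘ σ - (Pi.single (σ j) x : Fin N → ℤ) ∘ σ from rfl,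
    single_comp, eq_sub_iff_add_eq]

theorem avg_orth : ∀ (n : ℕ) (a b : Fin N → ℤ), (∀ i, 0 ≤ a i) →
    ∑ i, a i = n + ∑ i, delta N i →
      avg n (fun μ => (chiM μ a : ℂ) * (chiM μ b : ℂ)) = (match' a b : ℂ) := by
  intro n
  induction n using Nat.strong_induction_on with
  | _ n IH =>
    intro a b ha hs
    rcases Nat.eq_zero_or_pos n with rfl | hn
    · rw [avg_zero, chiM_zero, chiM_zero, Nat.cast_zero, zero_add] at *
      by_cases hinj : Function.Injective a
      · obtain ⟨σ, rfl⟩ := (total_bound hinj ha).2 hs
        rw [match_comp, match_comp, match_self delta_strictAnti.injective, match_symm b]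
        push_cast
        ring
      · have h1 : ∀ c, match' a c = 0 := fun c => by
          by_contra h
          exact hinj (injective_of_match_ne_zero h)
        simp [h1]
    have key : (n : ℂ) * avg n (fun μ => (chiM μ a : ℂ) * (chiM μ b : ℂ)) =
        (n : ℂ) * (match' a b : ℂ) := by
      rw [avg_rec]
      set F : Fin N → ℕ → ℂ := fun i k =>
        ∑ j, (match' (a - Pi.single i (k : ℤ) + Pi.single j (k : ℤ)) b : ℂ) with hF
      have step : ∀ k ∈ Icc 1 n, avg (n - k) (fun ν => (chiM (k ::ₘ ν) a : ℂ) *
          (chiM (k ::ₘ ν) b : ℂ)) = ∑ i, if (k : ℤ) ≤ a i then F i k else 0 := by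
        intro k hk
        rw [Finset.mem_Icc] at hk
        simp only [chiM_cons, Int.cast_sum, Finset.sum_mul_sum]
        simp only [avg_sum]
        refine Finset.sum_congr rfl fun i _ => ?_
        split_ifs with hki
        · rw [hF]
          simp only
          rw [← Int.cast_sum, ← sum_match_shift, Int.cast_sum]
          refine Finset.sum_congr rfl fun j _ => ?_
          refine IH (n - k) (by omega) _ _ (nonneg_sub_single ha hki) ?_
          rw [sum_sub_single, hs, Nat.cast_sub hk.2]
          ring
        · refine Finset.sum_eq_zero fun j _ => ?_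
          rw [avg_congr (g := fun _ => (0 : ℂ)) fun ν _ _ => ?_]
          · simp [avg]
          · rw [show chiM ν (a - Pi.single i (k : ℤ)) = 0 from by
              by_contra h
              have := (chiM_support ν _ h).2.1 i
              simp only [Pi.sub_apply, Pi.single_eq_same] at this
              omega]
            simp
      rw [Finset.sum_congr rfl step, Finset.sum_comm]
      have step2 : ∀ i, (∑ k ∈ Icc 1 n, if (k : ℤ) ≤ a i then F i k else 0) =
          ∑ k ∈ range (a i).toNat, F i (k + 1) := by
        intro i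
        rw [← Finset.sum_filter, show ∑ k ∈ range (a i).toNat, F i (k + 1) =
            ∑ k ∈ Icc 1 (a i).toNat, F i k from by
          induction (a i).toNat with
          | zero => simp
          | succ m ihm => rw [Finset.sum_range_succ, ihm, Finset.sum_Icc_succ_top (by omega)]]
        refine Finset.sum_subset (fun k hk => ?_) fun k hk hk' => ?_
        · simp only [Finset.mem_filter, Finset.mem_Icc] at hk
          exact Finset.mem_Icc.2 ⟨hk.1.1, by omega⟩
        · simp only [Finset.mem_filter, Finset.mem_Icc, not_and] at hk hk'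
          have hak := ha i
          have hki : (k : ℤ) ≤ a i := by omega
          have hkn : n < k := by
            by_contra hle
            exact hk' ⟨hk.1, not_lt.1 hle⟩ hki
          rw [hF]
          simp only
          rw [← Int.cast_sum, ← sum_match_shift, Finset.sum_eq_zero, Int.cast_zero]
          intro j _
          by_contra h
          have h1 := (total_bound (injective_of_match_ne_zero h) (nonneg_sub_single ha hki)).1
          rw [sum_sub_single, hs] at h1
          omega
      simp only [step2]
      have he := euler (V := ℂ) (fun c => (match' c b : ℂ))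
        (fun c i j hij => by simp only [match_swap b c hij]; push_cast; ring)
        1 Finset.univ 0 (fun i => (a i).toNat) a
        (fun i _ => by simp [Int.toNat_of_nonneg (ha i)])
      simp only [Nat.cast_one, one_mul, smul_eq_mul] at he
      rw [show ∑ i, ∑ k ∈ range (a i).toNat, F i (k + 1) = _ from he, Finset.card_univ,
        Fintype.card_fin]
      congr 1
      have h1 : ((∑ i, (a i).toNat : ℕ) : ℤ) = n + ∑ i, delta N i := by
        rw [← hs, Nat.cast_sum]
        exact Finset.sum_congr rfl fun i _ => Int.toNat_of_nonneg (ha i)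
      have h2 := congrArg (fun z : ℤ => (z : ℂ)) h1
      have h3 := congrArg (fun z : ℤ => (z : ℂ)) (sum_delta (N := N))
      simp only [Int.cast_add, Int.cast_natCast, Int.cast_mul, Int.cast_ofNat] at h2 h3
      rw [h2, ← h3]
      ring
    exact mul_left_cancel₀ (Nat.cast_ne_zero.2 hn.ne') key

variable {n : ℕ}

/-- Orthogonality on the group. -/
theorem chiG_inner (a b : Fin N → ℤ) (ha : ∀ i, 0 ≤ a i)
    (hs : ∑ i, a i = n + ∑ i, delta N i) :
    classInner (chiG n a) (chiG n b) = (match' a b : ℂ) := by
  have h := sum_parts_eq n (fun μ => (chiM μ a : ℂ) * (chiM μ b : ℂ))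
  rw [avg_orth n a b ha hs] at h
  rw [classInner, Nat.card_perm, Nat.card_eq_fintype_card, Fintype.card_fin]
  simp only [chiG, map_intCast]
  rw [h, ← mul_assoc, inv_mul_cancel₀ (Nat.cast_ne_zero.2 (Nat.factorial_ne_zero n)), one_mul]

/-- The strictly decreasing tuples of level `n`. -/
def IsState (n : ℕ) (a : Fin n → ℤ) : Prop :=
  StrictAnti a ∧ (∀ i, 0 ≤ a i) ∧ ∑ i, a i = n + ∑ i, delta n i

theorem chiG_norm {a : Fin n → ℤ} (ha : IsState n a) :
    classInner (chiG n a) (chiG n a) = 1 := by
  rw [chiG_inner a a ha.2.1 ha.2.2, match_self ha.1.injective, Int.cast_one]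

theorem exists_irr_of_state {a : Fin n → ℤ} (ha : IsState n a) :
    ∃ ξ : IrrCharacter (Equiv.Perm (Fin n)), ∃ e : ℤ, (e = 1 ∨ e = -1) ∧
      chiG n a = (e : ℂ) • (ξ : Equiv.Perm (Fin n) → ℂ) := by
  rcases IsGenChar.norm_one (chiG_genChar a) (chiG_norm ha) with h | h
  · exact ⟨⟨_, h⟩, 1, Or.inl rfl, by simp⟩
  · exact ⟨⟨_, h⟩, -1, Or.inr rfl, by simp⟩

instance finite_states : Finite {a : Fin n → ℤ // IsState n a} := by
  set B : ℕ := (n + ∑ i, delta n i).toNat + 1 with hB
  refine Finite.of_injective (β := Fin n → Fin B) (fun a i => ⟨(a.1 i).toNat, ?_⟩)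
    fun a b h => Subtype.ext (funext fun i => ?_)
  · have h1 : a.1 i ≤ ∑ j, a.1 j :=
      Finset.single_le_sum (fun j _ => a.2.2.1 j) (Finset.mem_univ i)
    rw [a.2.2.2] at h1
    omega
  · have h1 := congrArg Fin.val (congrFun h i)
    have := a.2.2.1 i
    have := b.2.2.1 i
    simp only at h1
    omega

theorem card_classes_le_states :
    Nat.card (ConjClasses (Equiv.Perm (Fin n))) ≤ Nat.card {a : Fin n → ℤ // IsState n a} := by
  classical
  let st : n.Partition → {a : Fin n → ℤ // IsState n a} := fun μ =>
    let l : List ℕ := (μ.parts + Multiset.replicate (n - Multiset.card μ.parts) 0).sort (· ≥ ·)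
    have hlen : l.length = n := by
      rw [Multiset.length_sort, Multiset.card_add, Multiset.card_replicate]
      have : Multiset.card μ.parts ≤ n := by
        conv_rhs => rw [← μ.parts_sum]
        simpa using Multiset.card_nsmul_le_sum (a := 1) fun x hx => μ.parts_pos hx
      omega
    ⟨fun i => ((l[(i : ℕ)]'(by omega) : ℕ) : ℤ) + delta n i, fun i j hij => by
      have h1 := (List.pairwise_iff_getElem.1 (Multiset.pairwise_sort _ _)) i j
        (show (i : ℕ) < l.length by omega) (show (j : ℕ) < l.length by omega) hij
      have h2 := delta_strictAnti hij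
      exact add_lt_add_of_le_of_lt (Int.ofNat_le.2 (of_eq_true (eq_true h1))) h2, fun i => add_nonneg (Int.natCast_nonneg _) (delta_nonneg i), by
      rw [Finset.sum_add_distrib, ← Nat.cast_sum]
      congr 2
      calc ∑ i : Fin n, l[(i : ℕ)]'(by omega) = ∑ i : Fin l.length, l[(i : ℕ)] :=
            (Fintype.sum_equiv (finCongr hlen) _ _ fun _ => rfl).symm
        _ = l.sum := Fin.sum_univ_getElem l
        _ = n := by
          rw [← Multiset.sum_coe, Multiset.sort_eq, Multiset.sum_add, μ.parts_sum]
          simp⟩
  have hst : Function.Injective st := by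
    intro μ ν h
    have hl : ∀ i : Fin n, ∀ h1 h2,
        ((μ.parts + Multiset.replicate (n - Multiset.card μ.parts) 0).sort (· ≥ ·))[(i : ℕ)]'h1 =
        ((ν.parts + Multiset.replicate (n - Multiset.card ν.parts) 0).sort (· ≥ ·))[(i : ℕ)]'h2 := by
      intro i _ _
      have := congrFun (congrArg Subtype.val h) i
      simp only [st, add_left_inj, Nat.cast_inj] at this
      exact this
    have hlen : ∀ μ : n.Partition,
        ((μ.parts + Multiset.replicate (n - Multiset.card μ.parts) 0).sort (· ≥ ·)).length = n := by
      intro μ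
      rw [Multiset.length_sort, Multiset.card_add, Multiset.card_replicate]
      have : Multiset.card μ.parts ≤ n := by
        conv_rhs => rw [← μ.parts_sum]
        simpa using Multiset.card_nsmul_le_sum (a := 1) fun x hx => μ.parts_pos hx
      omega
    have h3 := List.ext_getElem ((hlen μ).trans (hlen ν).symm)
      (fun i h1 h2 => hl ⟨i, by rw [hlen] at h1; exact h1⟩ h1 h2)
    have h4 := congrArg (fun l : List ℕ => ((l : Multiset ℕ)).filter (0 < ·)) h3
    simp only [Multiset.sort_eq, Multiset.filter_add] at h4
    have hzero : ∀ k : ℕ, (Multiset.replicate k 0).filter (0 < ·) = 0 := fun k =>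
      Multiset.filter_eq_nil.2 fun x hx => by rw [Multiset.eq_of_mem_replicate hx]; omega
    rw [hzero, hzero, add_zero, add_zero, Multiset.filter_eq_self.2 fun x hx => μ.parts_pos hx,
      Multiset.filter_eq_self.2 fun x hx => ν.parts_pos hx] at h4
    exact Nat.Partition.ext h4
  refine le_trans ?_ (Nat.card_le_card_of_injective st hst)
  refine Nat.card_le_card_of_injective
    (fun C => (⟨parts C.out, fun hi => C.out.partition.parts_pos hi, sum_parts C.out⟩ : n.Partition))
    fun C C' h => ?_
  have h1 : parts C.out = parts C'.out := congrArg (fun μ : n.Partition => μ.parts) h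
  rw [← C.out_eq, ← C'.out_eq]
  exact ConjClasses.mk_eq_mk_iff_isConj.2
    (Equiv.Perm.partition_eq_of_isConj.2 (Nat.Partition.ext h1))

/-- Every irreducible character is, up to sign, the class function of a state. -/
theorem exists_state (ξ : IrrCharacter (Equiv.Perm (Fin n))) :
    ∃ a : Fin n → ℤ, IsState n a ∧ ∃ e : ℤ, (e = 1 ∨ e = -1) ∧
      chiG n a = (e : ℂ) • (ξ : Equiv.Perm (Fin n) → ℂ) := by
  classical
  choose f e he hf using fun a : {a : Fin n → ℤ // IsState n a} => exists_irr_of_state a.2
  have hinj : Function.Injective f := by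
    intro a b h
    have h1 := chiG_inner a.1 b.1 a.2.2.1 a.2.2.2 (n := n)
    rw [hf a, hf b, h, classInner_smul_left, classInner_smul_right, classInner_self_irr (f b).2,
      map_intCast, mul_one] at h1
    refine Subtype.ext (eq_of_match_ne_zero a.2.1 b.2.1 fun h0 => ?_)
    rw [h0, Int.cast_zero, ← Int.cast_mul, Int.cast_eq_zero] at h1
    rcases mul_eq_zero.1 h1 with h2 | h2
    · rcases he a with h3 | h3 <;> omega
    · rcases he b with h3 | h3 <;> omega
  have hb := Nat.bijective_iff_injective_and_card (f := f) |>.2 ⟨hinj, le_antisymm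
    (Nat.card_le_card_of_injective f hinj) (card_irrCharacter (G := Equiv.Perm (Fin n)) ▸
      card_classes_le_states)⟩
  obtain ⟨a, rfl⟩ := hb.2 ξ
  exact ⟨a.1, a.2, e a, he a, hf a⟩

/-- A class function orthogonal to all states is zero. -/
theorem ext_of_states {f g : Equiv.Perm (Fin n) → ℂ}
    (hf : IsClassFunction (Equiv.Perm (Fin n)) f) (hg : IsClassFunction (Equiv.Perm (Fin n)) g)
    (h : ∀ a : Fin n → ℤ, IsState n a → classInner f (chiG n a) = classInner g (chiG n a)) :
    f = g := by
  refine classFunction_ext hf hg fun χ hχ => ?_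
  obtain ⟨a, ha, e, he, hea⟩ := exists_state ⟨χ, hχ⟩
  have h1 := h a ha
  rw [hea, classInner_smul_right, classInner_smul_right] at h1
  refine mul_left_cancel₀ ?_ h1
  rcases he with rfl | rfl <;> simp

end Cfsg.Agent.Char.SymChar
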