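import Cfsg.Agent.Lib.Char.SymChar.Orth

/-!
Residues of tuples modulo `p`: the core, regular orthogonality across cores, and the relations
between the class functions on the regular elements.
-/

set_option autoImplicit false

namespace Cfsg.Agent.Char.SymChar

open Finset
open scoped ComplexConjugate

variable {N : ℕ}

/-- The residue of a coordinate. -/
def rr (p : ℕ) (a : Fin N → ℤ) (i : Fin N) : ℕ := (a i).toNat % p

/-- The quotient of a coordinate. -/
def qq (p : ℕ) (a : Fin N → ℤ) (i : Fin N) : ℕ := (a i).toNat / p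

/-- The number of coordinates in a residue class. -/
def cnt (p : ℕ) (a : Fin N → ℤ) (r : ℕ) : ℕ := #{i | rr p a i = r}

theorem rr_comp (p : ℕ) (a : Fin N → ℤ) (σ : Equiv.Perm (Fin N)) (i : Fin N) :
    rr p (a ∘ σ) i = rr p a (σ i) := rfl

theorem cnt_comp (p : ℕ) (a : Fin N → ℤ) (σ : Equiv.Perm (Fin N)) (r : ℕ) :
    cnt p (a ∘ σ) r = cnt p a r :=
  Finset.card_equiv σ fun x => by
    simp only [Finset.mem_filter, Finset.mem_univ, true_and]
    exact Iff.rfl

theorem toNat_mod_of_dvd {p : ℕ} {x y : ℤ} (hx : 0 ≤ x) (hy : 0 ≤ y) (h : (p : ℤ) ∣ x - y) :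
    x.toNat % p = y.toNat % p := by
  refine Int.ofNat_inj.1 ?_
  rw [Int.natCast_mod, Int.natCast_mod, Int.toNat_of_nonneg hx, Int.toNat_of_nonneg hy]
  exact (Int.modEq_iff_dvd.2 h).symm

theorem rr_congr {p : ℕ} {a c : Fin N → ℤ} (ha : ∀ i, 0 ≤ a i) (hc : ∀ i, 0 ≤ c i)
    (h : ∀ i, (p : ℤ) ∣ a i - c i) (i : Fin N) : rr p a i = rr p c i :=
  toNat_mod_of_dvd (ha i) (hc i) (h i)

theorem rr_sub_single {p : ℕ} {a : Fin N → ℤ} (ha : ∀ i, 0 ≤ a i) {i : Fin N} {x : ℤ}
    (hx : (p : ℤ) ∣ x) (h : ∀ j, 0 ≤ (a - Pi.single i x : Fin N → ℤ) j) (j : Fin N) :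
    rr p (a - Pi.single i x) j = rr p a j :=
  rr_congr h ha (fun j => by rcases eq_or_ne j i with rfl | hj <;> simp_all) j

theorem rr_add_single {p : ℕ} {a : Fin N → ℤ} (ha : ∀ i, 0 ≤ a i) {i : Fin N} {x : ℤ}
    (hx : (p : ℤ) ∣ x) (hx0 : 0 ≤ x) (j : Fin N) : rr p (a + Pi.single i x) j = rr p a j :=
  rr_congr (fun j => by
      have := ha j
      rcases eq_or_ne j i with rfl | hj
      · simp only [Pi.add_apply, Pi.single_eq_same]; omega
      · simpa [hj] using this)
    ha (fun j => by rcases eq_or_ne j i with rfl | hj <;> simp_all) j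

/-- The number of points in cycles of length divisible by `p`. -/
def mp (p : ℕ) (μ : Multiset ℕ) : ℕ := (μ.filter (p ∣ ·)).sum

theorem mp_cons (p k : ℕ) (μ : Multiset ℕ) :
    mp p (k ::ₘ μ) = (if p ∣ k then k else 0) + mp p μ := by
  by_cases h : p ∣ k <;> simp [mp, h]

theorem mp_eq_sum {p n : ℕ} {μ : Multiset ℕ} (hs : μ.sum = n) (hp : ∀ i ∈ μ, 0 < i) :
    mp p μ = ∑ k ∈ Icc 1 n, if p ∣ k then k * μ.count k else 0 := by
  rw [mp, Finset.sum_multiset_count, ← Finset.sum_filter]
  refine (Finset.sum_congr rfl fun k hk => ?_).trans (Finset.sum_subset (fun k hk => ?_) ?_)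
  · rw [Multiset.count_filter_of_pos (Multiset.mem_filter.1 (Multiset.mem_toFinset.1 hk)).2,
      smul_eq_mul, mul_comm]
  · obtain ⟨h1, h2⟩ := Multiset.mem_filter.1 (Multiset.mem_toFinset.1 hk)
    exact Finset.mem_filter.2 ⟨Finset.mem_Icc.2 ⟨hp k h1, hs ▸ Multiset.le_sum_of_mem h1⟩, h2⟩
  · intro k hk hk'
    rw [Multiset.count_eq_zero.2 (fun h => hk' (Multiset.mem_toFinset.2
      (Multiset.mem_filter.2 ⟨h, (Finset.mem_filter.1 hk).2⟩))), mul_zero]

/-- Orthogonality of different cores, weighted by any function of the singular points. -/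
theorem avg_cross (p : ℕ) : ∀ (n : ℕ) (f : ℕ → ℂ) (a b : Fin N → ℤ), (∀ i, 0 ≤ a i) →
    (∀ i, 0 ≤ b i) → ∑ i, a i = n + ∑ i, delta N i → (¬ ∀ r, cnt p a r = cnt p b r) →
      avg n (fun μ => f (mp p μ) * ((chiM μ a : ℂ) * (chiM μ b : ℂ))) = 0 := by
  intro n
  induction n using Nat.strong_induction_on with
  | _ n IH =>
    intro f a b ha hb hs hne
    have h0 : avg n (fun μ => (chiM μ a : ℂ) * (chiM μ b : ℂ)) = 0 := by
      rw [avg_orth n a b ha hs, Int.cast_eq_zero]
      by_contra h
      obtain ⟨σ, rfl⟩ := exists_of_match_ne_zero h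
      exact hne fun r => cnt_comp p b σ r
    set g : ℕ → ℂ := fun m => (f m - f 0) / (m : ℂ) with hg
    have hf : ∀ m : ℕ, f m = f 0 + (m : ℂ) * g m := by
      intro m
      rcases Nat.eq_zero_or_pos m with rfl | hm
      · simp
      · rw [hg]
        simp only
        rw [mul_div_cancel₀ _ (Nat.cast_ne_zero.2 hm.ne')]
        ring
    rw [avg_congr (g := fun μ => f 0 * ((chiM μ a : ℂ) * (chiM μ b : ℂ)) +
      (∑ k ∈ Icc 1 n, (if p ∣ k then 1 else 0) * ((k * μ.count k : ℕ) : ℂ)) *
        (g (mp p μ) * ((chiM μ a : ℂ) * (chiM μ b : ℂ)))) fun μ hμ hp => ?_]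
    · rw [avg_add, avg_smul, h0, mul_zero, zero_add,
        avg_weight n (fun k => if p ∣ k then 1 else 0)
          (fun μ => g (mp p μ) * ((chiM μ a : ℂ) * (chiM μ b : ℂ)))]
      refine Finset.sum_eq_zero fun k hk => ?_
      by_cases hpk : p ∣ k
      swap
      · rw [if_neg hpk, zero_mul]
      rw [Finset.mem_Icc] at hk
      rw [if_pos hpk, one_mul]
      simp only [mp_cons, if_pos hpk, chiM_cons, Int.cast_sum, Finset.sum_mul_sum]
      simp only [Finset.mul_sum]
      rw [avg_sum]
      refine Finset.sum_eq_zero fun i _ => ?_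
      rw [avg_sum]
      refine Finset.sum_eq_zero fun j _ => ?_
      by_cases hnn : (∀ x, 0 ≤ (a - Pi.single i (k : ℤ) : Fin N → ℤ) x) ∧
          (∀ x, 0 ≤ (b - Pi.single j (k : ℤ) : Fin N → ℤ) x)
      · refine IH (n - k) (by omega) (fun m => g (k + m)) _ _ hnn.1 hnn.2 ?_ fun hr => hne fun r => ?_
        · rw [sum_sub_single, hs, Nat.cast_sub hk.2]
          ring
        · have h1 := hr r
          simp only [cnt] at h1 ⊢
          simp only [rr_sub_single ha (Int.natCast_dvd_natCast.2 hpk) hnn.1,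
            rr_sub_single hb (Int.natCast_dvd_natCast.2 hpk) hnn.2] at h1
          exact h1
      · rw [avg_congr (g := fun _ => (0 : ℂ)) fun ν _ _ => ?_]
        · simp [avg]
        · rcases not_and_or.1 hnn with h | h
          · rw [show chiM ν (a - Pi.single i (k : ℤ)) = 0 from by
              by_contra h'; exact h (chiM_support ν _ h').2.1]
            simp
          · rw [show chiM ν (b - Pi.single j (k : ℤ)) = 0 from by
              by_contra h'; exact h (chiM_support ν _ h').2.1]
            simp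
    · rw [hf (mp p μ), add_mul, mul_assoc]
      congr 2
      rw [mp_eq_sum hμ hp, Nat.cast_sum]
      refine Finset.sum_congr rfl fun k _ => ?_
      split_ifs <;> simp

variable {n : ℕ}

theorem regular_iff {p : ℕ} (hp : p.Prime) (g : Equiv.Perm (Fin n)) :
    ¬ p ∣ orderOf g ↔ mp p (parts g) = 0 := by
  have hpos : ∀ i ∈ parts g, 0 < i := fun i hi => g.partition.parts_pos hi
  rw [mp, Multiset.sum_eq_zero_iff]
  constructor
  · intro h x hx
    obtain ⟨hx1, hx2⟩ := Multiset.mem_filter.1 hx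
    exfalso
    rw [parts, Equiv.Perm.parts_partition] at hx1
    rcases Multiset.mem_add.1 hx1 with h1 | h1
    · exact h (hx2.trans (Equiv.Perm.dvd_of_mem_cycleType h1))
    · rw [Multiset.eq_of_mem_replicate h1] at hx2
      exact hp.ne_one (Nat.dvd_one.1 hx2)
  · intro h hd
    rw [← Equiv.Perm.lcm_cycleType] at hd
    have hd' : p ∣ g.cycleType.prod :=
      hd.trans (Multiset.lcm_dvd.2 fun x hx => Multiset.dvd_prod hx)
    obtain ⟨x, hx, hpx⟩ := hp.prime.exists_mem_multiset_dvd hd'
    have hmem : x ∈ parts g := by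
      rw [parts, Equiv.Perm.parts_partition]
      exact Multiset.mem_add.2 (Or.inl hx)
    exact (hpos x hmem).ne' (h x (Multiset.mem_filter.2 ⟨hmem, hpx⟩))

/-- States of different cores are orthogonal on the regular elements. -/
theorem regSum_cross {p : ℕ} (hp : p.Prime) (a b : Fin N → ℤ) (ha : ∀ i, 0 ≤ a i)
    (hb : ∀ i, 0 ≤ b i) (hs : ∑ i, a i = n + ∑ i, delta N i)
    (hne : ¬ ∀ r, cnt p a r = cnt p b r) :
    ∑ g ∈ Finset.univ.filter (fun g : Equiv.Perm (Fin n) => ¬ p ∣ orderOf g),
      chiG n a g * conj (chiG n b g) = 0 := by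
  have h := sum_parts_eq n
    (fun μ => (if mp p μ = 0 then (1 : ℂ) else 0) * ((chiM μ a : ℂ) * (chiM μ b : ℂ)))
  rw [avg_cross p n (fun m => if m = 0 then 1 else 0) a b ha hb hs hne, mul_zero] at h
  refine (Finset.sum_filter _ _).trans (Eq.trans (Finset.sum_congr rfl fun g _ => ?_) h)
  simp only [chiG, map_intCast, regular_iff hp]
  split_ifs <;> simp

set_option maxHeartbeats 800000 in
/-- The relation: adding a hook of length divisible by `p` in all ways gives zero on the regular
elements. -/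
theorem relation {p : ℕ} (hp : p.Prime) {n : ℕ} (c : Fin n → ℤ) (hc : ∀ i, 0 ≤ c i) {k : ℕ}
    (hk : 0 < k) (hpk : p ∣ k) (g : Equiv.Perm (Fin n)) (hg : ¬ p ∣ orderOf g) :
    ∑ i, chiG n (c + Pi.single i (k : ℤ)) g = 0 := by
  by_cases hlev : ∑ i, c i + k = n + ∑ i, delta n i
  swap
  · refine Finset.sum_eq_zero fun i _ => ?_
    rw [chiG, Int.cast_eq_zero]
    by_contra h
    have h1 := (chiM_support _ _ h).2.2
    rw [sum_parts] at h1
    simp [Finset.sum_add_distrib] at h1
    exact hlev h1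
  set F : Equiv.Perm (Fin n) → ℂ := fun x => ∑ i, chiG n (c + Pi.single i (k : ℤ)) x with hF
  set H : Equiv.Perm (Fin n) → ℂ := fun x =>
    ((k * (parts x).count k : ℕ) : ℂ) * (chiM ((parts x).erase k) c : ℂ) with hH
  have hFc : IsClassFunction (Equiv.Perm (Fin n)) F := fun x y => by
    simp only [hF]
    exact Finset.sum_congr rfl fun i _ => chiG_classFun _ x y
  have hHc : IsClassFunction (Equiv.Perm (Fin n)) H := fun x y => by
    simp only [hH]
    rw [parts_conj (isConj_iff.2 ⟨y, rfl⟩ : IsConj x (y * x * y⁻¹))]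
  have hFH : F = H := by
    refine ext_of_states hFc hHc fun b hb => ?_
    have hlhs : classInner F (chiG n b) = ((∑ j, match' c (b - Pi.single j (k : ℤ)) : ℤ) : ℂ) := by
      rw [show F = ∑ i, chiG n (c + Pi.single i (k : ℤ)) from funext fun x => by
        simp [hF, Finset.sum_apply], classInner_sum_left, sum_match_shift, Int.cast_sum]
      refine Finset.sum_congr rfl fun i _ => chiG_inner _ _ (fun j => ?_) ?_
      · have := hc j
        rcases eq_or_ne j i with rfl | hj
        · simp only [Pi.add_apply, Pi.single_eq_same]; omega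
        · simpa [hj] using this
      · simp [Finset.sum_add_distrib, hlev]
    rw [hlhs, classInner, Nat.card_perm, Nat.card_eq_fintype_card, Fintype.card_fin]
    simp only [hH, chiG, map_intCast]
    rw [sum_parts_eq n (fun μ => ((k * μ.count k : ℕ) : ℂ) * (chiM (μ.erase k) c : ℂ) *
      (chiM μ b : ℂ)), ← mul_assoc, inv_mul_cancel₀ (Nat.cast_ne_zero.2 (Nat.factorial_ne_zero n)),
      one_mul]
    by_cases hkn : k ≤ n
    · rw [avg_congr (g := fun μ => (∑ x ∈ Icc 1 n, (if x = k then 1 else 0) *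
        ((x * μ.count x : ℕ) : ℂ)) * ((chiM (μ.erase k) c : ℂ) * (chiM μ b : ℂ))) fun μ _ _ => ?_,
        avg_weight n (fun x => if x = k then 1 else 0)
          (fun μ => (chiM (μ.erase k) c : ℂ) * (chiM μ b : ℂ))]
      · rw [Finset.sum_eq_single k (fun x _ hx => by rw [if_neg hx, zero_mul])
          (fun h => absurd (Finset.mem_Icc.2 ⟨hk, hkn⟩) h), if_pos rfl, one_mul]
        simp only [Multiset.erase_cons_head, chiM_cons, Int.cast_sum, Finset.mul_sum]
        rw [avg_sum]
        refine Finset.sum_congr rfl fun j _ => (avg_orth (n - k) c _ hc ?_).symm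
        rw [Nat.cast_sub hkn]
        linarith
      · rw [Finset.sum_eq_single k (fun x _ hx => by rw [if_neg hx, zero_mul])
          (fun h => absurd (Finset.mem_Icc.2 ⟨hk, hkn⟩) h), if_pos rfl, one_mul, mul_assoc]
    · rw [avg_congr (g := fun _ => (0 : ℂ)) fun μ hμ _ => ?_]
      · rw [Finset.sum_eq_zero, Int.cast_zero]
        · simp [avg]
        · intro j _
          by_contra h
          have h1 := (total_bound (injective_of_match_ne_zero h) hc).1
          omega
      · rw [Multiset.count_eq_zero.2 fun h => hkn (hμ ▸ Multiset.le_sum_of_mem h)]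
        simp
  have hcount : (parts g).count k = 0 := by
    refine Multiset.count_eq_zero.2 fun h => ?_
    have h1 := (regular_iff hp g).1 hg
    rw [mp, Multiset.sum_eq_zero_iff] at h1
    exact hk.ne' (h1 k (Multiset.mem_filter.2 ⟨h, hpk⟩))
  have h2 : H g = 0 := by
    simp only [hH, hcount, mul_zero, Nat.cast_zero, zero_mul]
  have h3 : F g = 0 := (congrFun hFH g).trans h2
  simpa only [hF] using h3

end Cfsg.Agent.Char.SymChar
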