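import Cfsg.Agent.Lib.Char.SymChar.Nakayama
import Cfsg.Agent.Lib.Char.SymChar.HeightArith

/-!
The defect and the heights of the blocks of the symmetric groups.
-/

set_option autoImplicit false

namespace Cfsg.Agent.Char.SymChar

open Finset

variable {n p : ℕ} [Fact p.Prime] {M : Ideal AlgInt}
  {B : Set (IrrCharacter (Equiv.Perm (Fin n)))} {m : ℕ → ℕ} {W : ℕ}

/-- The members of the block have states of the given core and weight. -/
def HasCore (p : ℕ) (B : Set (IrrCharacter (Equiv.Perm (Fin n)))) (m : ℕ → ℕ) (W : ℕ) : Prop :=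
  ∀ ξ ∈ B, ∃ a : Fin n → ℤ, IsState n a ∧ IsW p m W a ∧
    ∃ e : ℤ, (e = 1 ∨ e = -1) ∧ chiG n a = (e : ℂ) • (ξ : Equiv.Perm (Fin n) → ℂ)

theorem sum_hv_le (hp : p.Prime) {Q : ℕ → Finset ℕ} (h : ∑ r ∈ range p, excN (Q r) = W) :
    ∑ r ∈ range p, hv p (Q r) ≤ W.factorial.factorization p := by
  refine le_trans (Finset.sum_le_sum fun r _ => hv_le hp (Q r)) ?_
  rw [← factorization_prod_apply _ _ (fun r _ => Nat.factorial_ne_zero _), ← h]
  exact (Nat.factorization_le_iff_dvd (Finset.prod_ne_zero_iff.2 fun r _ => Nat.factorial_ne_zero _)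
    (Nat.factorial_ne_zero _)).2 (Nat.prod_factorial_dvd_factorial_sum _ _) p

theorem HasCore.exists_state (hM : IsPModular p M) (hB : IsPBlock M B) (hm : HasCore p B m W) :
    ∃ a : Fin n → ℤ, IsState n a ∧ IsW p m W a := by
  obtain ⟨χ, hχ⟩ := Block.pblock_nonempty hM hB
  obtain ⟨a, ha, hW, -⟩ := hm χ hχ
  exact ⟨a, ha, hW⟩

theorem HasCore.exists_char (hM : IsPModular p M) (hB : IsPBlock M B) (hm : HasCore p B m W)
    {a : Fin n → ℤ} (ha : IsState n a) (hW : IsW p m W a) :
    ∃ ξ ∈ B, ∃ e : ℤ, (e = 1 ∨ e = -1) ∧ chiG n a = (e : ℂ) • (ξ : Equiv.Perm (Fin n) → ℂ) := by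
  obtain ⟨χ, hχ⟩ := Block.pblock_nonempty hM hB
  obtain ⟨b, hb, hWb, f, hf, hfb⟩ := hm χ hχ
  obtain ⟨ξ, e, he, hea⟩ := exists_irr_of_state ha
  refine ⟨ξ, ?_, e, he, hea⟩
  rw [Block.pblock_eq_blockOf hM hB hχ]
  exact same_block hM hb ha hWb hW hf he hfb hea

theorem card_perm_fin : Nat.card (Equiv.Perm (Fin n)) = n.factorial := by
  rw [Nat.card_perm, Nat.card_eq_fintype_card, Fintype.card_fin]

theorem HasCore.defect_eq (hM : IsPModular p M) (hB : IsPBlock M B) (hm : HasCore p B m W) :
    blockDefect p B = W + W.factorial.factorization p := by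
  classical
  have hp : p.Prime := Fact.out
  refine le_antisymm ?_ ?_
  · obtain ⟨χ, hχ, h0⟩ := Block.exists_height_zero hM hB
    obtain ⟨a, ha, hW, e, he, hea⟩ := hm χ hχ
    have h1 := (Block.blockHeight_zero_iff hM hB hχ).1 h0
    have h2 := degree_runners hp ha hW he hea
    have h3 := sum_hv_le hp (hW.runners hp.pos ha.1.injective).2
    rw [card_perm_fin] at h1
    omega
  · obtain ⟨a₀, ha₀, hW₀⟩ := hm.exists_state hM hB
    obtain ⟨hc₀, -⟩ := hW₀.runners hp.pos ha₀.1.injective
    obtain ⟨Q, hQc, hQe, hQv⟩ : ∃ Q : ℕ → Finset ℕ, (∀ r ∈ range p, (Q r).card = m r) ∧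
        ∑ r ∈ range p, excN (Q r) = W ∧ ∑ r ∈ range p, hv p (Q r) = W.factorial.factorization p := by
      rcases Nat.eq_zero_or_pos W with rfl | h0
      · exact ⟨fun r => range (m r), fun r _ => Finset.card_range _,
          Finset.sum_eq_zero fun r _ => excN_range _, by
          rw [Finset.sum_eq_zero fun r _ => hv_range p _, Nat.factorial_zero]; simp⟩
      · have h0m := runner_pos hp.pos ha₀ hW₀ h0 (Finset.mem_range.2 hp.pos)
        refine ⟨fun r => if r = 0 then rowSet (m r) W else range (m r), fun r _ => ?_, ?_, ?_⟩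
        · simp only
          split_ifs with h
          · subst h; exact (rowSet_spec p h0m W).1
          · exact Finset.card_range _
        · rw [Finset.sum_eq_single 0 (fun r _ h => by simp [h, excN_range])
            (fun h => absurd (Finset.mem_range.2 hp.pos) h)]
          simp only [if_pos]
          exact (rowSet_spec p h0m W).2.1
        · rw [Finset.sum_eq_single 0 (fun r _ h => by simp [h, hv_range])
            (fun h => absurd (Finset.mem_range.2 hp.pos) h)]
          simp only [if_pos]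
          exact (rowSet_spec p h0m W).2.2
    obtain ⟨a, ha, hW, hrun⟩ := exists_state_runners hp.pos ha₀ hW₀ Q hQc hQe
    obtain ⟨ξ, hξ, e, he, hea⟩ := hm.exists_char hM hB ha hW
    have h2 := degree_runners hp ha hW he hea
    rw [Finset.sum_congr rfl fun r hr => show hv p (runner p (valSet a) r) = hv p (Q r) by
      rw [hrun r hr], hQv] at h2
    have h1 := Block.le_defect_add hM hB hξ
    rw [card_perm_fin] at h1
    omega

theorem HasCore.height_add (hM : IsPModular p M) (hB : IsPBlock M B) (hm : HasCore p B m W)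
    {χ : IrrCharacter (Equiv.Perm (Fin n))} (hχ : χ ∈ B) :
    ∃ a : Fin n → ℤ, IsState n a ∧ IsW p m W a ∧
      (∃ e : ℤ, (e = 1 ∨ e = -1) ∧ chiG n a = (e : ℂ) • (χ : Equiv.Perm (Fin n) → ℂ)) ∧
      blockHeight p B (χ : Equiv.Perm (Fin n) → ℂ) +
        ∑ r ∈ range p, hv p (runner p (valSet a) r) = W.factorial.factorization p := by
  have hp : p.Prime := Fact.out
  obtain ⟨a, ha, hW, e, he, hea⟩ := hm χ hχ
  refine ⟨a, ha, hW, ⟨e, he, hea⟩, ?_⟩
  have h2 := degree_runners hp ha hW he hea
  have h3 := sum_hv_le hp (hW.runners hp.pos ha.1.injective).2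
  rw [Block.blockHeight_eq hM hB hχ, hm.defect_eq hM hB, card_perm_fin]
  omega

/-- Below weight `p` all heights are zero. -/
theorem HasCore.height_eq_zero (hM : IsPModular p M) (hB : IsPBlock M B) (hm : HasCore p B m W)
    (hW : W < p) {χ : IrrCharacter (Equiv.Perm (Fin n))} (hχ : χ ∈ B) :
    blockHeight p B (χ : Equiv.Perm (Fin n) → ℂ) = 0 := by
  have hp : p.Prime := Fact.out
  obtain ⟨a, -, -, -, h⟩ := hm.height_add hM hB hχ
  rw [Nat.factorization_eq_zero_of_not_dvd (show ¬ p ∣ W.factorial from fun hd =>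
    absurd ((Nat.Prime.dvd_factorial hp).1 hd) (not_le.2 hW))] at h
  omega

theorem charDegree_twist (χ : IrrCharacter (Equiv.Perm (Fin n))) :
    charDegree ((twist χ : IrrCharacter _) : Equiv.Perm (Fin n) → ℂ) =
      charDegree (χ : Equiv.Perm (Fin n) → ℂ) := by
  rw [charDegree, charDegree, twist_apply, Equiv.Perm.sign_one]
  simp

/-- In weight two at the prime two a character of positive height is fixed by the twist. -/
theorem HasCore.twist_eq_of_two {M : Ideal AlgInt} (hM : IsPModular 2 M)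
    {B : Set (IrrCharacter (Equiv.Perm (Fin n)))} (hB : IsPBlock M B) {m : ℕ → ℕ}
    (hm : HasCore 2 B m 2) {χ : IrrCharacter (Equiv.Perm (Fin n))} (hχ : χ ∈ B)
    (h : blockHeight 2 B (χ : Equiv.Perm (Fin n) → ℂ) ≠ 0) : twist χ = χ := by
  haveI : Fact (Nat.Prime 2) := ⟨Nat.prime_two⟩
  have key : ∀ η ∈ B, blockHeight 2 B (η : Equiv.Perm (Fin n) → ℂ) ≠ 0 →
      ∃ a : Fin n → ℤ, IsState n a ∧
        (∃ e : ℤ, (e = 1 ∨ e = -1) ∧ chiG n a = (e : ℂ) • (η : Equiv.Perm (Fin n) → ℂ)) ∧
        ∀ r ∈ range 2, runner 2 (valSet a) r = rowSet (m r) 1 := by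
    intro η hη hne
    obtain ⟨a, ha, hW, he, hh⟩ := hm.height_add hM hB hη
    refine ⟨a, ha, he, ?_⟩
    obtain ⟨hc, hsum⟩ := hW.runners two_pos ha.1.injective
    rw [show Nat.factorial 2 = 2 from rfl, Nat.prime_two.factorization_self] at hh
    have hz : ∀ r ∈ range 2, excN (runner 2 (valSet a) r) ≠ 2 := fun r hr h2 => by
      have h1 := one_le_hv_two h2
      have h4 := Finset.single_le_sum (f := fun r => hv 2 (runner 2 (valSet a) r))
        (fun _ _ => Nat.zero_le _) hr
      omega
    intro r hr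
    have h1 : excN (runner 2 (valSet a) r) = 1 := by
      rw [show range 2 = {0, 1} by decide, Finset.sum_pair zero_ne_one] at hsum
      have h0' := hz 0 (by simp)
      have h1' := hz 1 (by simp)
      have : r = 0 ∨ r = 1 := by have := Finset.mem_range.1 hr; omega
      rcases this with rfl | rfl <;> omega
    rw [eq_row_of_excN_one h1, hc r hr]
  have htw : twist χ ∈ B := by
    rw [← twistSet_eq_of_two hM hB]
    show twist (twist χ) ∈ B
    rwa [twist_twist]
  obtain ⟨a, ha, ⟨e, he, hea⟩, hra⟩ := key χ hχ h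
  obtain ⟨b, hb, ⟨f, hf, hfb⟩, hrb⟩ := key (twist χ) htw (by
    rw [Block.blockHeight_eq hM hB htw, charDegree_twist, ← Block.blockHeight_eq hM hB hχ]
    exact h)
  obtain rfl := state_eq_of_runners two_pos ha hb fun r hr => by rw [hra r hr, hrb r hr]
  refine Subtype.ext (funext fun g => ?_)
  have h1 := congrFun (hea.symm.trans hfb) g
  simp only [Pi.smul_apply, smul_eq_mul] at h1
  have h2 := congrFun (hea.symm.trans hfb) 1
  simp only [Pi.smul_apply, smul_eq_mul, twist_apply, Equiv.Perm.sign_one, Units.val_one,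
    Int.cast_one, one_mul] at h2
  have h3 : (e : ℂ) = f := mul_right_cancel₀ (Block.irr_one_ne_zero χ) h2
  rw [← h3] at h1
  exact (mul_left_cancel₀ (by rcases he with rfl | rfl <;> simp) h1).symm

/-- From weight `p` on some character has height one, and at the prime two it is moved by the
twist. -/
theorem HasCore.exists_height_one (hM : IsPModular p M) (hB : IsPBlock M B) (hm : HasCore p B m W)
    (hW : p ≤ W) (h3 : p = 2 → 3 ≤ W) :
    ∃ χ ∈ B, blockHeight p B (χ : Equiv.Perm (Fin n) → ℂ) = 1 ∧ (p = 2 → twist χ ≠ χ) := by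
  classical
  have hp : p.Prime := Fact.out
  obtain ⟨a₀, ha₀, hW₀⟩ := hm.exists_state hM hB
  have h0 : 0 < W := lt_of_lt_of_le hp.pos hW
  have hpos : ∀ r ∈ range p, 0 < m r := fun r hr => runner_pos hp.pos ha₀ hW₀ h0 hr
  have hbig : ∃ r ∈ range p, p ≤ m r := by
    by_contra hno
    push Not at hno
    obtain ⟨hc₀, -⟩ := hW₀.runners hp.pos ha₀.1.injective
    obtain ⟨b1, -⟩ := build_spec hp.pos (runner p (valSet a₀))
    rw [build_runner hp.pos, (excN_of_state ha₀).1] at b1
    obtain ⟨-, hg, hsum, -⟩ := chiM_core hp.pos W a₀ hW₀ ha₀.1.injective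
    have hlow := (total_bound hg (chiM_core hp.pos W a₀ hW₀ ha₀.1.injective).1).1
    have hle : ((p * W : ℕ) : ℤ) ≤ n := by have := ha₀.2.2; push_cast; omega
    have hlt : ∑ r ∈ range p, (runner p (valSet a₀) r).card < ∑ _r ∈ range p, p :=
      Finset.sum_lt_sum_of_nonempty ⟨0, Finset.mem_range.2 hp.pos⟩ fun r hr => by
        rw [hc₀ r hr]; exact hno r hr
    rw [← b1, Finset.sum_const, Finset.card_range, smul_eq_mul] at hlt
    have h5 : p * p ≤ p * W := Nat.mul_le_mul_left p hW
    have : p * W ≤ n := by exact_mod_cast hle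
    omega
  obtain ⟨Q, hQc, hQe, hQv, hQ2⟩ := exists_runners_short hp hW h3 hpos hbig
  obtain ⟨a, ha, hWa, hrun⟩ := exists_state_runners hp.pos ha₀ hW₀ Q hQc hQe
  obtain ⟨χ, hχ, e, he, hea⟩ := hm.exists_char hM hB ha hWa
  refine ⟨χ, hχ, ?_, fun h2 htw => ?_⟩
  · obtain ⟨a', ha', hWa', ⟨e', he', hea'⟩, hh⟩ := hm.height_add hM hB hχ
    obtain rfl := state_unique ha ha' he he' hea hea'
    rw [Finset.sum_congr rfl fun r hr => show hv p (runner p (valSet a) r) = hv p (Q r) by
      rw [hrun r hr]] at hh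
    omega
  · subst h2
    have hsym : IsSym a := by
      refine isSym_of_sign ha fun g => ?_
      have h := congrFun (congrArg Subtype.val htw) g
      rw [twist_apply] at h
      rw [hea, Pi.smul_apply, smul_eq_mul, mul_left_comm, h]
    have hpr : pr n 2 0 = 1 := by simp only [pr]; omega
    have hex := excess_pr two_pos hsym.symSet (r := 0) two_pos
    rw [hpr] at hex
    have hcast : ∀ S : Finset ℕ, (2 * ∑ x ∈ S, (x : ℤ)) - (S.card : ℤ) * ((S.card : ℤ) - 1) =
        2 * (excN S : ℤ) := by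
      intro S
      have h := congrArg (Nat.cast : ℕ → ℤ) (two_sum_eq S)
      push_cast at h
      rcases Nat.eq_zero_or_pos S.card with h0 | h0
      · rw [h0] at h ⊢; push_cast at h ⊢; linarith
      · rw [Nat.cast_sub h0] at h; push_cast at h; linarith
    rw [hcast, hcast, hrun 0 (by simp), hrun 1 (by simp)] at hex
    rcases hQ2 rfl with hne | ⟨q, hq, hQ0, hQ1⟩
    · exact hne (by exact_mod_cast (mul_left_cancel₀ two_ne_zero hex.symm))
    have hm0 := hpos 0 (by simp)
    have hm1 := hpos 1 (by simp)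
    have hrp := runner_pr two_pos hsym.symSet (r := 0) two_pos
    rw [hpr, hrun 0 (by simp), hrun 1 (by simp), show (2 * n + 2 - 1 - 0) / 2 = n by omega] at hrp
    have hsub : Q 0 ⊆ range n := by
      intro x hx
      rw [← hrun 0 (by simp), mem_runner two_pos] at hx
      have := ((hsym.symSet _).1 hx).1
      exact Finset.mem_range.2 (by omega)
    have hm0n : m 0 ≤ n := by
      rw [← hQc 0 (by simp)]
      exact (Finset.card_le_card hsub).trans (Finset.card_range n).le
    have hm1n : m 1 = n - m 0 := by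
      rw [← hQc 1 (by simp), hrp, Finset.card_image_of_injOn, Finset.card_sdiff_of_subset hsub,
        Finset.card_range, hQc 0 (by simp)]
      intro x hx y hy hxy
      have := Finset.mem_range.1 (Finset.mem_sdiff.1 hx).1
      have := Finset.mem_range.1 (Finset.mem_sdiff.1 hy).1
      simp only at hxy
      omega
    have hmem : n - m 0 ∈ Q 1 := by
      rw [hrp, Finset.mem_image]
      refine ⟨m 0 - 1, Finset.mem_sdiff.2 ⟨Finset.mem_range.2 (by omega), ?_⟩, by omega⟩
      rw [hQ0]
      simp only [rowSet, Finset.mem_insert, Finset.mem_range]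
      omega
    rw [hQ1] at hmem
    simp only [rowSet, Finset.mem_insert, Finset.mem_range] at hmem
    omega

end Cfsg.Agent.Char.SymChar
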