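import Cfsg.Agent.Lib.Char.SymChar.Weight
import Mathlib.Combinatorics.Colex

/-!
Conjugate tuples: multiplication by the sign, symmetric tuples, their hooks, and the triangularity
of the values of their class functions at their own classes.
-/

set_option autoImplicit false

namespace Cfsg.Agent.Char.SymChar

open Finset

variable {N : ℕ}

/-- The reflection of a tuple in `[0, 2N)`. -/
def refl' (c : Fin N → ℤ) : Fin N → ℤ := fun i => 2 * (N : ℤ) - 1 - c i

/-- The concatenation of the two halves of the initial tuple. -/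
def deltaTwo (N : ℕ) : Fin (N + N) → ℤ := Fin.append (delta N) (refl' (delta N))

/-- The sign of a splitting of `[0, 2N)`. -/
def sg (a c : Fin N → ℤ) : ℤ := match' (Fin.append a c) (deltaTwo N)

/-- The values lie in `[0, 2N)`. -/
def InBox (a : Fin N → ℤ) : Prop := ∀ i, 0 ≤ a i ∧ a i < 2 * (N : ℤ)

theorem InBox.refl' {c : Fin N → ℤ} (h : InBox c) : InBox (refl' c) := fun i => by
  have := h i
  simp only [SymChar.refl']
  omega

theorem exists_perm_delta {a : Fin N → ℤ} (hinj : Function.Injective a)
    (ha : ∀ i, 0 ≤ a i ∧ a i < (N : ℤ)) : ∃ σ : Equiv.Perm (Fin N), a = delta N ∘ σ := by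
  let σ : Fin N → Fin N := fun i => ⟨N - 1 - (a i).toNat, by have := ha i; omega⟩
  have hσ : Function.Injective σ := fun i j h => hinj (by
    have := ha i
    have := ha j
    have := congrArg Fin.val h
    simp only [σ] at this
    omega)
  refine ⟨Equiv.ofBijective σ (Finite.injective_iff_bijective.1 hσ), funext fun i => ?_⟩
  have := ha i
  simp only [Function.comp_apply, Equiv.ofBijective_apply, σ, delta]
  omega

theorem delta_lt (i : Fin N) : delta N i < (N : ℤ) := by
  have := i.2
  simp only [delta]
  omega

theorem mem_append {a c : Fin N → ℤ} (hinj : Function.Injective (Fin.append a c)) (ha : InBox a)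
    (hc : InBox c) {x : ℤ} (h0 : 0 ≤ x) (h1 : x < 2 * (N : ℤ)) :
    (∃ i, a i = x) ∨ ∃ j, c j = x := by
  classical
  have himg : (Finset.univ : Finset (Fin (N + N))).image (Fin.append a c) =
      Finset.Ico (0 : ℤ) (2 * (N : ℤ)) := by
    refine Finset.eq_of_subset_of_card_le (fun y hy => ?_) ?_
    · obtain ⟨i, -, rfl⟩ := Finset.mem_image.1 hy
      refine Fin.addCases (fun j => ?_) (fun j => ?_) i
      · rw [Fin.append_left]; exact Finset.mem_Ico.2 (ha j)
      · rw [Fin.append_right]; exact Finset.mem_Ico.2 (hc j)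
    · rw [Finset.card_image_of_injective _ hinj, Finset.card_univ, Fintype.card_fin, Int.card_Ico]
      omega
  have hx : x ∈ Finset.Ico (0 : ℤ) (2 * (N : ℤ)) := Finset.mem_Ico.2 ⟨h0, h1⟩
  rw [← himg, Finset.mem_image] at hx
  obtain ⟨i, -, hi⟩ := hx
  revert hi
  refine Fin.addCases (fun j hi => ?_) (fun j hi => ?_) i
  · exact Or.inl ⟨j, by rwa [Fin.append_left] at hi⟩
  · exact Or.inr ⟨j, by rwa [Fin.append_right] at hi⟩

theorem deltaTwo_injective : Function.Injective (deltaTwo N) :=
  Fin.append_injective_iff.2 ⟨delta_strictAnti.injective, fun i j hij => delta_strictAnti.injective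
    (by simp only [refl'] at hij; omega), fun i j hij => by
      have := delta_lt i; have := delta_lt j; simp only [refl'] at hij; omega⟩

theorem sg_ne_zero {a c : Fin N → ℤ} (hinj : Function.Injective (Fin.append a c)) (ha : InBox a)
    (hc : InBox c) : sg a c ≠ 0 := by
  have hsurj : ∀ x, ∃ y, deltaTwo N y = Fin.append a c x := by
    intro x
    have hx : 0 ≤ Fin.append a c x ∧ Fin.append a c x < 2 * (N : ℤ) := by
      refine Fin.addCases (fun j => ?_) (fun j => ?_) x
      · rw [Fin.append_left]; exact ha j
      · rw [Fin.append_right]; exact hc j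
    rcases mem_append deltaTwo_injective (fun i => ⟨delta_nonneg i, by have := delta_lt i; omega⟩)
      (fun i => by have := delta_lt i; have := delta_nonneg i; simp only [refl']; omega)
      hx.1 hx.2 with ⟨i, hi⟩ | ⟨i, hi⟩
    · exact ⟨Fin.castAdd N i, by rw [deltaTwo, Fin.append_left]; exact hi⟩
    · exact ⟨Fin.natAdd N i, by rw [deltaTwo, Fin.append_right]; exact hi⟩
  choose σ hσ using hsurj
  have hσi : Function.Injective σ := fun x y hxy => hinj (by rw [← hσ x, ← hσ y, hxy])
  rw [sg, show Fin.append a c = deltaTwo N ∘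
    Equiv.ofBijective σ (Finite.injective_iff_bijective.1 hσi) from funext fun x => (hσ x).symm,
    match_comp, match_self deltaTwo_injective, mul_one]
  exact Units.ne_zero _

theorem match_refl {a c : Fin N → ℤ} (hinj : Function.Injective (Fin.append a c)) (ha : InBox a)
    (hc : InBox c) : match' (refl' c) (delta N) = sg a c * match' a (delta N) := by
  have hai : Function.Injective a := fun i j h =>
    Fin.castAdd_injective _ _ (hinj (by simpa using h))
  have hci : Function.Injective c := fun i j h =>
    Fin.natAdd_injective _ _ (hinj (by rw [Fin.append_right, Fin.append_right]; exact h))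
  have hsep : ∀ i j, a i ≠ c j := fun i j h => by
    have h1 := congrArg Fin.val (hinj (a₁ := Fin.castAdd N i) (a₂ := Fin.natAdd N j)
      (by rw [Fin.append_left, Fin.append_right]; exact h))
    simp only [Fin.val_castAdd, Fin.val_natAdd] at h1
    omega
  by_cases hlow : ∀ i, a i < (N : ℤ)
  · obtain ⟨σ, hσ⟩ := exists_perm_delta hai fun i => ⟨(ha i).1, hlow i⟩
    have hhigh : ∀ j, (N : ℤ) ≤ c j := by
      intro j
      by_contra h
      push Not at h
      let y : Fin N := ⟨N - 1 - (c j).toNat, by have := hc j; omega⟩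
      refine hsep (σ.symm y) j ?_
      rw [hσ, Function.comp_apply, Equiv.apply_symm_apply]
      have := hc j
      simp only [y, delta]
      omega
    obtain ⟨π, hπ⟩ := exists_perm_delta (a := refl' c) (fun i j h => hci (by
      simp only [refl'] at h; omega)) fun i => by
      have := hc i
      have := hhigh i
      simp only [refl']
      omega
    have happ : Fin.append a c =
        deltaTwo N ∘ (finSumFinEquiv.permCongr (Equiv.Perm.sumCongr σ π)) := by
      funext x
      refine Fin.addCases (fun i => ?_) (fun i => ?_) x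
      · simp [deltaTwo, Equiv.permCongr_apply, hσ, finSumFinEquiv_symm_apply_castAdd]
      · have := congrFun hπ i
        simp only [refl', Function.comp_apply] at this
        rw [Fin.append_right, Function.comp_apply, Equiv.permCongr_apply,
          finSumFinEquiv_symm_apply_natAdd, Equiv.Perm.sumCongr_apply, Sum.map_inr,
          finSumFinEquiv_apply_right, deltaTwo, Fin.append_right, refl']
        omega
    rw [sg, happ, match_comp, match_self deltaTwo_injective, mul_one, hπ, hσ, match_comp, match_comp,
      match_self delta_strictAnti.injective, mul_one, mul_one, Equiv.Perm.sign_permCongr,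
      Equiv.Perm.sign_sumCongr, Units.val_mul]
    rcases Int.units_eq_one_or (Equiv.Perm.sign σ) with h | h <;> simp [h]
  · rw [show match' a (delta N) = 0 from ?_, mul_zero]
    · by_contra h
      obtain ⟨π, hπ⟩ := exists_of_match_ne_zero h
      push Not at hlow
      obtain ⟨i, hi⟩ := hlow
      let y : Fin N := ⟨N - 1 - (2 * (N : ℤ) - 1 - a i).toNat, by have := ha i; omega⟩
      have hy : ((y : ℕ) : ℤ) = (N : ℤ) - 1 - (2 * (N : ℤ) - 1 - a i) := by
        have := ha i
        simp only [y]
        omega
      have h1 := congrFun hπ (π.symm y)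
      simp only [refl', Function.comp_apply, Equiv.apply_symm_apply, delta] at h1
      refine hsep i (π.symm y) ?_
      have := y.2
      omega
    · by_contra h
      obtain ⟨σ, hσ⟩ := exists_of_match_ne_zero h
      exact hlow fun i => by rw [hσ]; exact delta_lt _

/-- Multiplication by the sign, on tuples. -/
theorem chiM_refl (μ : Multiset ℕ) : (∀ k ∈ μ, 0 < k) → ∀ a c : Fin N → ℤ,
    Function.Injective (Fin.append a c) → InBox a → InBox c →
      chiM μ (refl' c) = (-1) ^ Multiset.card μ * sg a c * chiM μ a := by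
  classical
  induction μ using Multiset.induction_on with
  | empty =>
    intro _ a c hinj ha hc
    simp only [chiM_zero, Multiset.card_zero, pow_zero, one_mul]
    exact match_refl hinj ha hc
  | cons k μ ih =>
    intro hpos a c hinj ha hc
    have hk : (0 : ℤ) < (k : ℤ) := by exact_mod_cast hpos k (Multiset.mem_cons_self k μ)
    have hμ : ∀ x ∈ μ, 0 < x := fun x hx => hpos x (Multiset.mem_cons_of_mem hx)
    have hai : Function.Injective a := fun i j h =>
      Fin.castAdd_injective _ _ (hinj (by simpa using h))
    have hci : Function.Injective c := fun i j h =>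
      Fin.natAdd_injective _ _ (hinj (by rw [Fin.append_right, Fin.append_right]; exact h))
    rw [chiM_cons, chiM_cons, Finset.mul_sum]
    set f : Fin N → ℤ := fun j => chiM μ (refl' c - Pi.single j (k : ℤ)) with hf
    set g : Fin N → ℤ := fun i => chiM μ (a - Pi.single i (k : ℤ)) with hg
    have hf0 : ∀ j, f j ≠ 0 → ∃ i, c j + k = a i := by
      intro j hj
      obtain ⟨h1, h2, -⟩ := chiM_support _ _ hj
      have h3 := h2 j
      simp only [Pi.sub_apply, Pi.single_eq_same, refl'] at h3
      have := hc j
      rcases mem_append hinj ha hc (x := c j + k) (by omega) (by omega) with ⟨i, hi⟩ | ⟨l, hl⟩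
      · exact ⟨i, hi.symm⟩
      · exfalso
        have hlj : l ≠ j := fun h => by subst h; omega
        refine hlj (h1 ?_)
        simp only [Pi.sub_apply, Pi.single_eq_same, Pi.single_eq_of_ne hlj, refl']
        omega
    have hg0 : ∀ i, g i ≠ 0 → ∃ j, c j + k = a i := by
      intro i hi
      obtain ⟨h1, h2, -⟩ := chiM_support _ _ hi
      have h3 := h2 i
      simp only [Pi.sub_apply, Pi.single_eq_same] at h3
      have := ha i
      rcases mem_append hinj ha hc (x := a i - k) (by omega) (by omega) with ⟨l, hl⟩ | ⟨j, hj⟩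
      · exfalso
        have hli : l ≠ i := fun h => by subst h; omega
        refine hli (h1 ?_)
        simp only [Pi.sub_apply, Pi.single_eq_same, Pi.single_eq_of_ne hli]
        omega
      · exact ⟨j, by omega⟩
    have hterm : ∀ i j, c j + k = a i →
        f j = (-1) ^ Multiset.card (k ::ₘ μ) * sg a c * g i := by
      intro i j hij
      have happ : Fin.append (a - Pi.single i (k : ℤ)) (c + Pi.single j (k : ℤ)) =
          Fin.append a c ∘ Equiv.swap (Fin.castAdd N i) (Fin.natAdd N j) := by
        funext x
        refine Fin.addCases (fun y => ?_) (fun y => ?_) x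
        · rcases eq_or_ne y i with rfl | hy
          · rw [Fin.append_left, Function.comp_apply, Equiv.swap_apply_left, Fin.append_right,
              Pi.sub_apply, Pi.single_eq_same]
            omega
          · have hne : Fin.castAdd N y ≠ Fin.natAdd N j := fun h => by
              have := congrArg Fin.val h
              simp only [Fin.val_castAdd, Fin.val_natAdd] at this
              omega
            rw [Fin.append_left, Function.comp_apply, Equiv.swap_apply_of_ne_of_ne
              (fun h => hy (Fin.castAdd_injective _ _ h)) hne, Fin.append_left, Pi.sub_apply,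
              Pi.single_eq_of_ne hy, sub_zero]
        · rcases eq_or_ne y j with rfl | hy
          · rw [Fin.append_right, Function.comp_apply, Equiv.swap_apply_right, Fin.append_left,
              Pi.add_apply, Pi.single_eq_same]
            omega
          · have hne : Fin.natAdd N y ≠ Fin.castAdd N i := fun h => by
              have := congrArg Fin.val h
              simp only [Fin.val_castAdd, Fin.val_natAdd] at this
              omega
            rw [Fin.append_right, Function.comp_apply, Equiv.swap_apply_of_ne_of_ne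
              hne (fun h => hy (Fin.natAdd_injective _ _ h)), Fin.append_right, Pi.add_apply,
              Pi.single_eq_of_ne hy, add_zero]
      have hinj' : Function.Injective
          (Fin.append (a - Pi.single i (k : ℤ)) (c + Pi.single j (k : ℤ))) :=
        happ ▸ hinj.comp (Equiv.injective _)
      have ha' : InBox (a - Pi.single i (k : ℤ)) := fun y => by
        rcases eq_or_ne y i with rfl | hy
        · rw [Pi.sub_apply, Pi.single_eq_same]
          have := ha y
          have := hc j
          omega
        · rw [Pi.sub_apply, Pi.single_eq_of_ne hy, sub_zero]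
          exact ha y
      have hc' : InBox (c + Pi.single j (k : ℤ)) := fun y => by
        rcases eq_or_ne y j with rfl | hy
        · rw [Pi.add_apply, Pi.single_eq_same, hij]
          exact ha i
        · rw [Pi.add_apply, Pi.single_eq_of_ne hy, add_zero]
          exact hc y
      have hne : Fin.castAdd N i ≠ Fin.natAdd N j := fun h => by
        have := congrArg Fin.val h
        simp only [Fin.val_castAdd, Fin.val_natAdd] at this
        omega
      have hsg : sg (a - Pi.single i (k : ℤ)) (c + Pi.single j (k : ℤ)) = - sg a c := by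
        rw [sg, happ, match_comp, Equiv.Perm.sign_swap hne, sg]
        simp
      have h := ih hμ _ _ hinj' ha' hc'
      rw [hsg] at h
      have hre : refl' (c + Pi.single j (k : ℤ)) = refl' c - Pi.single j (k : ℤ) := by
        funext y
        simp only [refl', Pi.add_apply, Pi.sub_apply]
        ring
      rw [hre] at h
      simp only [hf, hg]
      rw [h, Multiset.card_cons, pow_succ]
      ring
    have e1 : ∀ j, f j = ∑ i, if c j + k = a i then f j else 0 := by
      intro j
      by_cases hj : ∃ i, c j + k = a i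
      · obtain ⟨i, hi⟩ := hj
        rw [Finset.sum_eq_single i (fun y _ hy => if_neg fun h => hy (hai (h.symm.trans hi)))
          (fun h => absurd (Finset.mem_univ i) h), if_pos hi]
      · rw [Finset.sum_eq_zero fun y _ => if_neg fun h => hj ⟨y, h⟩]
        by_contra h
        exact hj (hf0 j h)
    have e2 : ∀ i, g i = ∑ j, if c j + k = a i then g i else 0 := by
      intro i
      by_cases hi : ∃ j, c j + k = a i
      · obtain ⟨j, hj⟩ := hi
        rw [Finset.sum_eq_single j (fun y _ hy => if_neg fun h => hy (hci (by omega)))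
          (fun h => absurd (Finset.mem_univ j) h), if_pos hj]
      · rw [Finset.sum_eq_zero fun y _ => if_neg fun h => hi ⟨y, h⟩]
        by_contra h
        exact hi (hg0 i h)
    change ∑ j, f j = ∑ i, _ * g i
    rw [Finset.sum_congr rfl fun j _ => e1 j, Finset.sum_comm]
    refine Finset.sum_congr rfl fun i _ => ?_
    rw [e2 i, Finset.mul_sum]
    refine Finset.sum_congr rfl fun j _ => ?_
    split_ifs with h
    · exact hterm i j h
    · rw [mul_zero]

theorem sign_eq_pow {n : ℕ} (g : Equiv.Perm (Fin n)) :
    ((Equiv.Perm.sign g : ℤ)) = (-1) ^ (n + Multiset.card (parts g)) := by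
  have h1 : g.cycleType.sum ≤ n := by
    rw [Equiv.Perm.sum_cycleType]
    exact (Finset.card_le_univ _).trans_eq (Fintype.card_fin n)
  rw [Equiv.Perm.sign_of_cycleType, parts, Equiv.Perm.parts_partition, Multiset.card_add,
    Multiset.card_replicate, Fintype.card_fin, ← Equiv.Perm.sum_cycleType]
  rw [Units.val_pow_eq_pow_val, Units.val_neg, Units.val_one,
    show n + (Multiset.card g.cycleType + (n - g.cycleType.sum)) =
      g.cycleType.sum + Multiset.card g.cycleType + 2 * (n - g.cycleType.sum) by omega,
    pow_add (-1 : ℤ) _ (2 * _), pow_mul, neg_one_sq, one_pow, mul_one]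

theorem chiG_refl {n : ℕ} {a c : Fin n → ℤ} (hinj : Function.Injective (Fin.append a c))
    (ha : InBox a) (hc : InBox c) (g : Equiv.Perm (Fin n)) :
    chiG n (refl' c) g =
      (((-1) ^ n * sg a c : ℤ) : ℂ) * (((Equiv.Perm.sign g : ℤ) : ℂ) * chiG n a g) := by
  rw [chiG, chiG, chiM_refl (parts g) (fun k hk => g.partition.parts_pos hk) a c hinj ha hc,
    ← Int.cast_mul, ← Int.cast_mul, Int.cast_inj, sign_eq_pow, pow_add]
  have h : ((-1 : ℤ) ^ n) * (-1) ^ n = 1 := by rw [← mul_pow]; norm_num
  linear_combination (-((-1 : ℤ) ^ Multiset.card (parts g)) * sg a c * chiM (parts g) a) * h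

/-! ### Symmetric tuples -/

/-- A tuple in `[0, 2N)` whose reflection is its complement. -/
def IsSym (a : Fin N → ℤ) : Prop :=
  Function.Injective a ∧ InBox a ∧ ∀ i j, a i + a j ≠ 2 * (N : ℤ) - 1

/-- Fold `[0, 2N)` onto `[0, N)`. -/
def fold (N : ℕ) (x : ℤ) : ℤ := if (N : ℤ) ≤ x then 2 * (N : ℤ) - 1 - x else x

/-- The hook of a coordinate in the upper half. -/
def hook (N : ℕ) (x : ℤ) : ℕ := (2 * (x - N) + 1).toNat

/-- The lengths of the diagonal hooks of a symmetric tuple. -/
def hooks (a : Fin N → ℤ) : Finset ℕ :=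
  (Finset.univ.filter fun i => (N : ℤ) ≤ a i).image fun i => hook N (a i)

theorem IsSym.exists_perm_fold {a : Fin N → ℤ} (h : IsSym a) :
    ∃ σ : Equiv.Perm (Fin N), (fun i => fold N (a i)) = delta N ∘ σ := by
  refine exists_perm_delta (fun i j hij => ?_) fun i => ?_
  · simp only [fold] at hij
    have h1 := h.2.2 i j
    split_ifs at hij <;> first | exact h.1 (by omega) | omega
  · have := h.2.1 i
    simp only [fold]
    split_ifs <;> omega

theorem IsSym.mem_or {a : Fin N → ℤ} (h : IsSym a) {x : ℤ} (h0 : 0 ≤ x) (h1 : x < 2 * (N : ℤ)) :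
    (∃ i, a i = x) ∨ ∃ i, a i = 2 * (N : ℤ) - 1 - x := by
  obtain ⟨σ, hσ⟩ := h.exists_perm_fold
  let y : Fin N := ⟨N - 1 - (fold N x).toNat, by simp only [fold]; split_ifs <;> omega⟩
  have hyv : ((y : ℕ) : ℤ) = (N : ℤ) - 1 - fold N x := by
    simp only [y, fold]
    split_ifs <;> omega
  have hy := congrFun hσ (σ.symm y)
  simp only [Function.comp_apply, Equiv.apply_symm_apply, delta] at hy
  have := h.2.1 (σ.symm y)
  have := y.2
  simp only [fold] at hy hyv
  split_ifs at hy hyv <;>
    first | exact Or.inl ⟨σ.symm y, by omega⟩ | exact Or.inr ⟨σ.symm y, by omega⟩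

theorem IsSym.sum_hooks {a : Fin N → ℤ} (h : IsSym a) :
    ((∑ k ∈ hooks a, k : ℕ) : ℤ) + ∑ i, delta N i = ∑ i, a i := by
  obtain ⟨σ, hσ⟩ := h.exists_perm_fold
  have hd : ∑ i, delta N i = ∑ i, fold N (a i) := by
    rw [← Equiv.sum_comp σ (delta N)]
    exact Finset.sum_congr rfl fun i _ => (congrFun hσ i).symm
  rw [hooks, Finset.sum_image fun i hi j hj hij => ?_, hd, Nat.cast_sum, Finset.sum_filter,
    ← Finset.sum_add_distrib]
  · refine Finset.sum_congr rfl fun i _ => ?_
    simp only [fold, hook]
    split_ifs <;> omega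
  · have := (Finset.mem_filter.1 hi).2
    have := (Finset.mem_filter.1 hj).2
    simp only [hook] at hij
    exact h.1 (by omega)

theorem IsSym.hooks_odd {a : Fin N → ℤ} {k : ℕ} (hk : k ∈ hooks a) : k % 2 = 1 := by
  obtain ⟨i, hi, rfl⟩ := Finset.mem_image.1 hk
  have := (Finset.mem_filter.1 hi).2
  simp only [hook]
  omega

theorem IsSym.range_eq {a b : Fin N → ℤ} (ha : IsSym a) (hb : IsSym b) (h : hooks a = hooks b)
    (i : Fin N) : ∃ j, b j = a i := by
  have hup : ∀ {a b : Fin N → ℤ}, hooks a = hooks b → ∀ i, (N : ℤ) ≤ a i → ∃ j, b j = a i := by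
    intro a b h i hi
    have h1 : hook N (a i) ∈ hooks a :=
      Finset.mem_image.2 ⟨i, Finset.mem_filter.2 ⟨Finset.mem_univ _, hi⟩, rfl⟩
    rw [h] at h1
    obtain ⟨j, hj, hji⟩ := Finset.mem_image.1 h1
    have := (Finset.mem_filter.1 hj).2
    simp only [hook] at hji
    exact ⟨j, by omega⟩
  by_cases hi : (N : ℤ) ≤ a i
  · exact hup h i hi
  · rcases hb.mem_or (ha.2.1 i).1 (ha.2.1 i).2 with h1 | ⟨j, hj⟩
    · exact h1
    · exfalso
      obtain ⟨l, hl⟩ := hup h.symm j (by omega)
      exact ha.2.2 i l (by omega)

theorem IsSym.eq_of_hooks {a b : Fin N → ℤ} (ha : IsSym a) (hb : IsSym b) (ha' : StrictAnti a)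
    (hb' : StrictAnti b) (h : hooks a = hooks b) : a = b := by
  choose σ hσ using ha.range_eq hb h
  have hi : Function.Injective σ := fun x y hxy => ha.1 (by rw [← hσ x, ← hσ y, hxy])
  refine eq_of_match_ne_zero ha' hb' ?_
  rw [show a = b ∘ Equiv.ofBijective σ (Finite.injective_iff_bijective.1 hi) from
    funext fun i => (hσ i).symm, match_comp, match_self hb.1, mul_one]
  exact Units.ne_zero _

/-- The order used for triangularity. -/
def key (s : Finset ℕ) : ℕ := ∑ i ∈ s, 2 ^ i

theorem key_injective : Function.Injective key := Finset.geomSum_injective le_rfl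

theorem key_lt {s : Finset ℕ} {h : ℕ} (hs : ∀ x ∈ s, x < h) : key s < 2 ^ h := by
  refine lt_of_le_of_lt (Finset.sum_le_sum_of_subset (fun x hx => Finset.mem_range.2 (hs x hx))) ?_
  have := Nat.geomSum_eq (le_refl 2) h
  rw [this, Nat.div_one]
  exact Nat.sub_lt (by positivity) one_pos

/-- Removing the largest hook. -/
theorem IsSym.remove {a : Fin N → ℤ} (ha : IsSym a) {i : Fin N} {k : ℕ} (hi : (N : ℤ) ≤ a i)
    (hk : hook N (a i) = k) :
    IsSym (a - Pi.single i (k : ℤ)) ∧ hooks (a - Pi.single i (k : ℤ)) = (hooks a).erase k := by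
  have hb := ha.2.1 i
  have hk' : (k : ℤ) = 2 * (a i - N) + 1 := by simp only [hook] at hk; omega
  have hmir : (a - Pi.single i (k : ℤ) : Fin N → ℤ) i = 2 * (N : ℤ) - 1 - a i := by
    rw [Pi.sub_apply, Pi.single_eq_same]; omega
  have hoth : ∀ j, j ≠ i → (a - Pi.single i (k : ℤ) : Fin N → ℤ) j = a j := fun j hj => by
    rw [Pi.sub_apply, Pi.single_eq_of_ne hj, sub_zero]
  refine ⟨⟨fun x y hxy => ?_, fun x => ?_, fun x y hxy => ?_⟩, ?_⟩
  · by_cases hx : x = i <;> by_cases hy : y = i
    · rw [hx, hy]
    · rw [hx, hmir, hoth y hy] at hxy; exact absurd (show a y + a i = _ by omega) (ha.2.2 y i)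
    · rw [hy, hmir, hoth x hx] at hxy; exact absurd (show a x + a i = _ by omega) (ha.2.2 x i)
    · rw [hoth x hx, hoth y hy] at hxy; exact ha.1 hxy
  · by_cases hx : x = i
    · rw [hx, hmir]; omega
    · rw [hoth x hx]; exact ha.2.1 x
  · by_cases hx : x = i <;> by_cases hy : y = i
    · rw [hx, hy, hmir] at hxy; omega
    · rw [hx, hmir, hoth y hy] at hxy; exact hy (ha.1 (by omega))
    · rw [hy, hmir, hoth x hx] at hxy; exact hx (ha.1 (by omega))
    · rw [hoth x hx, hoth y hy] at hxy; exact ha.2.2 x y hxy
  · ext t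
    simp only [hooks, Finset.mem_erase, Finset.mem_image, Finset.mem_filter, Finset.mem_univ,
      true_and]
    constructor
    · rintro ⟨j, hj, rfl⟩
      rcases eq_or_ne j i with rfl | hji
      · rw [hmir] at hj; omega
      · rw [hoth j hji] at hj ⊢
        refine ⟨fun h => hji (ha.1 ?_), j, hj, rfl⟩
        simp only [hook] at h
        omega
    · rintro ⟨ht, j, hj, rfl⟩
      have hji : j ≠ i := fun h => ht (h ▸ hk)
      exact ⟨j, by rw [hoth j hji]; exact hj, by rw [hoth j hji]⟩

/-- The only removals not killed: a larger hook exists, or the hook itself is removed. -/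
theorem IsSym.step {a : Fin N → ℤ} (ha : IsSym a) {i : Fin N} {k : ℕ} (hk0 : 0 < k)
    (h2 : ∀ j, 0 ≤ (a - Pi.single i (k : ℤ) : Fin N → ℤ) j)
    (h1 : Function.Injective (a - Pi.single i (k : ℤ) : Fin N → ℤ))
    (hall : ∀ x ∈ hooks a, x ≤ k) : (N : ℤ) ≤ a i ∧ hook N (a i) = k := by
  have h3 := h2 i
  rw [Pi.sub_apply, Pi.single_eq_same] at h3
  have hb := ha.2.1 i
  rcases ha.mem_or (x := a i - k) h3 (by omega) with ⟨l, hl⟩ | ⟨l, hl⟩
  · exfalso
    have hli : l ≠ i := fun h => by subst h; omega
    refine hli (h1 ?_)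
    simp only [Pi.sub_apply, Pi.single_eq_same, Pi.single_eq_of_ne hli]
    omega
  · have hle : ∀ x : Fin N, 2 * (a x - N) + 1 ≤ (k : ℤ) := by
      intro x
      by_cases hx : (N : ℤ) ≤ a x
      · have := hall _ (Finset.mem_image.2 ⟨x, Finset.mem_filter.2 ⟨Finset.mem_univ _, hx⟩, rfl⟩)
        simp only [hook] at this
        omega
      · omega
    have := hle i
    have := hle l
    simp only [hook]
    omega

theorem key_le_of_chiM_ne_zero : ∀ (K : Finset ℕ), (∀ k ∈ K, 0 < k) → ∀ a : Fin N → ℤ,
    IsSym a → chiM K.val a ≠ 0 → key K ≤ key (hooks a) := by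
  intro K
  induction K using Finset.induction_on_max with
  | empty => intro _ a _ _; simp [key]
  | insert k K hlt ih =>
    intro hpos a ha hne
    have hkK : k ∉ K := fun h => lt_irrefl _ (hlt k h)
    have hk0 := hpos k (Finset.mem_insert_self k K)
    by_cases hall : ∀ x ∈ hooks a, x ≤ k
    · rw [Finset.insert_val_of_notMem hkK, chiM_cons] at hne
      obtain ⟨i, -, hi⟩ := Finset.exists_ne_zero_of_sum_ne_zero hne
      obtain ⟨h1, h2, -⟩ := chiM_support _ _ hi
      obtain ⟨hai, hhook⟩ := ha.step hk0 h2 h1 hall
      obtain ⟨hs, hh⟩ := ha.remove hai hhook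
      have := ih (fun x hx => hpos x (Finset.mem_insert_of_mem hx)) _ hs hi
      rw [hh] at this
      have hmem : k ∈ hooks a :=
        Finset.mem_image.2 ⟨i, Finset.mem_filter.2 ⟨Finset.mem_univ _, hai⟩, hhook⟩
      rw [key, key, Finset.sum_insert hkK, ← Finset.add_sum_erase _ _ hmem]
      exact Nat.add_le_add_left this _
    · push Not at hall
      obtain ⟨x, hx, hkx⟩ := hall
      refine le_trans (key_lt (h := x) fun y hy => ?_).le
        (Finset.single_le_sum (f := fun i => 2 ^ i) (fun _ _ => Nat.zero_le _) hx)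
      rcases Finset.mem_insert.1 hy with rfl | hy
      · exact hkx
      · exact (hlt y hy).trans hkx

theorem chiM_hooks : ∀ (K : Finset ℕ) (a : Fin N → ℤ), IsSym a → hooks a = K →
    chiM K.val a = 1 ∨ chiM K.val a = -1 := by
  intro K
  induction K using Finset.induction_on_max with
  | empty =>
    intro a ha hK
    obtain ⟨σ, hσ⟩ := exists_perm_delta ha.1 fun i => ⟨(ha.2.1 i).1, by
      by_contra h
      have h' : hook N (a i) ∈ hooks a := Finset.mem_image.2
        ⟨i, Finset.mem_filter.2 ⟨Finset.mem_univ _, not_lt.1 h⟩, rfl⟩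
      rw [hK] at h'
      exact Finset.notMem_empty _ h'⟩
    rw [Finset.empty_val, chiM_zero, hσ, match_comp, match_self delta_strictAnti.injective, mul_one]
    exact Int.isUnit_iff.1 (Units.isUnit _)
  | insert k K hlt ih =>
    intro a ha hK
    have hkK : k ∉ K := fun h => lt_irrefl _ (hlt k h)
    have hall : ∀ x ∈ hooks a, x ≤ k := by
      rw [hK]
      intro x hx
      rcases Finset.mem_insert.1 hx with rfl | hx
      · exact le_rfl
      · exact (hlt x hx).le
    have hmem : k ∈ hooks a := hK ▸ Finset.mem_insert_self k K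
    have hk0 : 0 < k := by have := IsSym.hooks_odd hmem; omega
    obtain ⟨i, hi, hhook⟩ := Finset.mem_image.1 hmem
    have hai := (Finset.mem_filter.1 hi).2
    rw [Finset.insert_val_of_notMem hkK, chiM_cons, Finset.sum_eq_single i]
    · obtain ⟨hs, hh⟩ := ha.remove hai hhook
      exact ih _ hs (by rw [hh, hK, Finset.erase_insert hkK])
    · intro j _ hj
      by_contra hne
      obtain ⟨h1, h2, -⟩ := chiM_support _ _ hne
      obtain ⟨haj, hjk⟩ := ha.step hk0 h2 h1 hall
      simp only [hook] at hjk hhook
      exact hj (ha.1 (by omega))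
    · exact fun h => absurd (Finset.mem_univ i) h

/-- A state equal, up to sign, to its product with the sign is symmetric. -/
theorem isSym_of_sign {n : ℕ} {a : Fin n → ℤ} (ha : IsState n a)
    (h : ∀ g, ((Equiv.Perm.sign g : ℤ) : ℂ) * chiG n a g = chiG n a g) : IsSym a := by
  classical
  have hlow : ∀ i, delta n i ≤ a i := by
    intro i
    induction hd : n - 1 - (i : ℕ) generalizing i with
    | zero => simp only [delta, hd, Nat.cast_zero]; exact ha.2.1 i
    | succ d ih =>
      have h1 := ih ⟨(i : ℕ) + 1, by omega⟩ (by simp only; omega)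
      have h2 := ha.1 (show i < ⟨(i : ℕ) + 1, by omega⟩ from Fin.mk_lt_mk.2 (by omega))
      simp only [delta] at h1 ⊢
      omega
  have hbox : InBox a := fun i => by
    refine ⟨ha.2.1 i, ?_⟩
    have h1 : a i - delta n i ≤ ∑ j, (a j - delta n j) :=
      Finset.single_le_sum (f := fun j => a j - delta n j) (fun j _ => sub_nonneg.2 (hlow j))
        (Finset.mem_univ i)
    rw [Finset.sum_sub_distrib, ha.2.2] at h1
    have := delta_lt i
    omega
  set s : Finset ℤ := Finset.Ico (0 : ℤ) (2 * (n : ℤ)) \ Finset.univ.image a with hs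
  have hcard : s.card = n := by
    rw [hs, Finset.card_sdiff_of_subset (fun x hx => by
      obtain ⟨i, -, rfl⟩ := Finset.mem_image.1 hx
      exact Finset.mem_Ico.2 (hbox i)), Finset.card_image_of_injective _ ha.1.injective,
      Int.card_Ico, Finset.card_univ, Fintype.card_fin]
    omega
  set c : Fin n → ℤ := fun i => s.orderEmbOfFin hcard i with hc
  have hcs : ∀ i, c i ∈ s := fun i => s.orderEmbOfFin_mem hcard i
  have hcbox : InBox c := fun i => Finset.mem_Ico.1 (Finset.mem_sdiff.1 (hcs i)).1
  have hsep : ∀ i j, a i ≠ c j := fun i j he =>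
    (Finset.mem_sdiff.1 (hcs j)).2 (Finset.mem_image.2 ⟨i, Finset.mem_univ _, he⟩)
  have hinj : Function.Injective (Fin.append a c) :=
    Fin.append_injective_iff.2 ⟨ha.1.injective, (s.orderEmbOfFin hcard).injective, hsep⟩
  have heq : chiG n (refl' c) = (((-1) ^ n * sg a c : ℤ) : ℂ) • chiG n a := by
    funext g
    rw [chiG_refl hinj hbox hcbox, Pi.smul_apply, smul_eq_mul, h g]
  have hsg : sg a c ≠ 0 := sg_ne_zero hinj hbox hcbox
  have h1 := chiG_inner a (refl' c) ha.2.1 ha.2.2 (n := n)
  rw [heq, classInner_smul_right, chiG_norm ha, map_intCast, mul_one, Int.cast_inj] at h1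
  have hm : match' a (refl' c) ≠ 0 := by
    rw [← h1]
    exact mul_ne_zero (pow_ne_zero _ (by norm_num)) hsg
  obtain ⟨σ, hσ⟩ := exists_of_match_ne_zero hm
  refine ⟨ha.1.injective, hbox, fun i j hij => ?_⟩
  have := congrFun hσ j
  simp only [Function.comp_apply, refl'] at this
  exact hsep i (σ j) (by omega)

end Cfsg.Agent.Char.SymChar
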