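import Cfsg.Agent.Lib.Char.SymChar.Residue

/-!
The weight of a tuple, and the bound on the span of a family with the relations.
-/

set_option autoImplicit false

namespace Cfsg.Agent.Char.SymChar

open Finset

variable {N : ℕ}

/-- Twice the number of inversions in the residue classes of the core. -/
def coreTwo (p : ℕ) (m : ℕ → ℕ) : ℕ := ∑ r ∈ range p, m r * (m r - 1)

/-- A tuple with the given residue counts and weight. -/
def IsW (p : ℕ) (m : ℕ → ℕ) (W : ℕ) (a : Fin N → ℤ) : Prop :=
  (∀ i, 0 ≤ a i) ∧ (∀ r ∈ range p, cnt p a r = m r) ∧ 2 * ∑ i, qq p a i = coreTwo p m + 2 * W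

theorem sum_by_residue {p : ℕ} (hp : 0 < p) (a : Fin N → ℤ) :
    ∑ i, qq p a i = ∑ r ∈ range p, ∑ i with rr p a i = r, qq p a i :=
  (Finset.sum_fiberwise_of_maps_to (fun _ _ => Finset.mem_range.2 (Nat.mod_lt _ hp)) _).symm

theorem coord_eq {p : ℕ} {a : Fin N → ℤ} (ha : ∀ i, 0 ≤ a i) (i : Fin N) :
    a i = (p : ℤ) * (qq p a i : ℤ) + (rr p a i : ℤ) := by
  rw [← Nat.cast_mul, ← Nat.cast_add, qq, rr, Nat.div_add_mod, Int.toNat_of_nonneg (ha i)]

theorem qq_injOn {p : ℕ} {a : Fin N → ℤ} (ha : ∀ i, 0 ≤ a i) (hinj : Function.Injective a) (r : ℕ) :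
    Set.InjOn (qq p a) (({i | rr p a i = r} : Finset (Fin N)) : Set (Fin N)) := by
  intro i hi j hj hij
  refine hinj ?_
  rw [coord_eq (p := p) ha i, coord_eq (p := p) ha j, hij, (Finset.mem_filter.1 hi).2,
    (Finset.mem_filter.1 hj).2]

theorem coreTwo_le {p : ℕ} (hp : 0 < p) {a : Fin N → ℤ} {m : ℕ → ℕ} (ha : ∀ i, 0 ≤ a i)
    (hinj : Function.Injective a) (hm : ∀ r ∈ range p, cnt p a r = m r) :
    coreTwo p m ≤ 2 * ∑ i, qq p a i := by
  rw [sum_by_residue hp, Finset.mul_sum]
  refine Finset.sum_le_sum fun r hr => ?_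
  rw [← hm r hr]
  exact (rank_bound _ _ (qq_injOn ha hinj r)).1

theorem IsW.exists_positive {p : ℕ} (hp : 0 < p) {a : Fin N → ℤ} {m : ℕ → ℕ} {W : ℕ}
    (h : IsW p m W a) (hinj : Function.Injective a) (hW : 0 < W) :
    ∃ r ∈ range p, m r * (m r - 1) < 2 * ∑ i with rr p a i = r, qq p a i := by
  by_contra hno
  push Not at hno
  have h1 : 2 * ∑ i, qq p a i ≤ coreTwo p m := by
    rw [sum_by_residue hp, Finset.mul_sum]
    exact Finset.sum_le_sum hno
  have := h.2.2
  omega

theorem IsW.below_core {p : ℕ} (hp : 0 < p) {a : Fin N → ℤ} {m : ℕ → ℕ}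
    (h : IsW p m 0 a) (hinj : Function.Injective a) (i : Fin N) :
    qq p a i < m (rr p a i) := by
  set r := rr p a i with hr
  have hrp : r ∈ range p := Finset.mem_range.2 (Nat.mod_lt _ hp)
  have hb := rank_bound _ _ (qq_injOn (p := p) h.1 hinj r)
  have heq : m r * (m r - 1) = 2 * ∑ j with rr p a j = r, qq p a j := by
    by_contra hne
    have hlt : coreTwo p m < 2 * ∑ j, qq p a j := by
      rw [sum_by_residue hp, Finset.mul_sum]
      refine Finset.sum_lt_sum (fun s hs => ?_) ⟨r, hrp, ?_⟩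
      · rw [← h.2.1 s hs]
        exact (rank_bound _ _ (qq_injOn h.1 hinj s)).1
      · refine lt_of_le_of_ne ?_ hne
        rw [← h.2.1 r hrp]
        exact hb.1
    have := h.2.2
    omega
  have h1 := hb.2 (by rw [show #({j | rr p a j = r} : Finset (Fin N)) = m r from h.2.1 r hrp]; exact heq)
    i (Finset.mem_filter.2 ⟨Finset.mem_univ _, hr.symm⟩)
  rwa [show #({j | rr p a j = r} : Finset (Fin N)) = m r from h.2.1 r hrp] at h1

/-- Two tuples of weight zero with the same counts differ by a permutation. -/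
theorem IsW.exists_perm {p : ℕ} (hp : 0 < p) {a a' : Fin N → ℤ} {m : ℕ → ℕ}
    (h : IsW p m 0 a) (h' : IsW p m 0 a') (hinj : Function.Injective a)
    (hinj' : Function.Injective a') : ∃ σ : Equiv.Perm (Fin N), a = a' ∘ σ := by
  have key : ∀ i, ∃ j, a' j = a i := by
    intro i
    set r := rr p a i with hr
    have hrp : r ∈ range p := Finset.mem_range.2 (Nat.mod_lt _ hp)
    have himg : ({j | rr p a' j = r} : Finset (Fin N)).image (qq p a') = range (m r) := by
      refine Finset.eq_of_subset_of_card_le (fun x hx => ?_) ?_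
      · obtain ⟨j, hj, rfl⟩ := Finset.mem_image.1 hx
        have h1 := h'.below_core hp hinj' j
        rw [(Finset.mem_filter.1 hj).2] at h1
        exact Finset.mem_range.2 h1
      · rw [Finset.card_range, Finset.card_image_of_injOn (qq_injOn h'.1 hinj' r)]
        exact (h'.2.1 r hrp).ge
    have hq : qq p a i ∈ range (m r) := Finset.mem_range.2 (h.below_core hp hinj i)
    rw [← himg] at hq
    obtain ⟨j, hj, hjq⟩ := Finset.mem_image.1 hq
    refine ⟨j, ?_⟩
    rw [coord_eq (p := p) h'.1 j, coord_eq (p := p) h.1 i, hjq, (Finset.mem_filter.1 hj).2]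
  choose σ hσ using key
  have hi : Function.Injective σ := fun x y hxy => hinj (by rw [← hσ x, ← hσ y, hxy])
  exact ⟨Equiv.ofBijective σ (Finite.injective_iff_bijective.1 hi), funext fun i => (hσ i).symm⟩

/-- The bound on the span. -/
def bd (p : ℕ) : ℕ → ℕ
  | 0 => 1
  | W + 1 => (p - 1) * p ^ W

theorem sum_bd {p : ℕ} (hp : 0 < p) : ∀ W, ∑ j ∈ range (W + 1), bd p j = p ^ W
  | 0 => by simp [bd]
  | W + 1 => by
    rw [Finset.sum_range_succ, sum_bd hp W, bd, pow_succ]
    obtain ⟨q, rfl⟩ := Nat.exists_eq_succ_of_ne_zero hp.ne'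
    simp only [Nat.succ_eq_add_one, Nat.add_sub_cancel]
    ring

theorem bd_lt {p W s : ℕ} (hp : 2 ≤ p) (hs : 1 ≤ s) (h : W ≤ s) : bd p W < p ^ s := by
  rcases W with _ | W
  · exact Nat.one_lt_pow (by omega) (by omega)
  · calc (p - 1) * p ^ W < p * p ^ W := Nat.mul_lt_mul_of_pos_right (by omega) (by positivity)
      _ = p ^ (W + 1) := by ring
      _ ≤ p ^ s := Nat.pow_le_pow_right (by omega) h

section span

variable {V : Type*} [AddCommGroup V] [Module ℂ V]

/-- Alternating. -/
def IsAlt (E : (Fin N → ℤ) → V) : Prop :=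
  ∀ a (i j : Fin N), i ≠ j → E (a ∘ Equiv.swap i j) = - E a

/-- Adding a hook of length divisible by `p` in all ways gives zero. -/
def HasRel (p : ℕ) (E : (Fin N → ℤ) → V) : Prop :=
  ∀ c : Fin N → ℤ, (∀ i, 0 ≤ c i) → ∀ k : ℕ,
    ∑ i, E (c + Pi.single i ((p : ℤ) * (k + 1 : ℕ))) = 0

/-- Adding a hook in one residue class. -/
def addHook (p r k : ℕ) (E : (Fin N → ℤ) → V) (c : Fin N → ℤ) : V :=
  ∑ i with rr p c i = r, E (c + Pi.single i ((p : ℤ) * (k + 1 : ℕ)))

theorem IsAlt.addHook {p r k : ℕ} {E : (Fin N → ℤ) → V} (hE : IsAlt E) :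
    IsAlt (addHook p r k E) := by
  intro a i j hij
  simp only [SymChar.addHook, ← Finset.sum_neg_distrib]
  refine Finset.sum_equiv (Equiv.swap i j) (fun x => by
    rw [Finset.mem_filter, Finset.mem_filter, rr_comp]; simp) fun x _ => ?_
  rw [← hE _ i j hij]
  congr 1
  show _ = a ∘ Equiv.swap i j + (Pi.single (Equiv.swap i j x) _ : Fin N → ℤ) ∘ Equiv.swap i j
  rw [single_comp]

theorem IsAlt.zero_of_not_injective {E : (Fin N → ℤ) → V} (hE : IsAlt E) {a : Fin N → ℤ}
    (h : ¬ Function.Injective a) : E a = 0 := by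
  simp only [Function.Injective, not_forall] at h
  obtain ⟨i, j, hij, hne⟩ := h
  have h1 := hE a i j hne
  rw [comp_swap_of_eq hij] at h1
  have h2 : (2 : ℂ) • E a = 0 := by rw [two_smul]; nth_rewrite 1 [h1]; exact neg_add_cancel _
  exact (smul_eq_zero.1 h2).resolve_left two_ne_zero

theorem HasRel.addHook {p r k : ℕ} {E : (Fin N → ℤ) → V} (hE : HasRel p E) :
    HasRel p (addHook p r k E) := by
  intro c hc l
  have hd : (0 : ℤ) ≤ (p : ℤ) * (l + 1 : ℕ) := by positivity
  simp only [SymChar.addHook, rr_add_single hc (dvd_mul_right _ _) hd]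
  rw [Finset.sum_comm]
  refine Finset.sum_eq_zero fun j _ => ?_
  have hc' : ∀ i, 0 ≤ (c + Pi.single j ((p : ℤ) * (k + 1 : ℕ)) : Fin N → ℤ) i := fun i => by
    have := hc i
    have : (0 : ℤ) ≤ (p : ℤ) * (k + 1 : ℕ) := by positivity
    rcases eq_or_ne i j with rfl | h
    · simp only [Pi.add_apply, Pi.single_eq_same]; omega
    · simpa [h] using hc i
  rw [← hE _ hc' l]
  exact Finset.sum_congr rfl fun i _ => by rw [add_right_comm]

/-- The values one step below. -/
def steps (p : ℕ) (m : ℕ → ℕ) (W : ℕ) (E : (Fin N → ℤ) → V) : Set V :=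
  {v | ∃ k < W, ∃ t ∈ Ico 1 p, ∃ c, IsW p m (W - (k + 1)) c ∧ v = SymChar.addHook p t k E c}

theorem step_span {p : ℕ} (hp : 0 < p) {m : ℕ → ℕ} {W : ℕ} (hW : 0 < W)
    {E : (Fin N → ℤ) → V} (hE : IsAlt E) (hR : HasRel p E) {a : Fin N → ℤ} (ha : IsW p m W a) :
    E a ∈ Submodule.span ℂ (steps p m W E) := by
  classical
  by_cases hinj : Function.Injective a
  swap
  · rw [hE.zero_of_not_injective hinj]
    exact zero_mem _
  obtain ⟨r, hr, hlt⟩ := ha.exists_positive hp hinj hW
  set I : Finset (Fin N) := {i | rr p a i = r} with hI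
  have hIc : I.card = m r := ha.2.1 r hr
  have he := euler E hE p I (r : ℤ) (qq p a) a fun i hi => by
    rw [← (Finset.mem_filter.1 hi).2]
    exact coord_eq ha.1 i
  have hcoef : (((∑ i ∈ I, qq p a i : ℕ) : ℂ) - ((I.card * (I.card - 1) : ℕ) : ℂ) / 2) ≠ 0 := by
    intro h
    have h1 : ((2 * ∑ i ∈ I, qq p a i : ℕ) : ℂ) = ((I.card * (I.card - 1) : ℕ) : ℂ) := by
      push_cast at h ⊢
      linear_combination 2 * h
    have h2 := Nat.cast_inj.1 h1
    rw [hIc] at h2
    omega
  rw [← inv_smul_smul₀ hcoef (E a), ← he]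
  refine Submodule.smul_mem _ _ (Submodule.sum_mem _ fun i hi => Submodule.sum_mem _ fun k hk => ?_)
  have hki : k + 1 ≤ qq p a i := Finset.mem_range.1 hk
  set x : ℤ := (p : ℤ) * (k + 1 : ℕ) with hx
  have hxd : (p : ℤ) ∣ x := dvd_mul_right _ _
  have hxle : x ≤ a i := by
    rw [coord_eq (p := p) ha.1 i, hx]
    have : (p : ℤ) * (k + 1 : ℕ) ≤ (p : ℤ) * (qq p a i : ℤ) :=
      mul_le_mul_of_nonneg_left (by exact_mod_cast hki) (Int.natCast_nonneg p)
    have := Int.natCast_nonneg (rr p a i)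
    omega
  set c : Fin N → ℤ := a - Pi.single i x with hc
  have hcnn : ∀ j, 0 ≤ c j := nonneg_sub_single ha.1 hxle
  have hrc : ∀ j, rr p c j = rr p a j := rr_sub_single ha.1 hxd hcnn
  have hsum : ∑ j ∈ I, E (c + Pi.single j x) = addHook p r k E c := by
    simp only [addHook, hrc, hI, hx]
  rw [hsum]
  by_cases hcinj : Function.Injective c
  swap
  · rw [hE.addHook.zero_of_not_injective hcinj]
    exact zero_mem _
  have hcm : ∀ t ∈ range p, cnt p c t = m t := fun t ht => by
    rw [← ha.2.1 t ht]; simp only [cnt, hrc]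
  have hqsum : ∑ j, qq p c j + (k + 1) = ∑ j, qq p a j := by
    have hrest : ∑ j ∈ Finset.univ.erase i, qq p c j = ∑ j ∈ Finset.univ.erase i, qq p a j :=
      Finset.sum_congr rfl fun j (hj : j ∈ Finset.univ.erase i) => by
        rw [qq, hc, Pi.sub_apply, Pi.single_eq_of_ne (Finset.ne_of_mem_erase hj), sub_zero, ← qq]
    rw [← Finset.add_sum_erase _ (fun j => qq p c j) (Finset.mem_univ i),
      ← Finset.add_sum_erase _ (fun j => qq p a j) (Finset.mem_univ i), hrest]
    have hci : qq p c i + (k + 1) = qq p a i := by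
      have h1 := coord_eq (p := p) hcnn i
      rw [hrc i, hc, Pi.sub_apply, Pi.single_eq_same, hx, coord_eq (p := p) ha.1 i] at h1
      have h2 : ((p : ℤ)) * ((qq p a i : ℤ) - (k + 1 : ℕ)) = (p : ℤ) * (qq p c i : ℤ) := by
        rw [hc]; linarith
      have h3 := mul_left_cancel₀ (by exact_mod_cast hp.ne' : (p : ℤ) ≠ 0) h2
      omega
    omega
  have hkW : k + 1 ≤ W := by
    have := coreTwo_le hp hcnn hcinj hcm
    have := ha.2.2
    omega
  have hcW : IsW p m (W - (k + 1)) c := ⟨hcnn, hcm, by have := ha.2.2; omega⟩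
  have hmem : ∀ t ∈ Ico 1 p, addHook p t k E c ∈ Submodule.span ℂ (steps p m W E) := fun t ht =>
    Submodule.subset_span ⟨k, by omega, t, ht, c, hcW, rfl⟩
  rcases Nat.eq_zero_or_pos r with rfl | hr0
  · have hall : ∑ t ∈ range p, addHook p t k E c = 0 := by
      rw [← hR c hcnn k]
      simp only [addHook]
      exact Finset.sum_fiberwise_of_maps_to (fun _ _ => Finset.mem_range.2 (Nat.mod_lt _ hp)) _
    rw [Finset.range_eq_Ico, Finset.sum_eq_sum_Ico_succ_bot hp, add_eq_zero_iff_eq_neg] at hall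
    rw [hall]
    exact neg_mem (Submodule.sum_mem _ hmem)
  · exact hmem r (Finset.mem_Ico.2 ⟨hr0, Finset.mem_range.1 hr⟩)

theorem addHook_comm {p r t k l : ℕ} (E : (Fin N → ℤ) → V) {c : Fin N → ℤ} (hc : ∀ i, 0 ≤ c i) :
    SymChar.addHook p r k (SymChar.addHook p t l E) c =
      SymChar.addHook p t l (SymChar.addHook p r k E) c := by
  simp only [SymChar.addHook, rr_add_single hc (dvd_mul_right _ _)
    (show (0 : ℤ) ≤ (p : ℤ) * (k + 1 : ℕ) by positivity), rr_add_single hc (dvd_mul_right _ _)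
    (show (0 : ℤ) ≤ (p : ℤ) * (l + 1 : ℕ) by positivity)]
  rw [Finset.sum_comm]
  exact Finset.sum_congr rfl fun i _ => Finset.sum_congr rfl fun j _ => by rw [add_right_comm]

theorem span_zero {p : ℕ} (hp : 0 < p) {m : ℕ → ℕ} {a₀ : Fin N → ℤ} (h₀ : IsW p m 0 a₀)
    (hi₀ : Function.Injective a₀) {E : (Fin N → ℤ) → V} (hE : IsAlt E) {a : Fin N → ℤ}
    (ha : IsW p m 0 a) : E a ∈ Submodule.span ℂ ({E a₀} : Set V) := by
  by_cases hinj : Function.Injective a
  · obtain ⟨σ, rfl⟩ := ha.exists_perm hp h₀ hinj hi₀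
    clear ha hinj
    refine Equiv.Perm.swap_induction_on' σ ?_ ?_
    · exact Submodule.subset_span rfl
    · intro f x y hxy ih
      rw [Equiv.Perm.coe_mul, ← Function.comp_assoc, hE _ x y hxy]
      exact neg_mem ih
  · rw [hE.zero_of_not_injective hinj]
    exact zero_mem _

theorem span_bound {p : ℕ} (hp : 0 < p) (m : ℕ → ℕ) : ∀ (W : ℕ) (E : (Fin N → ℤ) → V),
    IsAlt E → HasRel p E →
      ∃ s : Finset V, s.card ≤ bd p W ∧
        ∀ a : Fin N → ℤ, IsW p m W a → E a ∈ Submodule.span ℂ (s : Set V) := by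
  classical
  intro W
  induction W using Nat.strong_induction_on with
  | _ W IH =>
    intro E hE hR
    rcases Nat.eq_zero_or_pos W with rfl | hW
    · by_cases hex : ∃ a₀ : Fin N → ℤ, IsW p m 0 a₀ ∧ Function.Injective a₀
      · obtain ⟨a₀, h₀, hi₀⟩ := hex
        refine ⟨{E a₀}, by simp [bd], fun a ha => ?_⟩
        rw [Finset.coe_singleton]
        exact span_zero hp h₀ hi₀ hE ha
      · refine ⟨∅, by simp [bd], fun a ha => ?_⟩
        rw [hE.zero_of_not_injective fun hinj => hex ⟨a, ha, hinj⟩]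
        exact zero_mem _
    choose s hs hsp using fun (r k : ℕ) (hk : W - (k + 1) < W) =>
      IH (W - (k + 1)) hk (addHook p r k E) hE.addHook hR.addHook
    refine ⟨(range W).biUnion fun k => (Ico 1 p).biUnion fun r => s r k (by omega), ?_, ?_⟩
    · refine Finset.card_biUnion_le.trans ((Finset.sum_le_sum fun k _ => Finset.card_biUnion_le.trans
        (Finset.sum_le_sum fun r _ => hs r k (by omega))).trans ?_)
      simp only [Finset.sum_const, Nat.card_Ico, smul_eq_mul, ← Finset.mul_sum]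
      obtain ⟨V', rfl⟩ := Nat.exists_eq_succ_of_ne_zero hW.ne'
      simp only [Nat.succ_eq_add_one, bd]
      refine Nat.mul_le_mul_left _ (le_of_eq ?_)
      rw [← sum_bd hp V', ← Finset.sum_range_reflect (bd p) (V' + 1)]
      exact Finset.sum_congr rfl fun k _ => by congr 1; omega
    intro a ha
    refine Submodule.span_le.2 ?_ (step_span hp hW hE hR ha)
    rintro _ ⟨k, hk, t, ht, c, hc, rfl⟩
    refine Submodule.span_mono ?_ (hsp t k (by omega) c hc)
    intro v hv
    simp only [Finset.coe_biUnion, Set.mem_iUnion]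
    exact ⟨k, Finset.mem_range.2 hk, t, ht, hv⟩

theorem span_bound_two (m : ℕ → ℕ) : ∀ (W : ℕ), 3 ≤ W → ∀ (E : (Fin N → ℤ) → V),
    IsAlt E → HasRel 2 E →
      ∃ s : Finset V, s.card + 1 ≤ bd 2 W ∧
        ∀ a : Fin N → ℤ, IsW 2 m W a → E a ∈ Submodule.span ℂ (s : Set V) := by
  classical
  intro W
  induction W using Nat.strong_induction_on with
  | _ W IH =>
    intro h3 E hE hR
    rcases eq_or_lt_of_le h3 with rfl | h4
    · obtain ⟨a₀, h₀, hz₀⟩ : ∃ a₀ : Fin N → ℤ, (∀ i, 0 ≤ a₀ i) ∧ ∀ F : (Fin N → ℤ) → V,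
          IsAlt F → ∀ c, IsW 2 m 0 c → F c ∈ Submodule.span ℂ ({F a₀} : Set V) := by
        by_cases hex : ∃ a₀ : Fin N → ℤ, IsW 2 m 0 a₀ ∧ Function.Injective a₀
        · obtain ⟨a₀, h₀, hi₀⟩ := hex
          exact ⟨a₀, h₀.1, fun F hF c hc => span_zero two_pos h₀ hi₀ hF hc⟩
        · refine ⟨0, fun i => le_rfl, fun F hF c hc => ?_⟩
          rw [hF.zero_of_not_injective fun hinj => hex ⟨c, hc, hinj⟩]
          exact zero_mem _
      set A : ℕ → ((Fin N → ℤ) → V) → (Fin N → ℤ) → V := fun k F => SymChar.addHook 2 1 k F with hA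
      set T : Finset V := {A 2 E a₀, A 1 (A 0 E) a₀, A 0 (A 0 (A 0 E)) a₀} with hT
      refine ⟨T, by
        have hT3 : T.card ≤ 3 := Finset.card_le_three
        simp only [bd]
        omega, fun a ha => ?_⟩
      have hstep : ∀ (F : (Fin N → ℤ) → V), IsAlt F → HasRel 2 F → ∀ (w : ℕ), 0 < w → ∀ b,
          IsW 2 m w b → ∀ S : Submodule ℂ V,
          (∀ k < w, ∀ c, IsW 2 m (w - (k + 1)) c → A k F c ∈ S) → F b ∈ S := by
        intro F hF hFR w hw b hb S hS
        refine Submodule.span_le.2 ?_ (step_span two_pos hw hF hFR hb)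
        rintro _ ⟨k, hk, t, ht, c, hc, rfl⟩
        obtain rfl : t = 1 := by have := Finset.mem_Ico.1 ht; omega
        exact hS k hk c hc
      have hz : ∀ F : (Fin N → ℤ) → V, IsAlt F → F a₀ ∈ Submodule.span ℂ (T : Set V) →
          ∀ c, IsW 2 m 0 c → F c ∈ Submodule.span ℂ (T : Set V) := fun F hF h c hc =>
        Submodule.span_le.2 (Set.singleton_subset_iff.2 h) (hz₀ F hF c hc)
      have hAE : IsAlt (A 0 E) := hE.addHook
      have hRE : HasRel 2 (A 0 E) := hR.addHook
      have hmem : ∀ v ∈ T, v ∈ Submodule.span ℂ (T : Set V) := fun v hv =>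
        Submodule.subset_span hv
      refine hstep E hE hR 3 (by omega) a ha _ fun k hk c hc => ?_
      interval_cases k
      · refine hstep _ hAE hRE 2 (by omega) c hc _ fun l hl d hd => ?_
        interval_cases l
        · refine hstep _ hAE.addHook hRE.addHook 1 (by omega) d hd _ fun i hi e he => ?_
          interval_cases i
          exact hz _ hAE.addHook.addHook (hmem _ (by simp [hT, hA])) e he
        · exact hz _ hAE.addHook (hmem _ (by simp [hT, hA])) d hd
      · refine hstep _ hE.addHook hR.addHook 1 (by omega) c hc _ fun l hl d hd => ?_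
        interval_cases l
        refine hz _ hE.addHook.addHook ?_ d hd
        rw [show SymChar.addHook 2 1 0 (SymChar.addHook 2 1 1 E) a₀ = A 1 (A 0 E) a₀ from
          addHook_comm E h₀]
        exact hmem _ (by simp [hT])
      · exact hz _ hE.addHook (hmem _ (by simp [hT, hA])) c hc
    · obtain ⟨W', rfl⟩ := Nat.exists_eq_succ_of_ne_zero (show W ≠ 0 by omega)
      obtain ⟨s₀, hs₀, hsp₀⟩ := IH W' (by omega) (by omega) (addHook 2 1 0 E) hE.addHook hR.addHook
      choose s hs hsp using fun k : ℕ =>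
        span_bound two_pos m (W' - (k + 1)) (addHook 2 1 (k + 1) E) hE.addHook hR.addHook
      refine ⟨s₀ ∪ (range W').biUnion s, ?_, fun a ha => ?_⟩
      · have h1 := Finset.card_union_le s₀ ((range W').biUnion s)
        have h2 := (Finset.card_biUnion_le (s := range W') (t := s)).trans
          (Finset.sum_le_sum fun k _ => hs k)
        have h3' : bd 2 W' + ∑ k ∈ range W', bd 2 (W' - (k + 1)) = bd 2 (W' + 1) := by
          rw [bd, Nat.add_one_sub_one, one_mul, ← sum_bd two_pos W', Finset.sum_range_succ, add_comm,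
            ← Finset.sum_range_reflect (bd 2) W']
          congr 1
          exact Finset.sum_congr rfl fun k _ => by congr 1; omega
        simp only [Nat.succ_eq_add_one]
        omega
      · refine Submodule.span_le.2 ?_ (step_span two_pos (by omega) hE hR ha)
        rintro _ ⟨k, hk, t, ht, c, hc, rfl⟩
        obtain rfl : t = 1 := by have := Finset.mem_Ico.1 ht; omega
        rw [Finset.coe_union]
        cases k with
        | zero => exact Submodule.span_mono Set.subset_union_left (hsp₀ c (by simpa using hc))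
        | succ k =>
          refine Submodule.span_mono ?_ (hsp k c (by
            rwa [show W' - (k + 1) = W'.succ - (k + 1 + 1) by omega]))
          intro v hv
          refine Or.inr ?_
          simp only [Finset.coe_biUnion, Set.mem_iUnion]
          exact ⟨k, Finset.mem_range.2 (by omega), hv⟩

end span

/-! ### An element not killed -/

/-- The core of a tuple: each coordinate is replaced by its rank in its residue class. -/
def core (p : ℕ) (a : Fin N → ℤ) (i : Fin N) : ℤ :=
  ((p * #{j | rr p a j = rr p a i ∧ qq p a j < qq p a i} + rr p a i : ℕ) : ℤ)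

theorem IsW.core_eq {p : ℕ} (hp : 0 < p) {a : Fin N → ℤ} {m : ℕ → ℕ}
    (h : IsW p m 0 a) (hinj : Function.Injective a) : core p a = a := by
  funext i
  set r := rr p a i with hr
  have hrp : r ∈ range p := Finset.mem_range.2 (Nat.mod_lt _ hp)
  have himg : ({j | rr p a j = r} : Finset (Fin N)).image (qq p a) = range (m r) := by
    refine Finset.eq_of_subset_of_card_le (fun x hx => ?_) ?_
    · obtain ⟨j, hj, rfl⟩ := Finset.mem_image.1 hx
      have h1 := h.below_core hp hinj j
      rw [(Finset.mem_filter.1 hj).2] at h1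
      exact Finset.mem_range.2 h1
    · rw [Finset.card_range, Finset.card_image_of_injOn (qq_injOn h.1 hinj r)]
      exact (h.2.1 r hrp).ge
  have hcard : #({j | rr p a j = r ∧ qq p a j < qq p a i} : Finset (Fin N)) = qq p a i := by
    have hset : ({j | rr p a j = r ∧ qq p a j < qq p a i} : Finset (Fin N)).image (qq p a) =
        range (qq p a i) := by
      ext x
      simp only [Finset.mem_image, Finset.mem_filter, Finset.mem_univ, true_and, Finset.mem_range]
      constructor
      · rintro ⟨j, ⟨-, hj⟩, rfl⟩; exact hj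
      · intro hx
        have hxm : x ∈ range (m r) :=
          Finset.mem_range.2 (hx.trans (h.below_core hp hinj i))
        rw [← himg] at hxm
        obtain ⟨j, hj, rfl⟩ := Finset.mem_image.1 hxm
        exact ⟨j, ⟨(Finset.mem_filter.1 hj).2, hx⟩, rfl⟩
    have h2 := congrArg Finset.card hset
    rwa [Finset.card_range, Finset.card_image_of_injOn ((qq_injOn h.1 hinj r).mono (fun x hx => by
      simp only [Finset.coe_filter, Set.mem_ofPred_eq] at hx ⊢
      exact ⟨hx.1, hx.2.1⟩))] at h2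
  rw [core, hcard, coord_eq (p := p) h.1 i]
  push_cast
  rfl

theorem exists_move {p : ℕ} (hp : 0 < p) {a : Fin N → ℤ} {m : ℕ → ℕ} {W : ℕ}
    (h : IsW p m (W + 1) a) (hinj : Function.Injective a) :
    ∃ i, 1 ≤ qq p a i ∧ ∀ j, rr p a j = rr p a i → qq p a j + 1 ≠ qq p a i := by
  obtain ⟨r, hr, hlt⟩ := h.exists_positive hp hinj W.succ_pos
  by_contra hno
  push Not at hno
  set S := ({i | rr p a i = r} : Finset (Fin N)).image (qq p a) with hS
  have hdown : ∀ x, ∀ y ∈ S, x ≤ y → x ∈ S := by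
    intro x y hy hxy
    induction hd : y - x generalizing y with
    | zero => rwa [show x = y by omega]
    | succ d ihd =>
      obtain ⟨i, hi, rfl⟩ := Finset.mem_image.1 hy
      obtain ⟨j, hj1, hj2⟩ := hno i (by omega)
      exact ihd (qq p a j) (Finset.mem_image.2 ⟨j, Finset.mem_filter.2 ⟨Finset.mem_univ _,
        hj1.trans (Finset.mem_filter.1 hi).2⟩, rfl⟩) (by omega) (by omega)
  have hcard : S.card = m r := by
    rw [hS, Finset.card_image_of_injOn (qq_injOn h.1 hinj r)]
    exact h.2.1 r hr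
  have hsub : S = range (m r) := by
    refine Finset.eq_of_subset_of_card_le (fun x hx => Finset.mem_range.2 ?_) (by
      rw [Finset.card_range, hcard])
    have h1 := Finset.card_le_card (show range (x + 1) ⊆ S from fun y hy =>
      hdown y x hx (Nat.lt_succ_iff.1 (Finset.mem_range.1 hy)))
    rw [Finset.card_range, hcard] at h1
    omega
  rw [← Finset.sum_image (f := fun x => x) (qq_injOn h.1 hinj r), ← hS, hsub, mul_comm 2,
    Finset.sum_range_id_mul_two] at hlt
  omega

theorem core_sub_single {p : ℕ} (hp : 0 < p) {a : Fin N → ℤ} (ha : ∀ i, 0 ≤ a i)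
    (hinj : Function.Injective a) {i : Fin N}
    (hc : ∀ j, 0 ≤ (a - Pi.single i (p : ℤ) : Fin N → ℤ) j)
    (hcinj : Function.Injective (a - Pi.single i (p : ℤ) : Fin N → ℤ)) :
    core p (a - Pi.single i (p : ℤ)) = core p a ∧
      ∑ j, qq p (a - Pi.single i (p : ℤ)) j + 1 = ∑ j, qq p a j := by
  set c : Fin N → ℤ := a - Pi.single i (p : ℤ) with hcd
  have hrr : ∀ j, rr p c j = rr p a j := rr_sub_single ha (dvd_refl _) hc
  have hqo : ∀ j, j ≠ i → qq p c j = qq p a j := fun j hj => by
    rw [qq, hcd, Pi.sub_apply, Pi.single_eq_of_ne hj, sub_zero, ← qq]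
  have hqi : qq p c i + 1 = qq p a i := by
    have h1 := coord_eq (p := p) hc i
    have h0 := coord_eq (p := p) ha i
    rw [hrr i] at h1
    simp only [hcd, Pi.sub_apply, Pi.single_eq_same] at h1
    have h2 : (p : ℤ) * ((qq p a i : ℤ) - 1) = (p : ℤ) * (qq p c i : ℤ) := by rw [hcd]; linarith
    have h3 := mul_left_cancel₀ (by exact_mod_cast hp.ne' : (p : ℤ) ≠ 0) h2
    omega
  have hsep : ∀ x y, rr p a x = rr p a y → x ≠ y → qq p c x ≠ qq p c y := fun x y hr hne he =>
    hne (qq_injOn hc hcinj (rr p a y) (Finset.mem_filter.2 ⟨Finset.mem_univ _, (hrr x).trans hr⟩)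
      (Finset.mem_filter.2 ⟨Finset.mem_univ _, hrr y⟩) he)
  have hsep' : ∀ x y, rr p a x = rr p a y → x ≠ y → qq p a x ≠ qq p a y := fun x y hr hne he =>
    hne (qq_injOn ha hinj (rr p a y) (Finset.mem_filter.2 ⟨Finset.mem_univ _, hr⟩)
      (Finset.mem_filter.2 ⟨Finset.mem_univ _, rfl⟩) he)
  refine ⟨funext fun x => ?_, ?_⟩
  · simp only [core, hrr]
    refine congrArg (fun z : ℕ => ((p * z + rr p a x : ℕ) : ℤ))
      (congrArg Finset.card (Finset.filter_congr fun j _ => ?_))
    refine and_congr_right fun hj => ?_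
    rcases eq_or_ne j x with rfl | hjx
    · simp
    have := hsep j x hj hjx
    have := hsep' j x hj hjx
    rcases eq_or_ne j i with rfl | hji
    · rw [hqo x hjx.symm] at *
      omega
    rcases eq_or_ne x i with rfl | hxi
    · rw [hqo j hji] at *
      omega
    · rw [hqo j hji, hqo x hxi]
  · have hrest : ∑ j ∈ Finset.univ.erase i, qq p c j = ∑ j ∈ Finset.univ.erase i, qq p a j :=
      Finset.sum_congr rfl fun j (hj : j ∈ Finset.univ.erase i) => hqo j (Finset.ne_of_mem_erase hj)
    rw [← Finset.add_sum_erase _ (fun j => qq p c j) (Finset.mem_univ i),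
      ← Finset.add_sum_erase _ (fun j => qq p a j) (Finset.mem_univ i), hrest]
    omega

/-- Removing `W` hooks of length `p` always leads to the core, with a positive multiplicity. -/
theorem chiM_core {p : ℕ} (hp : 0 < p) {m : ℕ → ℕ} : ∀ (W : ℕ) (a : Fin N → ℤ),
    IsW p m W a → Function.Injective a →
      (∀ i, 0 ≤ core p a i) ∧ Function.Injective (core p a) ∧
      ∑ i, core p a i + (p : ℤ) * W = ∑ i, a i ∧
      ∀ ν : Multiset ℕ, ∃ c : ℕ, 0 < c ∧
        chiM (Multiset.replicate W p + ν) a = (c : ℤ) * chiM ν (core p a) := by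
  intro W
  induction W with
  | zero =>
    intro a ha hinj
    rw [ha.core_eq hp hinj]
    exact ⟨ha.1, hinj, by simp, fun ν => ⟨1, one_pos, by simp⟩⟩
  | succ W ih =>
    intro a ha hinj
    classical
    set ok : Fin N → Prop := fun i => (∀ j, 0 ≤ (a - Pi.single i (p : ℤ) : Fin N → ℤ) j) ∧
      Function.Injective (a - Pi.single i (p : ℤ) : Fin N → ℤ) with hok
    have hstep : ∀ i, ok i → IsW p m W (a - Pi.single i (p : ℤ)) ∧
        core p (a - Pi.single i (p : ℤ)) = core p a := by
      rintro i ⟨h1, h2⟩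
      obtain ⟨h3, h4⟩ := core_sub_single hp ha.1 hinj h1 h2
      refine ⟨⟨h1, fun r hr => ?_, ?_⟩, h3⟩
      · rw [← ha.2.1 r hr]
        simp only [cnt, rr_sub_single ha.1 (dvd_refl _) h1]
      · have := ha.2.2
        omega
    obtain ⟨i₀, hi₀, hfree⟩ := exists_move hp ha hinj
    have hok₀ : ok i₀ := by
      have h0 := coord_eq (p := p) ha.1 i₀
      refine ⟨nonneg_sub_single ha.1 ?_, fun x y hxy => ?_⟩
      · have h1 : (p : ℤ) * 1 ≤ (p : ℤ) * (qq p a i₀ : ℤ) :=
          mul_le_mul_of_nonneg_left (by exact_mod_cast hi₀) (Int.natCast_nonneg p)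
        have := Int.natCast_nonneg (rr p a i₀)
        omega
      · by_contra hne
        have key : ∀ y, y ≠ i₀ → a y ≠ a i₀ - p := by
          intro y hy he
          have hry : rr p a y = rr p a i₀ := toNat_mod_of_dvd (ha.1 y) (ha.1 i₀) ⟨-1, by omega⟩
          refine hfree y hry ?_
          have h1 := coord_eq (p := p) ha.1 y
          rw [hry] at h1
          have h2 : (p : ℤ) * ((qq p a y : ℤ) + 1) = (p : ℤ) * (qq p a i₀ : ℤ) := by linarith
          have h3 := mul_left_cancel₀ (by exact_mod_cast hp.ne' : (p : ℤ) ≠ 0) h2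
          omega
        rcases eq_or_ne x i₀ with rfl | hx
        · simp only [Pi.sub_apply, Pi.single_eq_same, Pi.single_eq_of_ne (Ne.symm hne), sub_zero] at hxy
          exact key y (Ne.symm hne) hxy.symm
        rcases eq_or_ne y i₀ with rfl | hy
        · simp only [Pi.sub_apply, Pi.single_eq_same, Pi.single_eq_of_ne hne, sub_zero] at hxy
          exact key x hne hxy
        · simp only [Pi.sub_apply, Pi.single_eq_of_ne hx, Pi.single_eq_of_ne hy, sub_zero] at hxy
          exact hne (hinj hxy)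
    obtain ⟨hW₀, hcore₀⟩ := hstep i₀ hok₀
    obtain ⟨h1, h2, h3, -⟩ := ih _ hW₀ hok₀.2
    rw [hcore₀] at h1 h2 h3
    refine ⟨h1, h2, ?_, fun ν => ?_⟩
    · rw [sum_sub_single] at h3
      push_cast
      linarith
    have hterm : ∀ i, ∃ c : ℕ, (ok i → 0 < c) ∧
        chiM (Multiset.replicate W p + ν) (a - Pi.single i (p : ℤ)) = (c : ℤ) * chiM ν (core p a) := by
      intro i
      by_cases h : ok i
      · obtain ⟨hWi, hci⟩ := hstep i h
        obtain ⟨c, hc0, hc⟩ := (ih _ hWi h.2).2.2.2 ν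
        exact ⟨c, fun _ => hc0, hci ▸ hc⟩
      · refine ⟨0, fun h' => absurd h' h, ?_⟩
        rw [Nat.cast_zero, zero_mul]
        by_contra hne
        exact h ⟨(chiM_support _ _ hne).2.1, (chiM_support _ _ hne).1⟩
    choose c hc0 hc using hterm
    refine ⟨∑ i, c i, lt_of_lt_of_le (hc0 i₀ hok₀)
      (Finset.single_le_sum (fun i _ => Nat.zero_le _) (Finset.mem_univ i₀)), ?_⟩
    rw [Multiset.replicate_succ, Multiset.cons_add, chiM_cons, Nat.cast_sum, Finset.sum_mul]
    exact Finset.sum_congr rfl fun i _ => hc i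

/-- An element with the full weight in cycles of length divisible by `p` not killed by the class
function of the tuple. -/
theorem exists_element {p n : ℕ} (hp : 0 < p) {m : ℕ → ℕ} {W : ℕ} {a : Fin N → ℤ}
    (ha : IsW p m W a) (hinj : Function.Injective a) (hs : ∑ i, a i = n + ∑ i, delta N i) :
    ∃ g : Equiv.Perm (Fin n), chiG n a g ≠ 0 ∧ p * W ≤ mp p (parts g) := by
  classical
  obtain ⟨h1, h2, h3, h4⟩ := chiM_core hp W a ha hinj
  have hlow := (total_bound h2 h1).1
  have hle : p * W ≤ n := by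
    have : ((p * W : ℕ) : ℤ) ≤ n := by push_cast; omega
    exact_mod_cast this
  have hlev : ∑ i, core p a i = ((n - p * W : ℕ) : ℤ) + ∑ i, delta N i := by
    rw [Nat.cast_sub hle]; push_cast; linarith
  obtain ⟨μ, hμ⟩ : ∃ μ : (n - p * W).Partition, chiM μ.parts (core p a) ≠ 0 := by
    by_contra hno
    push Not at hno
    have h := avg_orth (n - p * W) _ (core p a) h1 hlev
    rw [match_self h2, avg, Finset.sum_eq_zero fun μ _ => by rw [hno μ]; simp] at h
    simp at h
  set ν := Multiset.replicate W p + μ.parts with hν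
  have hνs : ν.sum = n := by
    rw [hν, Multiset.sum_add, Multiset.sum_replicate, μ.parts_sum, smul_eq_mul]
    rw [mul_comm]; omega
  have hνp : ∀ i ∈ ν, 0 < i := by
    intro i hi
    rcases Multiset.mem_add.1 hi with h | h
    · rw [Multiset.eq_of_mem_replicate h]; exact hp
    · exact μ.parts_pos h
  have hne : ({g : Equiv.Perm (Fin n) | parts g = ν} : Finset (Equiv.Perm (Fin n))).Nonempty := by
    rw [← Finset.card_pos]
    have := count_perm_mul ν hνs hνp
    rcases Nat.eq_zero_or_pos #({g : Equiv.Perm (Fin n) | parts g = ν} : Finset (Equiv.Perm (Fin n)))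
      with h | h
    · rw [h, zero_mul] at this
      exact absurd this.symm (Nat.factorial_ne_zero n)
    · exact h
  obtain ⟨g, hg⟩ := hne
  refine ⟨g, ?_, ?_⟩
  · obtain ⟨c, hc0, hc⟩ := h4 μ.parts
    rw [chiG, (Finset.mem_filter.1 hg).2, hν, hc, Int.cast_ne_zero]
    exact mul_ne_zero (Int.natCast_ne_zero.2 hc0.ne') hμ
  · rw [(Finset.mem_filter.1 hg).2, hν, mp, Multiset.filter_add,
      Multiset.filter_eq_self.2 (fun x hx => (Multiset.eq_of_mem_replicate hx).symm ▸ dvd_refl p),
      Multiset.sum_add, Multiset.sum_replicate, smul_eq_mul, mul_comm W p]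
    exact Nat.le_add_right _ _

end Cfsg.Agent.Char.SymChar
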